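import Cfsg.Agent.Lib.MaxSub.Extra.Plus.Fact

/-!
The dichotomy for blocks of dimension eight.
-/

set_option autoImplicit false
set_option linter.unusedSectionVars false
set_option linter.style.haveILetI false

namespace CfsgLib.MaxSub.Extra.Plus

open Matrix Subgroup
open CfsgLib.MaxSub.QuadTwo (glEquiv coe_glEquiv glEquiv_neg mem_map_glEquiv map_normalizer)

variable {F : Type*} [Field F]

/-- In a group of order 128 an element of square `-1` has an anticommuting one in the centraliser of `c`. -/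
theorem Pre.exists_quat {ι : Type} [Fintype ι] [DecidableEq ι] {E : Subgroup (GL ι F)} (X : Pre E)
    (h128 : Nat.card E = 128) {c g : GL ι F} (hc : IZ E c) (hg : g ∈ E) (hgc : g * c = c * g) (hgg : g * g = -1) :
    ∃ r ∈ E, r * c = c * r ∧ r * g = -(g * r) ∧ r * r = -1 := by
  classical
  have hg1 : ¬ PM g 1 := fun e => by
    rcases e with rfl | rfl <;> simp at hgg <;> exact X.one_ne_neg hgg
  have hgcn : ¬ PM g c := fun e => by
    rcases e with rfl | rfl <;> simp [hc.2.1] at hgg <;> exact X.one_ne_neg hgg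
  obtain ⟨r, hr, hrc, hrg⟩ := X.exists_anti_cent hc hg hg1 hgcn
  by_cases hrr : r * r = 1
  swap
  · exact ⟨r, hr, hrc, hrg, X.sq_neg hr hrr⟩
  haveI := X.fin
  let C : Subgroup (GL ι F) := E ⊓ centralizer {c} ⊓ centralizer {g} ⊓ centralizer {r}
  have mC : ∀ {k}, k ∈ C ↔ k ∈ E ∧ k * c = c * k ∧ k * g = g * k ∧ k * r = r * k := fun {k} => by
    simp only [C, mem_inf, mem_centralizer_singleton_iff, and_assoc]
  obtain ⟨k, hk, hkk⟩ : ∃ k ∈ C, k * k ≠ 1 := by
    by_contra! hh
    haveI : Finite C := Finite.of_injective _ (inclusion_injective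
      (inf_le_left.trans (inf_le_left.trans inf_le_left) : C ≤ E))
    have h1 := X.half le_rfl hc.1
    have h3 := X.half (inf_le_left : E ⊓ centralizer {c} ≤ E) hg
    have h5 : Nat.card ↥(E ⊓ centralizer {c} ⊓ centralizer {g}) ≤ 2 * Nat.card C :=
      X.half (inf_le_left.trans inf_le_left) hr
    let D : Subgroup (GL ι F) :=
      { carrier := {x | x ∈ C ∨ x * r ∈ C}
        one_mem' := Or.inl (one_mem _)
        mul_mem' := fun {a b} ha hb => by
          have hcr : ∀ w, w * r ∈ C → r * w = w * r := fun w hw => by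
            have := (mC.1 hw).2.2.2
            rw [mul_assoc, hrr, mul_one] at this
            calc r * w = r * (w * r) * r := by rw [mul_assoc, mul_assoc w, hrr, mul_one]
              _ = w * r := by rw [← this]
          rcases ha with ha | ha <;> rcases hb with hb | hb
          · exact Or.inl (mul_mem ha hb)
          · exact Or.inr (by rw [mul_assoc]; exact mul_mem ha hb)
          · exact Or.inr (by rw [mul_assoc, (mC.1 hb).2.2.2, ← mul_assoc]; exact mul_mem ha hb)
          · refine Or.inl ?_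
            have := mul_mem ha hb
            rwa [show a * r * (b * r) = a * (r * b) * r by group, hcr b hb, ← mul_assoc a b, mul_assoc _ r r, hrr,
              mul_one] at this
        inv_mem' := fun {a} ha => by
          rcases ha with ha | ha
          · exact Or.inl (inv_mem ha)
          · refine Or.inr ?_
            have h := inv_mem ha
            have hra : r * a = a * r := by
              have := (mC.1 ha).2.2.2
              rw [mul_assoc, hrr, mul_one] at this
              calc r * a = r * (a * r) * r := by rw [mul_assoc, mul_assoc a, hrr, mul_one]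
                _ = a * r := by rw [← this]
            rw [_root_.mul_inv_rev, inv_eq_of_mul_eq_one_right hrr] at h
            rwa [(Commute.inv_right (show Commute r a from hra)).eq] at h }
    have hDE : D ≤ E := fun x hx => by
      rcases hx with hx | hx
      · exact (mC.1 hx).1
      · have := mul_mem (mC.1 hx).1 hr
        rwa [mul_assoc, hrr, mul_one] at this
    haveI : Finite D := Finite.of_injective _ (inclusion_injective hDE)
    have hD2 : ∀ x ∈ D, x * x = 1 := fun x hx => by
      rcases hx with hx | hx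
      · exact hh x hx
      · have h := hh _ hx
        have := (mC.1 hx).2.2.2
        rw [mul_assoc, hrr, mul_one] at this
        have hrx : r * x = x * r := by
          calc r * x = r * (x * r) * r := by rw [mul_assoc, mul_assoc x, hrr, mul_one]
            _ = x * r := by rw [← this]
        rwa [show x * r * (x * r) = x * (r * x) * r by group, hrx, ← mul_assoc x x, mul_assoc _ r r, hrr,
          mul_one] at h
    have hrC : r ∉ C := fun h => by
      have := (mC.1 h).2.2.1
      rw [hrg] at this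
      exact X.ne_neg _ this.symm
    have hcard : 2 * Nat.card C ≤ Nat.card D := by
      let φ : Bool × C → D := fun x => ⟨if x.1 then (x.2 : GL ι F) * r else x.2, by
        split_ifs
        · exact Or.inr (by rw [mul_assoc, hrr, mul_one]; exact x.2.2)
        · exact Or.inl x.2.2⟩
      have hφ : Function.Injective φ := by
        rintro ⟨i, a⟩ ⟨j, b⟩ e
        have e' : (if i then (a : GL ι F) * r else a) = if j then (b : GL ι F) * r else b := congrArg Subtype.val e
        have hbad : ∀ p q : C, (p : GL ι F) * r ≠ q := fun p q h => hrC (by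
          rw [show r = (p : GL ι F)⁻¹ * q by rw [← h, inv_mul_cancel_left]]
          exact mul_mem (inv_mem p.2) q.2)
        cases i <;> cases j <;> simp at e'
        · exact Prod.ext rfl e'
        · exact absurd e'.symm (hbad b a)
        · exact absurd e' (hbad a b)
        · exact Prod.ext rfl e'
      have := Nat.card_le_card_of_injective φ hφ
      rwa [Nat.card_prod, show Nat.card Bool = 2 by simp] at this
    have h7 := X.elem_sq hDE hD2
    have h9 : 32 ≤ Nat.card D := by omega
    nlinarith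
  obtain ⟨hkE, hkc, hkg, hkr⟩ := mC.1 hk
  refine ⟨r * k, mul_mem hr hkE, Pre.comm_comm hrc hkc, Pre.anti_comm hrg hkg, ?_⟩
  rw [show r * k * (r * k) = r * (k * r) * k by group, hkr, ← mul_assoc r r, hrr, one_mul, X.sq_neg hkE hkk]

variable [Fintype F] {κ : Type} [Fintype κ] [DecidableEq κ] {lam : Type} [Fintype lam] [DecidableEq lam]

local notation "GL2" => GL (κ ⊕ κ) F
local notation "GL1" => GL κ F

/-- The centraliser of `f` in the overgroup normalises the centraliser of `f` in the group. -/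
def Good (R H : Subgroup GL2) (f : GL2) : Prop :=
  ∀ h ∈ H, h * f = f * h → ∀ r ∈ R, r * f = f * r → h * r * h⁻¹ ∈ R

/-- A witness in the commutator subgroup commuting with an element of square `-1`. -/
theorem Pre.exists_wit {ι : Type} [Fintype ι] [DecidableEq ι] {E : Subgroup (GL ι F)} (X : Pre E) {g : GL ι F}
    (hg : g ∈ E) : ∃ y, y ∈ Om ι F ∧ y * g = g * y ∧ y ∉ E := by
  have h2 := X.two
  obtain ⟨_, -, -, c, -, hc, -, hcg, -, -, -⟩ := X.exists_in 1 g (one_mem _) hg
  obtain ⟨_, -, -, a, -, ha, hac, hag, hacn, -, -⟩ := X.exists_in c g hc.1 hg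
  refine ⟨root c a, X.root_iz_Om hc ha hac hacn, ?_, fun hy => ?_⟩
  · have e := root_conj h2 hc.2.1 hac g
    rw [show g * c * g⁻¹ = c by rw [← hcg, mul_inv_cancel_right], show g * a * g⁻¹ = a by
      rw [← hag, mul_inv_cancel_right]] at e
    exact (mul_inv_eq_iff_eq_mul.1 e).symm
  have hp : (root c a).1 * Extra.plus c = (1 : F) • Extra.plus c := by
    rw [root_val h2 hc.2.1 hac, rootM_plus h2 hc.2.1, one_smul]
  have hm := rootM_minus h2 hc.2.1 (c := c) a
  rw [← root_val h2 hc.2.1 hac] at hm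
  obtain ⟨δ, hδ, hd⟩ : ∃ δ : F, δ ≠ 0 ∧ a.1 * Extra.minus c = δ • Extra.minus c := by
    have hcm : c.1 * Extra.minus c = -Extra.minus c := by
      simp [Extra.minus, Matrix.mul_sub, show c.1 * c.1 = 1 from congrArg Units.val hc.2.1]
    rcases X.agree1 hc hy one_ne_zero hp with h | h <;> rcases h with h | h <;> rw [h] at hm
    · exact ⟨1, one_ne_zero, by rw [one_smul, ← hm]; simp⟩
    · exact ⟨-1, neg_ne_zero.2 one_ne_zero, by rw [neg_one_smul, ← hm]; simp⟩
    · exact ⟨-1, neg_ne_zero.2 one_ne_zero, by rw [neg_one_smul, ← hm, hcm]⟩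
    · exact ⟨1, one_ne_zero, by rw [one_smul, ← hm, Units.val_neg, Matrix.neg_mul, hcm, neg_neg]⟩
  rw [← plus_neg] at hd
  rcases X.agree1 (iz_neg X hc) ha.1 hδ hd with h | h
  · exact ha.2.2 h
  · exact hacn (h.trans (PM.negl c))

variable {R H : Subgroup (GL (κ ⊕ κ) F)}

theorem Over.transportJ {ι : Type} [Fintype ι] [DecidableEq ι] {R H : Subgroup (GL ι F)} (O : Over R H)
    (eι : ι ≃ κ ⊕ κ) (e : κ ≃ lam ⊕ lam) {z f : GL ι F} (hz : IZ R z) (hf : f ∈ R) (hff : f * f = -1)
    (hfz : f * z = -(z * f)) :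
    ∃ Ψ : Matrix ι ι F ≃ₐ[F] Matrix (κ ⊕ κ) (κ ⊕ κ) F, OIso Ψ ∧ glEquiv Ψ z = Z0 ∧ glEquiv Ψ f = JJ ∧
      Std (R.map (glEquiv Ψ).toMonoidHom) := by
  have h2 := O.pre.two
  obtain ⟨w, hwd⟩ : ∃ w, w = z * f := ⟨_, rfl⟩
  have hwz : w * z = -(z * w) := by
    rw [hwd, mul_assoc, hfz, mul_neg]
  have hww : w * w = 1 := by
    rw [hwd, show z * f * (z * f) = z * (f * z) * f by group, hfz, mul_neg, neg_mul, ← mul_assoc z z f, hz.2.1,
      one_mul, hff, neg_neg]
  have hw : IZ R w := ⟨hwd ▸ mul_mem hz.1 hf, hww, O.pre.not_pm (Pre.anti_symm hwz)⟩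
  set Φ := Matrix.reindexAlgEquiv F F eι
  have hΦ : OIso Φ := reindex_OIso h2 eι
  obtain ⟨g, hg, h1, h3⟩ := exists_std (O.map hΦ).pre e (IZ.map hz Φ) (IZ.map hw Φ)
    (by rw [← map_mul, hwz, glEquiv_neg, map_mul])
  have hΨ : OIso (Φ.trans (cjAlg g)) := hΦ.trans (cj_OIso h2 hg)
  have ez : glEquiv (Φ.trans (cjAlg g)) z = Z0 := by rw [glEquiv_trans, glEquiv_cj, h1]
  have ew : glEquiv (Φ.trans (cjAlg g)) w = swp := by rw [glEquiv_trans, glEquiv_cj, h3]
  refine ⟨Φ.trans (cjAlg g), hΨ, ez, ?_, (O.map hΨ).pre, (O.map hΨ).big, ⟨z, hz.1, ez⟩, ⟨w, hw.1, ew⟩⟩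
  rw [JJ, ← ez, ← ew, ← map_mul, hwd, ← mul_assoc, hz.2.1, one_mul]

/-- The dichotomy at `J`. -/
def JDich (κ : Type) (F : Type*) [Fintype κ] [DecidableEq κ] [Field F] : Prop :=
  ∀ R H : Subgroup (GL (κ ⊕ κ) F), Over R H → Std R → Good R H JJ ∨ Om κ F ≤ proj1 H

theorem Over.good (hJ : JDich κ F) (e : κ ≃ lam ⊕ lam) (hκ : Fintype.card κ = 8) (O : Over R H) {f : GL2}
    (hf : f ∈ R) (hff : f * f = -1) : Good R H f := by
  have h2 := O.pre.two
  -- at a given involution
  have at_z : ∀ {R H : Subgroup GL2}, Over R H → ∀ {z f : GL2}, IZ R z → f ∈ R → f * f = -1 → f * z = -(z * f) →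
      Good R H f ∨ ∀ g ∈ Om (κ ⊕ κ) F, g * z = z * g → g.1 * Extra.minus z = Extra.minus z → g ∈ H := by
    intro R H O z f hz hf hff hfz
    obtain ⟨Ψ, hΨ, hΨz, hΨf, S'⟩ := O.transportJ (Equiv.refl _) e hz hf hff hfz
    rcases hJ _ _ (O.map hΨ) S' with hg | hfull
    · refine Or.inl fun h hh hhf r hr hrf => ?_
      have := hg _ ⟨h, hh, rfl⟩ (by rw [← hΨf]; exact (Commute.map (show Commute h f from hhf) (glEquiv Ψ)).eq)
        _ ⟨r, hr, rfl⟩ (by rw [← hΨf]; exact (Commute.map (show Commute r f from hrf) (glEquiv Ψ)).eq)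
      rw [MulEquiv.coe_toMonoidHom, ← map_mul, ← map_inv, ← map_mul] at this
      exact mem_map_glEquiv.1 this
    · exact Or.inr fun g hg hgz hfix => of_full_image (by omega) hΨ O.pre.two hΨz
        ((O.map hΨ).full_of_proj (by omega) S' hfull) hg hgz hfix
  have hfn : ¬ PM f 1 := fun h => by
    rcases h with rfl | rfl <;> simp at hff <;> exact O.pre.one_ne_neg hff
  obtain ⟨z, hz, hzf⟩ := O.pre.exists_iz_anti hf hfn
  refine (at_z O hz hf hff (Pre.anti_symm hzf)).resolve_right fun hfull => ?_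
  obtain ⟨Ψ, hΨ, hΨz, -, S⟩ := O.transportJ (Equiv.refl _) e hz hf hff (Pre.anti_symm hzf)
  have O' := O.map hΨ
  have hfull' : ∀ y ∈ Om κ F, emb (y, 1) ∈ H.map (glEquiv Ψ).toMonoidHom := fun y hy => by
    obtain ⟨g, hg⟩ := (glEquiv Ψ).surjective (emb (y, 1))
    rw [← hg]
    refine mem_map_glEquiv.2 (hfull g (hΨ.om.1 (hg ▸ emb_one_Om h2 hy)) ((glEquiv Ψ).injective (by
      rw [map_mul, map_mul, hg, hΨz, emb_comm_Z0])) (Ψ.injective ?_))
    rw [map_mul, show Ψ (Extra.minus z) = Extra.minus (glEquiv Ψ z) by simp [Extra.minus], hΨz, ← coe_glEquiv, hg,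
      emb_val, Extra.minus, Z0_val, ← fromBlocks_one, blocks_sub, fromBlocks_multiply]
    simp
  refine full_absurd (fun c hc g hg hgz hfix => ?_) (by omega) O' S hfull'
  obtain ⟨r, hr, hrc, hrr⟩ : ∃ r ∈ side (R.map (glEquiv Ψ).toMonoidHom), r * c = -(c * r) ∧ r * r = -1 := by
    obtain ⟨r, hr, hrc⟩ := S.side_pre.anti hc.1 hc.2.2
    by_cases hr2 : r * r = 1
    · refine ⟨r * c, mul_mem hr hc.1, Pre.anti_comm hrc rfl, ?_⟩
      rw [show r * c * (r * c) = r * (c * r) * c by group, show c * r = -(r * c) from Pre.anti_symm hrc, mul_neg,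
        neg_mul, ← mul_assoc r r, hr2, one_mul, hc.2.1]
    · exact ⟨r, hr, hrc, S.side_pre.sq_neg hr hr2⟩
  obtain ⟨f', hf'⟩ : ∃ f', f' = emb (r, r) := ⟨_, rfl⟩
  refine (at_z O' (S.iz_diag hc) (f := f') (hf' ▸ mem_side.1 hr)
    (by rw [hf', emb_mul, hrr, emb_neg, emb_one])
    (by rw [hf', emb_mul, emb_mul, ← emb_neg, hrc])).resolve_left (fun hgood => ?_) g hg hgz hfix
  obtain ⟨y, hy, hyr, hyn⟩ := S.side_pre.exists_wit hr
  have h1 := hgood _ (hfull' y hy) (by rw [hf', emb_mul, emb_mul, one_mul, mul_one, hyr]) swp S.hs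
    (by rw [hf', swp_emb])
  rw [mul_assoc, emb_inv, inv_one, swp_emb, ← mul_assoc, emb_mul, mul_one, one_mul] at h1
  have h3 := mul_mem h1 S.hs
  rw [mul_assoc, swp_sq, mul_one] at h3
  obtain ⟨d, hd, h5 | h5⟩ := S.cent_cases h3 (emb_comm_Z0 _ _) <;> exact hyn ((emb_inj.1 h5).1 ▸ hd)

/-- The dichotomy in dimension eight. -/
theorem dich_of_jdich (hJ : JDich κ F) (e : κ ≃ lam ⊕ lam) (hκ : Fintype.card κ = 8) : Dich κ F := fun R H O S => by
  have h2 := S.two
  have X := S.side_pre
  have h128 : Nat.card (side R) = 128 := by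
    have h1 := S.pre.degree S.big
    have := S.side_card
    rw [Fintype.card_sum, hκ] at h1
    omega
  have hdiag : ∀ {g : GL1}, emb (g, g) ∈ H → g ∈ normalizer (side R : Set GL1) := fun {g} hg => by
    haveI := S.side_finite
    refine norm_of_conj_mem fun x hx => ?_
    have h1 := O.good hJ e hκ S.JJ_mem JJ_sq _ hg (emb_comm_JJ g) _ (mem_side.1 hx) (emb_comm_JJ x)
    rw [emb_mul, emb_inv, emb_mul] at h1
    obtain ⟨d, hd, h5 | h5⟩ := S.cent_cases h1 (emb_comm_Z0 _ _) <;>
    · rw [(emb_inj.1 h5).1]; exact hd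
  have semi0 : ∀ {t g : GL1}, emb (t, 1) ∈ H → g ∈ side R → g * g = -1 → t * g = g * t → t ∈ side R := by
    intro t g ht hg hgg htg
    have h1 := O.good hJ e hκ (f := emb (g, g)) (mem_side.1 hg) (by rw [emb_mul, hgg, emb_neg, emb_one]) _ ht
      (by rw [emb_mul, emb_mul, one_mul, mul_one, htg]) swp S.hs (swp_emb g g)
    rw [mul_assoc, emb_inv, inv_one, swp_emb, ← mul_assoc, emb_mul, mul_one, one_mul] at h1
    have h3 := mul_mem h1 S.hs
    rw [mul_assoc, swp_sq, mul_one] at h3
    obtain ⟨d, hd, h5 | h5⟩ := S.cent_cases h3 (emb_comm_Z0 _ _) <;> exact (emb_inj.1 h5).1 ▸ hd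
  have key : H.comap (emb.comp (MonoidHom.inl GL1 GL1)) ≤ side R := by
    refine X.kernel (fun g hg => O.emb_one_mem S hg) (fun t ht => ?_) (fun c g hc hg hgc t ht => ?_)
      fun t ht c hc htc => ?_
    · refine hdiag ?_
      have := mul_mem (show emb (t, (1 : GL1)) ∈ H from ht) (O.swap_mem S ht)
      rwa [emb_mul, mul_one, one_mul] at this
    · have hd := O.diag_mem S (X.root_mem hc hg hgc) (X.root_norm hc hg hgc)
      show emb (_, (1 : GL1)) ∈ H
      have := mul_mem (mul_mem hd (show emb (t, (1 : GL1)) ∈ H from ht)) (inv_mem hd)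
      rwa [emb_mul, emb_inv, emb_mul, mul_one, mul_inv_cancel] at this
    · have htH : emb (t, (1 : GL1)) ∈ H := ht
      have htN : t ∈ normalizer (side R : Set GL1) := hdiag (by
        have := mul_mem htH (O.swap_mem S htH)
        rwa [emb_mul, mul_one, one_mul] at this)
      -- the action on elements of square minus one
      have act : ∀ d ∈ side R, d * c = c * d → d * d = -1 →
          PM (t * d * t⁻¹) d ∨ PM (t * d * t⁻¹) (c * d) := by
        intro d hd hdc hdd
        obtain ⟨d', hd'⟩ : ∃ d', d' = t * d * t⁻¹ := ⟨_, rfl⟩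
        have hd'R : d' ∈ side R := hd' ▸ (Subgroup.mem_normalizer_iff.1 htN d).1 hd
        have hd'c : d' * c = c * d' := by
          have := (Commute.map (show Commute d c from hdc) (MulAut.conj t)).eq
          simp only [MulAut.conj_apply] at this
          rwa [← hd', show t * c * t⁻¹ = c by rw [htc, mul_inv_cancel_right]] at this
        have hdi : d⁻¹ * c = c * d⁻¹ := (Commute.inv_left (show Commute d c from hdc)).eq
        obtain ⟨q, hq⟩ : ∃ q, q = d' * d⁻¹ := ⟨_, rfl⟩
        have hqR : q ∈ side R := hq ▸ mul_mem hd'R (inv_mem hd)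
        have hqc : q * c = c * q := hq ▸ Pre.comm_comm hd'c hdi
        have ht' : emb (root c q, (1 : GL1)) ∈ H := by
          have hs := O.diag_mem S (X.root_mem hc hd hdc) (X.root_norm hc hd hdc)
          have h1 := mul_mem htH (mul_mem (mul_mem hs (inv_mem htH)) (inv_mem hs))
          simp only [emb_inv, emb_mul, inv_one, mul_one, one_mul, mul_inv_cancel] at h1
          rwa [show t * (root c d * t⁻¹ * (root c d)⁻¹) = root c q by
            rw [← mul_assoc, ← mul_assoc, root_conj h2 hc.2.1 hdc t,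
              show t * c * t⁻¹ = c by rw [htc, mul_inv_cancel_right], ← hd', root_inv h2 hc.2.1 hdc,
              root_mul h2 hc.2.1 hdi hd'c, hq]] at h1
        have hfixg : ∀ x, x * c = c * x → x * q = q * x → root c q * x = x * root c q := fun x h1 h3 => by
          have e' := root_conj h2 hc.2.1 hqc x
          rw [show x * c * x⁻¹ = c by rw [h1, mul_inv_cancel_right], show x * q * x⁻¹ = q by
            rw [h3, mul_inv_cancel_right]] at e'
          exact (mul_inv_eq_iff_eq_mul.1 e').symm
        have htS : root c q ∈ side R := by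
          rcases X.comm d' hd'R d hd with hc' | hc'
          · refine semi0 ht' hd hdd (hfixg d hdc ?_)
            rw [hq, ← mul_assoc, ← hc', mul_assoc, mul_assoc, mul_inv_cancel, inv_mul_cancel]
          · refine semi0 ht' hqR ?_ (hfixg q hqc rfl)
            have hd'2 : d' * d' = -1 := by
              rw [hd', show t * d * t⁻¹ * (t * d * t⁻¹) = t * (d * d) * t⁻¹ by group, hdd]; simp
            have hdi' : d⁻¹ = -d := inv_eq_of_mul_eq_one_right (by rw [mul_neg, hdd, neg_neg])
            rw [hq, hdi', mul_neg, neg_mul_neg, show d' * d * (d' * d) = d' * (d * d') * d by group,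
              show d * d' = -(d' * d) from Pre.anti_symm hc', mul_neg, neg_mul, ← mul_assoc d' d', hd'2, mul_assoc,
              hdd, neg_mul_neg, one_mul]
        have hp : (root c q).1 * Extra.plus c = (1 : F) • Extra.plus c := by
          rw [root_val h2 hc.2.1 hqc, rootM_plus h2 hc.2.1, one_smul]
        have hm := rootM_minus h2 hc.2.1 (c := c) q
        rw [← root_val h2 hc.2.1 hqc] at hm
        obtain ⟨δ, hδ, hq'⟩ : ∃ δ : F, δ ≠ 0 ∧ q.1 * Extra.minus c = δ • Extra.minus c := by
          have hcm : c.1 * Extra.minus c = -Extra.minus c := by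
            simp [Extra.minus, Matrix.mul_sub, show c.1 * c.1 = 1 from congrArg Units.val hc.2.1]
          rcases X.agree1 hc htS one_ne_zero hp with h | h <;> rcases h with h | h <;> rw [h] at hm
          · exact ⟨1, one_ne_zero, by rw [one_smul, ← hm]; simp⟩
          · exact ⟨-1, neg_ne_zero.2 one_ne_zero, by rw [neg_one_smul, ← hm]; simp⟩
          · exact ⟨-1, neg_ne_zero.2 one_ne_zero, by rw [neg_one_smul, ← hm, hcm]⟩
          · exact ⟨1, one_ne_zero, by rw [one_smul, ← hm, Units.val_neg, Matrix.neg_mul, hcm, neg_neg]⟩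
        rw [← plus_neg] at hq'
        have hd'q : d' = q * d := by rw [hq, inv_mul_cancel_right]
        rw [← hd']
        rcases X.agree1 (iz_neg X hc) hqR hδ hq' with h | h
        · left
          have := h.mul (PM.refl d)
          rwa [← hd'q, one_mul] at this
        · right
          have := (h.trans (PM.negl c)).mul (PM.refl d)
          rwa [← hd'q] at this
      obtain ⟨g1, hg1, hg1c, hg1t⟩ : ∃ g ∈ side R, g * g = -1 ∧ PM (t * g * t⁻¹) g := by
        obtain ⟨r₀, hr₀, hr₀c⟩ := X.anti hc.1 hc.2.2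
        obtain ⟨g, hg, hgc, -, hgg'⟩ := X.cent_two_sq hc.1 hr₀ hr₀c
        have hgg := X.sq_neg hg hgg'
        rcases act g hg hgc hgg with h | h
        · exact ⟨g, hg, hgg, h⟩
        obtain ⟨g', hg', hg'c, hanti, hg'g'⟩ := X.exists_quat h128 hc hg hgc hgg
        rcases act g' hg' hg'c hg'g' with h' | h'
        · exact ⟨g', hg', hg'g', h'⟩
        refine ⟨g' * g, mul_mem hg' hg, ?_, ?_⟩
        · rw [show g' * g * (g' * g) = g' * (g * g') * g by group, show g * g' = -(g' * g) from Pre.anti_symm hanti,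
            mul_neg, neg_mul, ← mul_assoc g' g', hg'g', mul_assoc, hgg, neg_mul_neg, one_mul]
        · have h5 := h'.mul h
          rw [show t * g' * t⁻¹ * (t * g * t⁻¹) = t * (g' * g) * t⁻¹ by group,
            show c * g' * (c * g) = g' * g by
              rw [show c * g' * (c * g) = c * (g' * c) * g by group, hg'c, ← mul_assoc c c, hc.2.1, one_mul]] at h5
          exact h5
      rcases hg1t with h | h
      · exact semi0 htH hg1 hg1c (mul_inv_eq_iff_eq_mul.1 h)
      · obtain ⟨r, hr, hrg⟩ := X.anti hg1 (fun h' => by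
          rcases h' with rfl | rfl <;> simp at hg1c <;> exact X.one_ne_neg hg1c)
        have h1 : t * g1 = -(g1 * t) := by rw [mul_inv_eq_iff_eq_mul] at h; rw [h, neg_mul]
        have h3 : emb (r * t, (1 : GL1)) ∈ H := by
          have := mul_mem (O.emb_one_mem S hr) htH
          rwa [emb_mul, mul_one] at this
        exact (Subgroup.mul_mem_cancel_left _ hr).1 (semi0 h3 hg1 hg1c (Pre.anti_anti hrg h1))
  refine Or.inl fun a b hab => ?_
  haveI := S.side_finite
  refine norm_of_conj_mem fun s hs => ?_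
  have h1 : emb (a * s * a⁻¹, (1 : GL1)) ∈ H := by
    have := mul_mem (mul_mem hab (O.emb_one_mem S hs)) (inv_mem hab)
    rwa [emb_mul, emb_inv, emb_mul, mul_one, mul_inv_cancel] at this
  exact key h1

end CfsgLib.MaxSub.Extra.Plus
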