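import Cfsg.Agent.Lib.MaxSub.Extra.Gen.Expand

/-!
The degree of an absolutely irreducible group with commutators and scalars `±1` is the root of half its order.
-/

set_option autoImplicit false
set_option linter.unusedSectionVars false

namespace CfsgLib.MaxSub.Extra.Plus

open Matrix Subgroup

variable {F : Type*} [Field F] {ι : Type} [Fintype ι] [DecidableEq ι]

local notation "M" => Matrix ι ι F

theorem degree_of_raw [Nonempty ι] {R : Subgroup (GL ι F)} [Finite R] (h2 : (2 : F) ≠ 0)
    (hR : (Nat.card R : F) ≠ 0) (hneg : -1 ∈ R) (hcomm : ∀ x ∈ R, ∀ y ∈ R, x * y = y * x ∨ x * y = -(y * x))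
    (hcen : ∀ x ∈ R, (∀ y ∈ R, x * y = y * x) → PM x 1)
    (irr : ∀ A : M, (∀ s ∈ R, A * (s : M) = (s : M) * A) → ∃ c : F, A = c • 1) :
    Nat.card R = 2 * (Fintype.card ι * Fintype.card ι) := by
  classical
  haveI := Fintype.ofFinite R
  obtain ⟨hn, -⟩ := Gen.degree_le (R := R) hR irr
  have hne : (1 : GL ι F) ≠ -1 := fun h => by
    have e : (1 : M) = -(1 : M) := congrArg Units.val h
    have h' := congrFun (congrFun e (Classical.arbitrary ι)) (Classical.arbitrary ι)
    simp at h'
    exact h2 (by linear_combination h')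
  have htr : ∀ {x : GL ι F}, x ∈ R → ¬ PM x 1 → (x : M).trace = 0 := fun {x} hx hp => by
    obtain ⟨q, hq, hqx⟩ : ∃ q ∈ R, q * x = -(x * q) := by
      by_contra! hh
      exact hp (hcen x hx fun r hr => ((hcomm r hr x hx).resolve_right (hh r hr)).symm)
    have h1 : ((q : M) * x * (q⁻¹ : GL ι F).1).trace = (x : M).trace := by
      rw [Matrix.trace_mul_comm, ← Matrix.mul_assoc, Units.inv_mul, Matrix.one_mul]
    rw [show (q : M) * x = -((x : M) * q) from congrArg Units.val hqx, Matrix.neg_mul, Matrix.mul_assoc, Units.mul_inv,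
      Matrix.mul_one, Matrix.trace_neg] at h1
    exact mul_left_cancel₀ h2 (by rw [mul_zero]; linear_combination -h1)
  let Z : Subgroup R :=
    { carrier := {x | PM (x : GL ι F) 1}
      one_mem' := Or.inl rfl
      mul_mem' := fun {a b} ha hb => by
        show PM ((a : GL ι F) * (b : GL ι F)) 1
        have := PM.mul ha hb
        rwa [one_mul] at this
      inv_mem' := fun {a} ha => by
        rcases ha with e | e
        · exact Or.inl (by simp [e])
        · exact Or.inr (by
            rw [InvMemClass.coe_inv, e]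
            exact inv_eq_of_mul_eq_one_right (by simp)) }
  have hZ : ∀ {x : R}, x ∈ Z ↔ PM (x : GL ι F) 1 := fun {x} => Iff.rfl
  have hZc : Nat.card Z = 2 := by
    rw [Nat.card_eq_two_iff]
    refine ⟨⟨1, one_mem Z⟩, ⟨⟨-1, hneg⟩, hZ.2 (PM.negl 1)⟩, fun e => hne
      (congrArg (fun w : Z => ((w : R) : GL ι F)) e), Set.eq_univ_iff_forall.2 fun w => ?_⟩
    rcases hZ.1 w.2 with e | e
    · exact Or.inl (Subtype.ext (Subtype.ext e))
    · exact Or.inr (Subtype.ext (Subtype.ext e))
  haveI : Fintype (R ⧸ Z) := Fintype.ofFinite _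
  let v : R ⧸ Z → M := fun q => ((q.out : R) : GL ι F).1
  have hv : LinearIndependent F v := by
    rw [Fintype.linearIndependent_iff]
    intro g hg p
    have e := congrArg (fun Y : M => ((((p.out : R) : GL ι F)⁻¹ : GL ι F).1 * Y).trace) hg
    simp only [Finset.mul_sum, Matrix.trace_sum, Matrix.mul_smul, Matrix.trace_smul, Matrix.mul_zero,
      Matrix.trace_zero] at e
    rw [Finset.sum_eq_single p] at e
    · simp only [v, Units.inv_mul, Matrix.trace_one, smul_eq_mul] at e
      exact (mul_eq_zero.1 e).resolve_right hn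
    · intro q _ hq
      rw [← Units.val_mul, htr (mul_mem (inv_mem p.out.2) q.out.2) (fun hpm => hq ?_), smul_zero]
      rw [← QuotientGroup.out_eq' p, ← QuotientGroup.out_eq' q, eq_comm, QuotientGroup.eq]
      exact hZ.2 hpm
    · exact fun hh => absurd (Finset.mem_univ p) hh
  have hsp : ⊤ ≤ Submodule.span F (Set.range v) := fun A _ => by
    have hr : ∀ r : R, ((r : GL ι F) : M) ∈ Submodule.span F (Set.range v) := fun r => by
      have hm : ((QuotientGroup.mk r : R ⧸ Z).out)⁻¹ * r ∈ Z := QuotientGroup.eq.1 (QuotientGroup.out_eq' _)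
      have hv' : v (QuotientGroup.mk r) ∈ Submodule.span F (Set.range v) := Submodule.subset_span ⟨_, rfl⟩
      rcases hZ.1 hm with e | e <;> rw [Subgroup.coe_mul, InvMemClass.coe_inv, inv_mul_eq_iff_eq_mul] at e <;> rw [e]
      · rw [mul_one]; exact hv'
      · rw [mul_neg_one, Units.val_neg]; exact neg_mem hv'
    rw [← inv_smul_smul₀ (mul_ne_zero hR (inv_ne_zero hn)) A, ← Gen.expand_of_irr hn irr A]
    exact Submodule.smul_mem _ _ (Submodule.sum_mem _ fun r _ => Submodule.smul_mem _ _ (hr r))
  have hb := Module.finrank_eq_card_basis (Module.Basis.mk hv hsp)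
  rw [Module.finrank_matrix, Module.finrank_self, mul_one] at hb
  rw [Subgroup.card_eq_card_quotient_mul_card_subgroup Z, hZc, Nat.card_eq_fintype_card, ← hb, mul_comm]

end CfsgLib.MaxSub.Extra.Plus
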