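import Cfsg.Agent.Lib.MaxSub.Extra.Plus.Step
import Cfsg.Agent.Lib.MaxSub.Extra.Gen.Expand

/-!
The dichotomy for the blocks from the theorem in half the dimension.
-/

set_option autoImplicit false
set_option linter.unusedSectionVars false
set_option linter.style.haveILetI false

namespace CfsgLib.MaxSub.Extra.Plus

open Matrix Subgroup

variable {F : Type*} [Field F]

section Order

variable {ι : Type} [Fintype ι] [DecidableEq ι] {R : Subgroup (GL ι F)}

theorem Pre.pow2 (X : Pre R) : ∃ m, Nat.card R = 2 ^ m := by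
  haveI := X.fin
  haveI : Fact (Nat.Prime 2) := ⟨Nat.prime_two⟩
  refine IsPGroup.iff_card.1 fun x => ⟨2, Subtype.ext ?_⟩
  show (x : GL ι F) ^ 4 = 1
  rcases X.sq x x.2 with e | e <;> rw [show (4 : ℕ) = 2 + 2 from rfl, pow_add, pow_two, e]
  · rw [one_mul]
  · rw [neg_mul_neg, one_mul]

theorem Pre.degree (X : Pre R) (h : 512 ≤ Nat.card R) : Nat.card R = 2 * (Fintype.card ι * Fintype.card ι) :=
  (X.ext h).degree X.pow2

end Order

/-- The theorem in a given dimension. -/
def Norm (ι : Type) (F : Type*) [Fintype ι] [DecidableEq ι] [Field F] : Prop :=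
  ∀ R H : Subgroup (GL ι F), Over R H → H ≤ normalizer (R : Set (GL ι F))

variable [Fintype F] {κ : Type} [Fintype κ] [DecidableEq κ]

/-- The projection of the centraliser of `Z0` to the first block. -/
def proj1 (H : Subgroup (GL (κ ⊕ κ) F)) : Subgroup (GL κ F) :=
  (H.comap emb).map (MonoidHom.fst (GL κ F) (GL κ F))

theorem mem_proj1 {H : Subgroup (GL (κ ⊕ κ) F)} {a : GL κ F} : a ∈ proj1 H ↔ ∃ b, emb (a, b) ∈ H := by
  simp [proj1, Subgroup.mem_map]

theorem Over.proj1_le {R H : Subgroup (GL (κ ⊕ κ) F)} (O : Over R H) (S : Std R) : proj1 H ≤ Og κ F := fun a ha => by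
  obtain ⟨b, hb⟩ := mem_proj1.1 ha
  exact ((emb_mem_Og S.two).1 (O.high hb)).1

/-- If the projection contains the commutator subgroup then so does the block. -/
theorem Over.full_of_proj {R H : Subgroup (GL (κ ⊕ κ) F)} (hn : 5 ≤ Fintype.card κ) (O : Over R H) (S : Std R)
    (h : Om κ F ≤ proj1 H) : ∀ y ∈ Om κ F, emb (y, 1) ∈ H := by
  let K : Subgroup (GL κ F) := H.comap (emb.comp (MonoidHom.inl (GL κ F) (GL κ F)))
  have hK : Om κ F ≤ K := by
    refine Om_le_of_normal S.two hn (fun y hy x hx => ?_) ?_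
    · obtain ⟨b, hb⟩ := mem_proj1.1 (h hy)
      show emb (_, (1 : GL κ F)) ∈ H
      have := mul_mem (mul_mem hb (show emb (x, (1 : GL κ F)) ∈ H from hx)) (inv_mem hb)
      rwa [emb_mul, emb_inv, emb_mul, mul_one, mul_inv_cancel] at this
    · obtain ⟨_, -, -, e, -, he, -⟩ := S.side_pre.exists_in 1 1 (one_mem _) (one_mem _)
      obtain ⟨r, hr, hre⟩ := S.side_pre.anti he.1 he.2.2
      refine ⟨e, O.emb_one_mem S he.1, S.side_pre.le_Om he.1, r, S.side_pre.le_Om hr, fun h' => ?_⟩
      rw [← h'] at hre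
      exact S.ne_neg1 _ hre
  exact fun y hy => hK hy

/-- The dichotomy from the theorem in half the dimension. -/
theorem dich_of_norm (hn : 16 ≤ Fintype.card κ) (hP : Norm κ F) : Dich κ F := fun R H O S => by
  by_cases h : Om κ F ≤ proj1 H
  · exact Or.inr (O.full_of_proj (by omega) S h)
  refine Or.inl fun a b hab => ?_
  have hbig : 512 ≤ Nat.card (side R) := by
    have h1 := S.pre.degree S.big
    have h3 := S.side_card
    rw [Fintype.card_sum] at h1
    nlinarith
  refine hP (side R) (proj1 H) ⟨S.side_pre, hbig, fun x hx => ?_, O.proj1_le S, h⟩ (mem_proj1.2 ⟨b, hab⟩)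
  exact mem_proj1.2 ⟨x, O.diag_mem S (Om_le hx.2) hx.1⟩

/-- All dimensions `2^(k+4)` from the dichotomy in dimension eight. -/
theorem norm_pow (base : Dich (Fin (2 ^ 3)) F) :
    ∀ (k : ℕ) (ι : Type) [Fintype ι] [DecidableEq ι], Fintype.card ι = 2 ^ (k + 4) → Norm ι F := by
  have split : ∀ (m : ℕ) (ι : Type) [Fintype ι], Fintype.card ι = 2 ^ (m + 1) →
      Nonempty (ι ≃ Fin (2 ^ m) ⊕ Fin (2 ^ m)) := fun m ι _ h =>
    ⟨Fintype.equivOfCardEq (by rw [h, Fintype.card_sum, Fintype.card_fin, pow_succ]; ring)⟩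
  intro k
  induction k with
  | zero =>
    intro ι _ _ hι R H O
    obtain ⟨eι⟩ := split 3 ι hι
    obtain ⟨e⟩ := split 2 (Fin (2 ^ 3)) (by simp)
    exact O.le_norm base e (by simp) eι
  | succ k ih =>
    intro ι _ _ hι R H O
    obtain ⟨eι⟩ := split (k + 4) ι hι
    obtain ⟨e⟩ := split (k + 3) (Fin (2 ^ (k + 4))) (by simp)
    have h16 : 16 ≤ Fintype.card (Fin (2 ^ (k + 4))) := by
      rw [Fintype.card_fin, pow_add]
      have := Nat.one_le_two_pow (n := k)
      omega
    exact O.le_norm (dich_of_norm h16 (ih _ (by simp))) e (by omega) eι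

end CfsgLib.MaxSub.Extra.Plus
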