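import Cfsg.Agent.Lib.MaxSub.Extra.Quad.Local

/-!
The normaliser of `4 ∘ 2^(1+2m)` is generated by the group, the scalars and the square roots of its involutions.
-/

set_option autoImplicit false
set_option linter.unusedSectionVars false

namespace CfsgLib.MaxSub.QuadTwo.Sym

open Matrix Subgroup CfsgLib.PauliFour CfsgLib.MaxSub.Extra

variable {F : Type*} [Field F] {ι : Type} [Fintype ι] [DecidableEq ι] {R : Subgroup (GL ι F)} {u : Fˣ} (X : Sym R u)
include X

/-- What commutes with the centraliser of fixed elements is fixed. -/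
theorem fixed_of_cent {g : GL ι F} (L : List (GL ι F)) (hL : ∀ l ∈ L, l ∈ R ∧ g * l * g⁻¹ = l) :
    ∀ x ∈ R, (∀ r ∈ R, (∀ l ∈ L, Commute r l) → Commute r x) → g * x * g⁻¹ = x := by
  induction L with
  | nil =>
    intro x _ h
    rw [((X.central fun r hr => h r hr (by simp)).commute g).eq.symm, mul_inv_cancel_right]
  | cons l L ih =>
    intro x hx h
    have hL' := fun m hm => hL m (List.mem_cons_of_mem _ hm)
    obtain ⟨hl, hlg⟩ := hL l List.mem_cons_self
    by_cases h0 : ∀ r ∈ R, (∀ m ∈ L, Commute r m) → Commute r x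
    · exact ih hL' x hx h0
    push Not at h0
    obtain ⟨y, hy, hyL, hyx⟩ := h0
    have hyx' : Anti y x := (X.comm y hy x hx).resolve_left hyx
    have hcons : ∀ {r}, Commute r l → (∀ m ∈ L, Commute r m) → ∀ m ∈ l :: L, Commute r m := fun {r} h1 h3 m hm => by
      rcases List.mem_cons.1 hm with rfl | hm
      exacts [h1, h3 m hm]
    have hyl : Anti y l := (X.comm y hy l hl).resolve_left fun e => hyx (h y hy (hcons e hyL))
    have e := ih hL' (x * l) (mul_mem hx hl) fun z hz hzL => by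
      rcases X.comm z hz l hl with hzl | hzl
      · exact (h z hz (hcons hzl hzL)).mul_right hzl
      · have hzy := h (z * y) (mul_mem hz hy)
          (hcons ((hzl.symm.mul_anti hyl.symm).symm) fun m hm => (hzL m hm).mul_left (hyL m hm))
        rcases X.comm z hz x hx with hzx | hzx
        · exact absurd hzy fun e' => X.not_anti e'.symm (Anti.comm_mul' hzx.symm hyx'.symm)
        · exact hzx.mul_anti hzl
    calc g * x * g⁻¹ = g * (x * l) * g⁻¹ * (g * l * g⁻¹)⁻¹ := by group
      _ = x := by rw [e, hlg, mul_inv_cancel_right]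

/-- The normaliser is generated by the group, the scalars and the square roots. -/
theorem norm_le {M : Subgroup (GL ι F)} (hR : R ≤ M) (hsc : ∀ c : Fˣ, (sc c : GL ι F) ∈ M)
    (htau : ∀ c, IQ R c → tau u c ∈ M) : normalizer (R : Set (GL ι F)) ≤ M := by
  classical
  intro g₀ hg₀
  haveI := X.fin
  haveI := X.nonempty
  have key : ∀ L : List (GL ι F), (∀ l ∈ L, l ∈ R) →
      ∃ π ∈ M, π ∈ normalizer (R : Set (GL ι F)) ∧ ∀ l ∈ L, (π * g₀) * l * (π * g₀)⁻¹ = l := by
    intro L hL
    induction L with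
    | nil => exact ⟨1, one_mem _, one_mem _, by simp⟩
    | cons e L ih =>
      have heR := hL e List.mem_cons_self
      have hL' := fun m hm => hL m (List.mem_cons_of_mem _ hm)
      obtain ⟨π, hπM, hπN, hfix⟩ := ih hL'
      obtain ⟨g, hg⟩ : ∃ g, g = π * g₀ := ⟨_, rfl⟩
      rw [← hg] at hfix
      have hgN : g ∈ normalizer (R : Set (GL ι F)) := hg ▸ mul_mem hπN hg₀
      have hgR : ∀ {r}, r ∈ R → g * r * g⁻¹ ∈ R := fun {r} hr => (Subgroup.mem_normalizer_iff.1 hgN r).1 hr
      by_cases hall : ∀ r ∈ R, (∀ l ∈ L, Commute r l) → Commute r e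
      · have he := X.fixed_of_cent L (g := g) (fun l hl => ⟨hL' l hl, hfix l hl⟩) e heR hall
        refine ⟨π, hπM, hπN, fun l hl => ?_⟩
        rw [← hg]
        rcases List.mem_cons.1 hl with rfl | hl
        exacts [he, hfix l hl]
      push Not at hall
      obtain ⟨a, ha, haL, hae⟩ := hall
      have hae' : Anti a e := (X.comm a ha e heR).resolve_left hae
      obtain ⟨e', he'⟩ : ∃ e', e' = g * e * g⁻¹ := ⟨_, rfl⟩
      obtain ⟨b, hb⟩ : ∃ b, b = g * a * g⁻¹ := ⟨_, rfl⟩
      have he'R : e' ∈ R := he' ▸ hgR heR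
      have hbR : b ∈ R := hb ▸ hgR ha
      have hbe : Anti b e' := by rw [hb, he']; exact hae'.conj g
      have hbL : ∀ l ∈ L, Commute b l := fun l hl => by
        show b * l = l * b
        calc b * l = g * a * g⁻¹ * (g * l * g⁻¹) := by rw [hb, hfix l hl]
          _ = g * (a * l) * g⁻¹ := by group
          _ = g * l * g⁻¹ * (g * a * g⁻¹) := by rw [(haL l hl).eq]; group
          _ = l * b := by rw [hfix l hl, hb]
      obtain ⟨x₀, hx₀, hx₀L, hx₀e, hx₀e'⟩ : ∃ x ∈ R, (∀ l ∈ L, Commute x l) ∧ Anti x e ∧ Anti x e' := by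
        rcases X.comm a ha e' he'R with h | h
        · rcases X.comm b hbR e heR with h' | h'
          · exact ⟨a * b, mul_mem ha hbR, fun l hl => (haL l hl).mul_left (hbL l hl),
              (hae'.symm.mul_comm' h'.symm).symm, (Anti.comm_mul' h.symm hbe.symm).symm⟩
          · exact ⟨b, hbR, hbL, h', hbe⟩
        · exact ⟨a, ha, haL, hae', h⟩
      have move : ∀ {x y : GL ι F}, x ∈ R → y ∈ R → (∀ l ∈ L, Commute (y * x⁻¹) l) → Anti x y → x * x = y * y →
          ∃ σ ∈ M, σ ∈ normalizer (R : Set (GL ι F)) ∧ (∀ l ∈ L, σ * l * σ⁻¹ = l) ∧ σ * x * σ⁻¹ = y := by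
        intro x y hx hy hyxL hxy hxx
        have hac : Anti x (sc u * (y * x⁻¹)) :=
          (hxy.mul_comm' (Commute.refl x).inv_right).sc_mul u
        have hcR : sc u * (y * x⁻¹) ∈ R := mul_mem X.unit (mul_mem hy (inv_mem hx))
        have hcc : sc u * (y * x⁻¹) * (sc u * (y * x⁻¹)) = 1 := by
          rw [mul_assoc, ← mul_assoc (y * x⁻¹) (sc u), ← (commute_sc u (y * x⁻¹)).eq, mul_assoc, ← mul_assoc,
            X.u_mul_u]
          have h1 : y * x⁻¹ * (y * x⁻¹) = -1 := by
            have h3 : x⁻¹ * y = -(y * x⁻¹) := hxy.symm.inv_right.symm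
            rw [mul_assoc, ← mul_assoc x⁻¹ y, h3, neg_mul, mul_neg, mul_assoc y x⁻¹ x⁻¹, ← mul_assoc,
              ← _root_.mul_inv_rev, hxx, mul_inv_cancel]
          rw [h1, neg_mul_neg, one_mul]
        have hiq : IQ R (sc u * (y * x⁻¹)) := ⟨hcR, hcc, X.not_scal_of_anti hac⟩
        refine ⟨tau u _, htau _ hiq, X.tau_norm hiq, fun l hl => ?_, ?_⟩
        · rw [← (X.tau_commute hcc ((commute_sc u l).mul_left (hyxL l hl)).symm).eq, mul_inv_cancel_right]
        · rw [X.tau_anti hcc hac, mul_assoc (sc u), inv_mul_cancel_right, ← mul_assoc, ← map_mul,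
            show -u * u = (1 : Fˣ) from Units.ext (by simp [X.iu]), map_one, one_mul]
      have heq : e' * e' = e * e := by
        have h1 : e' * e' = g * (e * e) * g⁻¹ := by rw [he']; group
        rw [h1]
        rcases X.sq e heR with h | h <;> rw [h] <;> simp
      have hrelL : ∀ l ∈ L, Commute (e' * e⁻¹) l := fun l hl => by
        have hgl : g * l * g⁻¹ = l := hfix l hl
        show e' * e⁻¹ * l = l * (e' * e⁻¹)
        rcases X.comm e heR l (hL' l hl) with h | h
        · have h' : e' * l = l * e' := by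
            calc e' * l = g * e * g⁻¹ * (g * l * g⁻¹) := by rw [he', hgl]
              _ = g * (e * l) * g⁻¹ := by group
              _ = g * l * g⁻¹ * (g * e * g⁻¹) := by rw [h.eq]; group
              _ = l * e' := by rw [hgl, he']
          rw [mul_assoc, h.inv_left.eq, ← mul_assoc, h', mul_assoc]
        · have h' : e' * l = -(l * e') := by
            have := h.conj g
            rw [hgl, ← he'] at this
            exact this
          rw [mul_assoc, show e⁻¹ * l = -(l * e⁻¹) from h.symm.inv_right.symm, mul_neg, ← mul_assoc, h', neg_mul,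
            neg_neg, mul_assoc]
      have finish : ∀ {π₁ : GL ι F}, π₁ ∈ M → π₁ ∈ normalizer (R : Set (GL ι F)) →
          (∀ l ∈ L, π₁ * l * π₁⁻¹ = l) → π₁ * e' * π₁⁻¹ = e →
          ∃ π ∈ M, π ∈ normalizer (R : Set (GL ι F)) ∧ ∀ l ∈ e :: L, (π * g₀) * l * (π * g₀)⁻¹ = l := by
        intro π₁ h1 h3 h4 h5
        refine ⟨π₁ * π, mul_mem h1 hπM, mul_mem h3 hπN, fun l hl => ?_⟩
        rw [mul_assoc π₁, ← hg, show π₁ * g * l * (π₁ * g)⁻¹ = π₁ * (g * l * g⁻¹) * π₁⁻¹ by group]
        rcases List.mem_cons.1 hl with rfl | hl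
        · rw [← he', h5]
        · rw [hfix l hl, h4 l hl]
      rcases X.comm e' he'R e heR with hc | hc
      · obtain ⟨x, hx, hxe, hxe', hxx, hxL⟩ : ∃ x ∈ R, Anti x e ∧ Anti x e' ∧ x * x = e * e ∧
            ∀ l ∈ L, Commute (x * e⁻¹) l := by
          have hy : Anti (x₀ * e) e ∧ Anti (x₀ * e) e' :=
            ⟨(hx₀e.symm.mul_comm' (Commute.refl e)).symm, (hx₀e'.symm.mul_comm' hc).symm⟩
          by_cases hq : x₀ * e * (x₀ * e) = e * e
          · exact ⟨x₀ * e, mul_mem hx₀ heR, hy.1, hy.2, hq, fun l hl => by rw [mul_inv_cancel_right]; exact hx₀L l hl⟩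
          refine ⟨sc u * (x₀ * e), mul_mem X.unit (mul_mem hx₀ heR), (hy.1.symm.sc_mul u).symm,
            (hy.2.symm.sc_mul u).symm, ?_, fun l hl => by
              rw [mul_assoc, mul_inv_cancel_right]; exact (commute_sc u l).mul_left (hx₀L l hl)⟩
          rw [mul_assoc, ← mul_assoc (x₀ * e) (sc u), ← (commute_sc u (x₀ * e)).eq, mul_assoc, ← mul_assoc,
            X.u_mul_u, neg_one_mul]
          rcases X.sq _ (mul_mem hx₀ heR) with h | h <;> rcases X.sq e heR with h' | h' <;> rw [h, h'] at hq ⊢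
          · exact absurd rfl hq
          · rw [neg_neg]
          · exact absurd rfl hq
        obtain ⟨σ, hσM, hσN, hσL, hσ⟩ := move he'R hx (fun l hl => by
            have := (hxL l hl).mul_left (hrelL l hl).inv_left
            rwa [show x * e⁻¹ * (e' * e⁻¹)⁻¹ = x * e'⁻¹ by group] at this) hxe'.symm (heq.trans hxx.symm)
        obtain ⟨τ, hτM, hτN, hτL, hτ⟩ := move hx heR (fun l hl => by
            have := (hxL l hl).inv_left
            rwa [_root_.mul_inv_rev, inv_inv] at this) hxe hxx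
        refine finish (π₁ := τ * σ) (mul_mem hτM hσM) (mul_mem hτN hσN) (fun l hl => ?_) ?_
        · rw [show τ * σ * l * (τ * σ)⁻¹ = τ * (σ * l * σ⁻¹) * τ⁻¹ by group, hσL l hl, hτL l hl]
        · rw [show τ * σ * e' * (τ * σ)⁻¹ = τ * (σ * e' * σ⁻¹) * τ⁻¹ by group, hσ, hτ]
      · obtain ⟨σ, hσM, hσN, hσL, hσ⟩ := move he'R heR (fun l hl => by
            have := (hrelL l hl).inv_left
            rwa [_root_.mul_inv_rev, inv_inv] at this) hc heq
        exact finish hσM hσN hσL hσ
  obtain ⟨L, hmem⟩ : ∃ L : List (GL ι F), ∀ x, x ∈ L ↔ x ∈ R := by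
    haveI := Fintype.ofFinite R
    exact ⟨(Finset.univ : Finset R).toList.map Subtype.val, fun x => by simp⟩
  obtain ⟨π, hπM, -, hfix⟩ := key L fun l hl => (hmem l).1 hl
  obtain ⟨c, hc⟩ := X.central (x := π * g₀) fun r hr =>
    (mul_inv_eq_iff_eq_mul.1 (hfix r ((hmem r).2 hr))).symm
  rw [show g₀ = π⁻¹ * sc c by rw [← hc, inv_mul_cancel_left]]
  exact mul_mem (inv_mem hπM) (hsc c)

end CfsgLib.MaxSub.QuadTwo.Sym
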