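import Cfsg.Agent.Lib.MaxSub.Extra.Plus.Theta
import Cfsg.Agent.Lib.MaxSub.Extra.Plus.QuadGen
import Cfsg.Agent.Lib.MaxSub.Extra.Plus.Induct

/-!
An element of an overgroup centralising `J` normalises the centraliser of `J` in the group, unless a block is full.
-/

set_option autoImplicit false
set_option linter.unusedSectionVars false
set_option linter.style.haveILetI false

namespace CfsgLib.MaxSub.Extra.Plus

open Matrix Subgroup
open scoped commutatorElement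
open CfsgLib.PauliFour (sc coe_sc sc_injective sc_comm)
open CfsgLib.MaxSub.QuadTwo (tau tauM IQ Scal Anti Sym)

variable {F : Type*} [Field F]

/-- Elements of the commutator subgroup have determinant one. -/
theorem Om_det {ι : Type} [Fintype ι] [DecidableEq ι] {y : GL ι F} (hy : y ∈ Om ι F) : y.1.det = 1 := by
  obtain ⟨x, hx, rfl⟩ := hy
  let f : Cfsg.isometryGroup F ⇑(dq ι F) →* Fˣ :=
    (Matrix.GeneralLinearGroup.det : GL ι F →* Fˣ).comp (Subgroup.subtype _)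
  have h : x ∈ f.ker := Abelianization.commutator_subset_ker f hx
  exact congrArg Units.val (MonoidHom.mem_ker.1 h)

/-- The commutator subgroup is perfect. -/
theorem Om_perfect [Fintype F] {ι : Type} [Fintype ι] [DecidableEq ι] (h2 : (2 : F) ≠ 0)
    (hn : 5 ≤ Fintype.card ι) : ⁅Om ι F, Om ι F⁆ = Om ι F := by
  classical
  let G : Subgroup (Cfsg.isometryGroup F ⇑(dq ι F)) := Cfsg.Omega F ⇑(dq ι F)
  have hn' : 5 ≤ Module.finrank F (ι → F) := by rwa [Module.finrank_fintype_fun_eq_card]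
  have e1 : G.map (SpinorMatrix.isoEquiv (dq ι F)).toMonoidHom = Subgroup.closure (Eichler.Sieg (dq ι F)) := by
    rw [← OmegaSimple.commutator_eq (dq ι F) (dq_nd h2) hn', show G = commutator _ from rfl,
      _root_.commutator_def, _root_.commutator_def, Subgroup.map_commutator,
      Subgroup.map_top_of_surjective _ (SpinorMatrix.isoEquiv (dq ι F)).surjective]
  have e2 : ⁅G, G⁆ = G := by
    refine Subgroup.map_injective (f := (SpinorMatrix.isoEquiv (dq ι F)).toMonoidHom)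
      (SpinorMatrix.isoEquiv (dq ι F)).injective ?_
    rw [Subgroup.map_commutator, e1, OmegaSimple.perfect _ (dq_nd h2) hn']
  show ⁅G.map (Subgroup.subtype _), G.map (Subgroup.subtype _)⁆ = G.map (Subgroup.subtype _)
  rw [← Subgroup.map_commutator, e2]

variable [Fintype F] {κ : Type} [Fintype κ] [DecidableEq κ] {K : Type*} [Field K]

local notation "GL2" => GL (κ ⊕ κ) F
local notation "GL1" => GL κ F

variable {φ : F →+* K} {u : Kˣ} {R H : Subgroup (GL (κ ⊕ κ) F)}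

theorem fact_of_max (hu : (u : K) * u = -1) (h2K : (2 : K) ≠ 0) (hκ : Fintype.card κ = 8)
    (O : Over R H) (S : Std R) (hX : Sym (RJ (φ := φ) hu R) u) (G : Subgroup (GL κ K))
    (hGimg : ∀ y ∈ Om κ F, Matrix.GeneralLinearGroup.map φ y ∈ G)
    (hGtau : ∀ c, IQ (RJ (φ := φ) hu R) c → tau u c ∈ G)
    (hGconj : ∀ g ∈ Og (κ ⊕ κ) F, g * JJ = JJ * g → ∀ x ∈ G, th φ u g * x * (th φ u g)⁻¹ ∈ G)
    (hmax : ∀ M : Subgroup (GL κ K), normalizer (RJ (φ := φ) hu R : Set (GL κ K)) ⊓ G ≤ M → M ≤ G →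
      G ≤ M ∨ M ≤ normalizer (RJ (φ := φ) hu R : Set (GL κ K))) :
    (∀ h ∈ H, h * JJ = JJ * h → ∀ r ∈ R, r * JJ = JJ * r → h * r * h⁻¹ ∈ R) ∨ Om κ F ≤ proj1 H := by
  classical
  have h2 := S.two
  haveI := hX.nonempty
  set R1 := RJ (φ := φ) hu R with hR1
  let Y : Subgroup (GL κ K) :=
    { carrier := {x | ∃ h ∈ H, h * JJ = JJ * h ∧ ∃ c : Kˣ, x = th φ u h * sc c}
      one_mem' := ⟨1, one_mem H, by simp, 1, by rw [th_one hu, map_one, one_mul]⟩
      mul_mem' := by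
        rintro _ _ ⟨a, ha, haJ, c, rfl⟩ ⟨b, hb, hbJ, d, rfl⟩
        refine ⟨a * b, mul_mem ha hb, Pre.comm_comm haJ hbJ, c * d, ?_⟩
        rw [th_mul hu haJ hbJ, map_mul, mul_assoc, ← mul_assoc (sc c), sc_comm c (th φ u b)]
        group
      inv_mem' := by
        rintro _ ⟨a, ha, haJ, c, rfl⟩
        refine ⟨a⁻¹, inv_mem ha, (Commute.inv_left (show Commute a JJ from haJ)).eq, c⁻¹, ?_⟩
        rw [th_inv hu haJ, _root_.mul_inv_rev, map_inv, ← map_inv, sc_comm] }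
  have hYth : ∀ {h}, h ∈ H → h * JJ = JJ * h → th φ u h ∈ Y := fun {h} hh hhJ =>
    ⟨h, hh, hhJ, 1, by rw [map_one, mul_one]⟩
  have hYsc : ∀ c : Kˣ, (sc c : GL κ K) ∈ Y := fun c => ⟨1, one_mem H, by simp, c, by rw [th_one hu, one_mul]⟩
  have hYtau : ∀ c, IQ R1 c → tau u c ∈ Y := by
    rintro c ⟨hc, hcc, hcs⟩
    obtain ⟨r, hr, hrJ, rfl⟩ := mem_RJ.1 hc
    have hrr : r * r = 1 := th_inj h2 hu (Pre.comm_comm hrJ hrJ) (by simp) (S.pre.le (mul_mem hr hr)) (one_mem _)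
      (by rw [th_mul hu hrJ hrJ, hcc, th_one hu])
    have hiz : Extra.IZ R r := ⟨hr, hrr, fun e => hcs (by
      rcases e with rfl | rfl
      · rw [th_one hu]; exact QuadTwo.scal_one
      · rw [th_neg hu (by simp), th_one hu]; exact QuadTwo.scal_one.neg)⟩
    have hJr : JJ * r = r * JJ := hrJ.symm
    have hroot : root r JJ ∈ H :=
      O.low ⟨S.pre.root_norm hiz S.JJ_mem hJr, S.pre.root_Om S.big hiz S.JJ_mem hJr⟩
    have hrc : root r (JJ : GL2) * JJ = JJ * root r JJ := by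
      have e := root_conj h2 hrr hJr (JJ : GL2)
      rw [show JJ * r * JJ⁻¹ = r by rw [← hrJ, mul_inv_cancel_right], mul_inv_cancel_right] at e
      exact (mul_inv_eq_iff_eq_mul.1 e).symm
    rw [show tau u (th φ u r) = th φ u (root r JJ) from
      Units.ext (by rw [hX.tau_coe hcc, th_root h2 h2K hu hrr hrJ])]
    exact hYth hroot hrc
  have hRY : R1 ≤ Y := by
    rintro _ ⟨r, hr, hrJ, rfl⟩
    exact hYth (O.sub hr) hrJ
  have hNY := hX.norm_le hRY hYsc hYtau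
  rcases hmax (Y ⊓ G) (le_inf (inf_le_left.trans hNY) inf_le_right) inf_le_right with hfull | hnorm
  · refine Or.inr fun y hy => ?_
    have hOm : Om κ F ≤ H.comap (diag : GL1 →* GL2) := by
      rw [← Om_perfect h2 (by omega), Subgroup.commutator_le]
      intro a ha b hb
      obtain ⟨⟨g, hg, hgJ, c, ec⟩, -⟩ := hfull (hGimg a ha)
      obtain ⟨⟨k, hk, hkJ, d, ed⟩, -⟩ := hfull (hGimg b hb)
      show emb (⁅a, b⁆, ⁅a, b⁆) ∈ H
      have hD : ∀ x : GL1, emb (x, x) * JJ = JJ * emb (x, x) := emb_comm_JJ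
      have hi : ∀ {x : GL2}, x * JJ = JJ * x → x⁻¹ * JJ = JJ * x⁻¹ := fun {x} hx =>
        (Commute.inv_left (show Commute x JJ from hx)).eq
      have e : th φ u (emb (⁅a, b⁆, ⁅a, b⁆)) = th φ u (g * k * g⁻¹ * k⁻¹) := by
        rw [th_diag hu, commutatorElement_def, map_mul, map_mul, map_mul, map_inv, map_inv, ec, ed,
          th_mul hu (Pre.comm_comm (Pre.comm_comm hgJ hkJ) (hi hgJ)) (hi hkJ),
          th_mul hu (Pre.comm_comm hgJ hkJ) (hi hgJ), th_mul hu hgJ hkJ, th_inv hu hgJ, th_inv hu hkJ]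
        have hd : ∀ w : GL κ K, sc d * w = w * sc d := sc_comm d
        have hcm : ∀ w : GL κ K, sc c * w = w * sc c := sc_comm c
        calc th φ u g * sc c * (th φ u k * sc d) * (th φ u g * sc c)⁻¹ * (th φ u k * sc d)⁻¹
            = th φ u g * (sc c * (th φ u k * sc d)) * (sc c)⁻¹ * (th φ u g)⁻¹ * (sc d)⁻¹ * (th φ u k)⁻¹ := by group
          _ = th φ u g * th φ u k * (sc d * (th φ u g)⁻¹) * (sc d)⁻¹ * (th φ u k)⁻¹ := by rw [hcm]; group
          _ = _ := by rw [hd]; group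
      have habO : ⁅a, b⁆ ∈ Og κ F := by
        rw [commutatorElement_def]; exact Om_le (comm_mem_Om (Om_le ha) (Om_le hb))
      have hgk : g * k * g⁻¹ * k⁻¹ ∈ H := mul_mem (mul_mem (mul_mem hg hk) (inv_mem hg)) (inv_mem hk)
      rwa [th_inj h2 hu (hD _) (Pre.comm_comm (Pre.comm_comm (Pre.comm_comm hgJ hkJ) (hi hgJ)) (hi hkJ))
        ((emb_mem_Og h2).2 ⟨habO, habO⟩) (O.high hgk) e]
    exact mem_proj1.2 ⟨y, hOm hy⟩
  refine Or.inl fun h hh hhJ r hr hrJ => ?_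
  set x := th φ u h with hx
  have hiq : ∀ c, IQ R1 c → x * c * x⁻¹ ∈ R1 := fun c hc => by
    have htG := hGconj h (O.high hh) hhJ _ (hGtau c hc)
    have htY : x * tau u c * x⁻¹ ∈ Y := mul_mem (mul_mem (hYth hh hhJ) (hYtau c hc)) (inv_mem (hYth hh hhJ))
    have hN : x * tau u c * x⁻¹ ∈ normalizer (R1 : Set (GL κ K)) := hnorm ⟨htY, htG⟩
    rw [hX.tau_conj hc.2.1] at hN
    refine hX.pull ?_ ?_ hN
    · rw [show x * c * x⁻¹ * (x * c * x⁻¹) = x * (c * c) * x⁻¹ by group, hc.2.1, mul_one, mul_inv_cancel]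
    · rw [Units.val_mul, Units.val_mul, Matrix.trace_units_conj, hX.trace_eq_zero hc.1 hc.2.2]
  have hall : ∀ s ∈ R1, x * s * x⁻¹ ∈ R1 := fun s hs => by
    by_cases hsc : Scal s
    · rw [← (hsc.commute x).eq, mul_inv_cancel_right]; exact hs
    obtain ⟨d, hd, hi⟩ := hX.scale hs hsc
    have h1 := hiq _ hi
    have h3 := mul_mem (inv_mem hd) h1
    rwa [show x * (sc d * s) * x⁻¹ = sc d * (x * s * x⁻¹) by
      rw [← mul_assoc x (sc d), ← sc_comm d x]; group, inv_mul_cancel_left] at h3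
  obtain ⟨r', hr', hr'J, e⟩ := mem_RJ.1 (hall _ ⟨r, hr, hrJ, rfl⟩)
  have hiJ : h⁻¹ * JJ = JJ * h⁻¹ := (Commute.inv_left (show Commute h JJ from hhJ)).eq
  rw [hx, ← th_inv hu hhJ, ← th_mul hu hhJ hrJ, ← th_mul hu (Pre.comm_comm hhJ hrJ) hiJ] at e
  rwa [th_inj h2 hu (Pre.comm_comm (Pre.comm_comm hhJ hrJ) hiJ) hr'J
    (mul_mem (mul_mem (O.high hh) (S.pre.le hr)) (inv_mem (O.high hh))) (S.pre.le hr') e]

end CfsgLib.MaxSub.Extra.Plus
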