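import Cfsg.Agent.Lib.MaxSub.Extra.Plus.Induct
import Cfsg.Agent.Lib.MaxSub.Extra.Plus.Degree
import Cfsg.Agent.Lib.MaxSub.Extra.Group
import Cfsg.Agent.Lib.Aschbacher.OrthEven.PlusType
import Cfsg.Agent.Lib.MaxSub.SubspaceMaximalOrthGL

/-!
The normaliser of `2^(1+2k)` of plus type is maximal in the commutator subgroup of the orthogonal group of
plus type, given the dichotomy for the blocks in dimension eight.
-/

set_option autoImplicit false
set_option linter.unusedSectionVars false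
set_option linter.style.haveILetI false

namespace CfsgLib.MaxSub.Extra.Plus

open Matrix Subgroup
open Cfsg.Geo (IsMaximalIn subgroupNormalizer omegaGL)
open CfsgLib.MaxSub.QuadTwo (glEquiv coe_glEquiv glEquiv_neg mem_map_glEquiv map_normalizer)

variable {F : Type*} [Field F] {ι : Type} [Fintype ι] [DecidableEq ι]

/-- A homomorphism between isometry groups maps the one commutator subgroup into the other. -/
theorem map_omegaGL {lam : Type} [Fintype lam] [DecidableEq lam] (Q : (ι → F) → F) (Q' : (lam → F) → F)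
    (f : GL ι F →* GL lam F) (hf : ∀ g ∈ Cfsg.isometryGroup F Q, f g ∈ Cfsg.isometryGroup F Q') {g : GL ι F}
    (hg : g ∈ omegaGL Q) : f g ∈ omegaGL Q' := by
  obtain ⟨y, hy, rfl⟩ := hg
  let φ : Cfsg.isometryGroup F Q →* Cfsg.isometryGroup F Q' :=
    (f.comp (Subgroup.subtype _)).codRestrict _ fun g => hf g g.2
  have h : φ y ∈ Cfsg.Omega F Q' := by
    have := Subgroup.mem_map_of_mem φ hy
    rw [Cfsg.Omega, _root_.commutator_def, Subgroup.map_commutator] at this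
    rw [Cfsg.Omega, _root_.commutator_def]
    exact Subgroup.commutator_mono le_top le_top this
  exact ⟨φ y, h, rfl⟩

/-- The normaliser is proper. -/
theorem Pre.not_Om_le [Fintype F] {R : Subgroup (GL ι F)} (X : Pre R) (h512 : 512 ≤ Nat.card R) {κ lam : Type}
    [Fintype κ] [DecidableEq κ] [Fintype lam] [DecidableEq lam] (eι : ι ≃ κ ⊕ κ) (e : κ ≃ lam ⊕ lam) :
    ¬ Om ι F ≤ normalizer (R : Set (GL ι F)) := fun h => by
  have h2 := X.two
  obtain ⟨_, -, -, z, -, hz, -⟩ := X.exists_in 1 1 (one_mem R) (one_mem R)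
  obtain ⟨w, hw, hwz⟩ := X.exists_iz_anti hz.1 hz.2.2
  set Φ := Matrix.reindexAlgEquiv F F eι
  have hΦ : OIso Φ := reindex_OIso h2 eι
  have X' := X.map Φ hΦ.card fun g hg => (hΦ.og g).2 hg
  obtain ⟨g, hg, h1, h3⟩ := exists_std X' e (IZ.map hz Φ) (IZ.map hw Φ)
    (by rw [← map_mul, hwz, glEquiv_neg, map_mul])
  have hΨ : OIso (Φ.trans (cjAlg g)) := hΦ.trans (cj_OIso h2 hg)
  set Ψ := Φ.trans (cjAlg g)
  have S : Std (R.map (glEquiv Ψ).toMonoidHom) :=
    ⟨X.map Ψ hΨ.card fun g hg => (hΨ.og g).2 hg, by rw [card_map_equiv]; exact h512,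
      ⟨z, hz.1, by
        show glEquiv Ψ z = _
        rw [glEquiv_trans, glEquiv_cj, h1]⟩,
      ⟨w, hw.1, by
        show glEquiv Ψ w = _
        rw [glEquiv_trans, glEquiv_cj, h3]⟩⟩
  obtain ⟨_, -, -, c, -, hc, -⟩ := S.side_pre.exists_in 1 1 (one_mem _) (one_mem _)
  obtain ⟨y, hy, hyc, hfar⟩ := S.side_pre.exists_far hc
  obtain ⟨x, hx⟩ := (glEquiv Ψ).surjective (emb (y, 1))
  have hxO : x ∈ Om ι F := hΨ.om.1 (hx ▸ emb_one_Om h2 hy)
  refine hfar y (S.side_of_norm (hx ▸ ?_)) hyc rfl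
  exact (map_normalizer Ψ).2 (h hxO)

/-- What the hypotheses of the statement give about the group. -/
theorem core_of_hyp {n k : ℕ} (hn : 13 ≤ n) (h2 : (2 : F) ≠ 0) {R : Subgroup (GL (Fin n) F)} {Q : (Fin n → F) → F}
    (hQ : Cfsg.Geo.IsNondegenerateQuadraticForm Q)
    (hs : Cfsg.Geo.IsSymplecticTypeGroup 2 R) (hi : Cfsg.Geo.ActsAbsolutelyIrreducibly (Cfsg.Geo.matrixSet R))
    (hR : R ≤ Cfsg.isometryGroup F Q) (hc : Nat.card R = 2 ^ (1 + 2 * k))
    (hz : Nat.card (Subgroup.center R) = 2) (hpt : Cfsg.Geo.IsOfPlusType k R) :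
    4 ≤ k ∧ n = 2 ^ k ∧ 512 ≤ Nat.card R ∧ -1 ∈ R ∧ (∀ x ∈ R, ∀ y ∈ R, x * y = y * x ∨ x * y = -(y * x)) ∧
      (∀ x ∈ R, PM (x * x) 1) ∧ ∃ A ≤ R, (∀ x ∈ A, x * x = 1) ∧ 2 * Nat.card R ≤ Nat.card A ^ 2 := by
  classical
  haveI : Finite R := Nat.finite_of_card_ne_zero (by rw [hc]; exact pow_ne_zero _ two_ne_zero)
  haveI : Nonempty (Fin n) := ⟨⟨0, by omega⟩⟩
  have h4 : ∀ x : R, x ^ 4 = 1 := fun x => by
    have := Monoid.pow_exponent_eq_one x
    rwa [hs.exponent_eq] at this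
  have irr : ∀ A : Matrix (Fin n) (Fin n) F, (∀ s ∈ R, A * (s : Matrix _ _ F) = (s : Matrix _ _ F) * A) →
      ∃ c : F, A = c • 1 :=
    fun A hA => hi.2 A fun s hs' => by obtain ⟨g, hg, rfl⟩ := hs'; exact hA g hg
  have hcF : (Nat.card R : F) ≠ 0 := by rw [hc]; push_cast; exact pow_ne_zero _ h2
  obtain ⟨-, hle⟩ := Gen.degree_le (R := R) hcF irr
  rw [Fintype.card_fin] at hle
  have hk : 4 ≤ k := by
    rw [hc] at hle
    by_contra hlt
    have : 2 ^ (1 + 2 * k) ≤ 2 ^ 7 := Nat.pow_le_pow_right two_pos (by omega)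
    norm_num at this
    nlinarith
  obtain ⟨v, hv⟩ : ∃ v, Q v ≠ 0 := by
    by_contra! h0
    obtain ⟨-, y, hy⟩ := hQ.nondegenerate (Pi.single (Classical.arbitrary (Fin n)) 1) (by simp)
    exact hy (by simp [QuadraticMap.polar, h0])
  have hscal : ∀ x ∈ R, ∀ c : F, (x : GL (Fin n) F).1 = c • 1 → PM x 1 := fun x hx c e => by
    have h : Q (x.1 *ᵥ v) = Q v := hR hx v v
    rw [e, Matrix.smul_mulVec, Matrix.one_mulVec, hQ.smul] at h
    have hcc : c * c = 1 := mul_right_cancel₀ hv (by linear_combination h)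
    rcases mul_self_eq_one_iff.1 hcc with rfl | rfl
    · exact Or.inl (Units.ext (by rw [e, one_smul, Units.val_one]))
    · exact Or.inr (Units.ext (by rw [e, neg_one_smul, Units.val_neg, Units.val_one]))
  have central : ∀ x ∈ R, (∀ y ∈ R, x * y = y * x) → PM x 1 := fun x hx h => by
    obtain ⟨c, e⟩ := irr x.1 fun s hs' => congrArg Units.val (h s hs')
    exact hscal x hx c e
  have cen : ∀ z ∈ Subgroup.center R, PM (z : GL (Fin n) F) 1 := fun z hz' => central z z.2 fun y hy =>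
    (congrArg Subtype.val (Subgroup.mem_center_iff.1 hz' ⟨y, hy⟩)).symm
  have hcomm : ∀ x ∈ R, ∀ y ∈ R, x * y = y * x ∨ x * y = -(y * x) := fun x hx y hy => by
    have e := cen _ (commutators_central hs.pGroup h4 hs.cyclic_of_characteristic hz ⟨x, hx⟩ ⟨y, hy⟩)
    simp only [Subgroup.coe_mul, InvMemClass.coe_inv] at e
    rcases e with e | e
    · left; rw [mul_inv_eq_one, mul_inv_eq_iff_eq_mul] at e; exact e
    · right; rw [mul_inv_eq_iff_eq_mul, mul_inv_eq_iff_eq_mul, neg_one_mul, neg_mul] at e; exact e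
  have hsq : ∀ x ∈ R, PM (x * x) 1 := fun x hx => by
    have e := cen _ (squares_central hs.pGroup h4 hs.cyclic_of_characteristic hz ⟨x, hx⟩)
    simpa [pow_two] using e
  have hneg : -1 ∈ R := by
    obtain ⟨z, hz', hz1⟩ : ∃ z : R, z ∈ Subgroup.center R ∧ z ≠ 1 := by
      obtain ⟨w, hw, -⟩ := Nat.card_eq_two_iff' (1 : Subgroup.center R) |>.1 hz
      exact ⟨w.1, w.2, fun e => hw (Subtype.ext e)⟩
    rcases cen z hz' with e | e
    · exact absurd (Subtype.ext e) hz1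
    · exact e ▸ z.2
  refine ⟨hk, ?_, ?_, hneg, hcomm, hsq, ?_⟩
  · have hd := degree_of_raw h2 hcF hneg hcomm central irr
    rw [hc, Fintype.card_fin, pow_add, pow_one] at hd
    refine Nat.pow_left_injective two_ne_zero ?_
    show n ^ 2 = (2 ^ k) ^ 2
    rw [← pow_mul, mul_comm k 2, sq]
    omega
  · rw [hc]
    exact le_trans (by norm_num) (Nat.pow_le_pow_right two_pos (show 9 ≤ 1 + 2 * k by omega))
  · obtain ⟨A, -, hA2, hAc⟩ := hpt
    refine ⟨A.map R.subtype, Subgroup.map_subtype_le A, ?_, ?_⟩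
    · rintro _ ⟨x, hx, rfl⟩
      exact congrArg Subtype.val (hA2 x hx)
    · rw [Nat.card_congr (A.equivMapOfInjective _ R.subtype_injective).toEquiv.symm, hAc, hc,
        ← pow_succ', ← pow_mul]
      exact Nat.pow_le_pow_right two_pos (by omega)

variable [Fintype F]

/-- Maximality in the coordinates of the dot product. -/
theorem max_dq (base : Dich (Fin (2 ^ 3)) F) {k : ℕ}
    (hk : 4 ≤ k) (hι : Fintype.card ι = 2 ^ k) {R : Subgroup (GL ι F)} (X : Pre R) (h512 : 512 ≤ Nat.card R) :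
    IsMaximalIn (Om ι F) (subgroupNormalizer R ⊓ Om ι F) := by
  obtain ⟨j, rfl⟩ : ∃ j, k = j + 4 := ⟨k - 4, by omega⟩
  refine ⟨lt_of_le_of_ne inf_le_right fun e => ?_, fun M hM hMO => ?_⟩
  · have hsplit : ∀ (m : ℕ) (ι : Type) [Fintype ι], Fintype.card ι = 2 ^ (m + 1) →
        Nonempty (ι ≃ Fin (2 ^ m) ⊕ Fin (2 ^ m)) := fun m ι _ h =>
      ⟨Fintype.equivOfCardEq (by rw [h, Fintype.card_sum, Fintype.card_fin, pow_succ]; ring)⟩
    obtain ⟨eι⟩ := hsplit (j + 3) ι hι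
    obtain ⟨e'⟩ := hsplit (j + 2) (Fin (2 ^ (j + 3))) (by simp)
    exact X.not_Om_le h512 eι e' fun x hx => (e.ge hx).1
  by_cases h : Om ι F ≤ M
  · exact Or.inr (le_antisymm hMO h)
  exact Or.inl (le_antisymm (le_inf (norm_pow base j ι hι R M ⟨X, h512, hM, hMO.trans Om_le, h⟩) hMO) hM)

/-- The normaliser of `2^(1+2k)` of plus type is maximal. -/
theorem extraspecial_plus_maximal (base : Dich (Fin (2 ^ 3)) F)
    {n k : ℕ} (hn : 13 ≤ n) (hodd : Odd (Fintype.card F)) {Q : (Fin n → F) → F}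
    (hQ : Cfsg.Geo.IsNondegenerateQuadraticForm Q) (hplus : Cfsg.Geo.IsPlusTypeOn Q ⊤)
    (R : Subgroup (GL (Fin n) F)) (hs : Cfsg.Geo.IsSymplecticTypeGroup 2 R)
    (hi : Cfsg.Geo.ActsAbsolutelyIrreducibly (Cfsg.Geo.matrixSet R)) (hR : R ≤ Cfsg.isometryGroup F Q)
    (hc : Nat.card R = 2 ^ (1 + 2 * k)) (hz : Nat.card (Subgroup.center R) = 2)
    (hpt : Cfsg.Geo.IsOfPlusType k R) :
    IsMaximalIn (omegaGL Q) (subgroupNormalizer R ⊓ omegaGL Q) := by
  classical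
  have h2 : (2 : F) ≠ 0 := CfsgLib.FiniteForms.two_ne_zero_of_odd (F := F) rfl hodd
  haveI : Nonempty (Fin n) := ⟨⟨0, by omega⟩⟩
  obtain ⟨Q', rfl, hQn⟩ := CfsgLib.MaxSub.Orth.exists_form hQ
  -- the degree is a power of two
  have hcF : (Nat.card R : F) ≠ 0 := by rw [hc]; push_cast; exact pow_ne_zero _ h2
  haveI : Finite R := Nat.finite_of_card_ne_zero (by rw [hc]; exact pow_ne_zero _ two_ne_zero)
  obtain ⟨m, hm⟩ : ∃ m, n = 2 * m := by
    obtain ⟨U, -, -, hd⟩ := hplus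
    rw [finrank_top, Module.finrank_fintype_fun_eq_card, Fintype.card_fin] at hd
    exact ⟨_, hd.symm⟩
  have hdisc := (CfsgLib.Aschbacher.plus_iff_disc hQ h2 (Pi.basisFun F (Fin n)) (m := m)
    (by rw [Fintype.card_fin, hm])).1 hplus
  set G : Matrix (Fin n) (Fin n) F :=
    Matrix.of fun i j => QuadraticMap.polar Q' (Pi.basisFun F (Fin n) i) (Pi.basisFun F (Fin n) j) with hGdef
  have hGs : G.IsSymm := by ext i j; simp [hGdef, QuadraticMap.polar_comm]
  have hG0 : G.det ≠ 0 := by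
    have := CfsgLib.BilinLag.det_ne_zero (Pi.basisFun F (Fin n)) hQn
    rwa [show LinearMap.BilinForm.toMatrix (Pi.basisFun F (Fin n)) (QuadraticMap.polarBilin Q') = G by
      ext i j; simp [hGdef, LinearMap.BilinForm.toMatrix_apply]] at this
  have hpol : ∀ u v : Fin n → F, QuadraticMap.polar Q' u v = u ⬝ᵥ (G *ᵥ v) := fun u v => by
    have hG' : LinearMap.BilinForm.toMatrix' (QuadraticMap.polarBilin Q') = G := by
      ext i j; simp [hGdef, LinearMap.BilinForm.toMatrix'_apply]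
    rw [← QuadraticMap.polarBilin_apply_apply, ← hG', ← Matrix.toBilin'_apply', Matrix.toBilin'_toMatrix']
  have hT : ∀ {T : Matrix (Fin n) (Fin n) F}, Tᵀ * G * T = (2 : F) • 1 → ∀ v, Q' (T *ᵥ v) = v ⬝ᵥ v := by
    intro T hT v
    refine mul_left_cancel₀ h2 ?_
    have h := hpol (T *ᵥ v) (T *ᵥ v)
    rw [QuadraticMap.polar_self, nsmul_eq_mul] at h
    push_cast at h
    rw [h, Matrix.mulVec_mulVec, Matrix.dotProduct_mulVec, ← Matrix.vecMul_transpose, Matrix.vecMul_vecMul,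
      ← Matrix.mul_assoc, hT, ← Matrix.dotProduct_mulVec, Matrix.smul_mulVec, Matrix.one_mulVec, dotProduct_smul,
      smul_eq_mul]
  have key : ∀ P : GL (Fin n) F, P.1ᵀ * G * P.1 = (2 : F) • 1 →
      R.map (glEquiv (cjAlg P⁻¹)).toMonoidHom ≤ Og (Fin n) F ∧
      ∀ g, glEquiv (cjAlg P⁻¹) g ∈ Og (Fin n) F ↔ g ∈ Cfsg.isometryGroup F ⇑Q' := by
    intro P hP
    have hiff : ∀ g, glEquiv (cjAlg P⁻¹) g ∈ Og (Fin n) F ↔ g ∈ Cfsg.isometryGroup F ⇑Q' := fun g => by
      rw [glEquiv_cj, inv_inv]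
      have e : ∀ v, (P⁻¹ * g * P).1 *ᵥ v = (P⁻¹).1 *ᵥ (g.1 *ᵥ (P.1 *ᵥ v)) := fun v => by
        rw [Units.val_mul, Units.val_mul, ← Matrix.mulVec_mulVec, ← Matrix.mulVec_mulVec]
      have hinv : ∀ v, P.1 *ᵥ ((P⁻¹).1 *ᵥ v) = v := fun v => by
        rw [Matrix.mulVec_mulVec, Units.mul_inv, Matrix.one_mulVec]
      constructor
      · intro h u x
        have h1 : dq (Fin n) F _ = dq (Fin n) F _ := h ((P⁻¹).1 *ᵥ u) x
        change (P⁻¹ * g * P).1 *ᵥ _ ⬝ᵥ (P⁻¹ * g * P).1 *ᵥ _ = _ at h1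
        rw [e, hinv, ← hT hP, hinv, dq_apply, ← hT hP, hinv] at h1
        exact h1
      · intro h u x
        have h1 : Q' _ = Q' _ := h (P.1 *ᵥ u) x
        show dq (Fin n) F _ = dq (Fin n) F _
        show (P⁻¹ * g * P).1 *ᵥ u ⬝ᵥ (P⁻¹ * g * P).1 *ᵥ u = u ⬝ᵥ u
        rw [e, ← hT hP, ← hT hP, hinv]
        exact h1
    exact ⟨by rintro _ ⟨x, hx, rfl⟩; exact (hiff x).2 (hR hx), hiff⟩
  obtain ⟨hk, hnk, h512, hneg, hcomm, hsq, A, hA, hA2, hAc⟩ := core_of_hyp hn h2 hQ hs hi hR hc hz hpt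
  obtain ⟨P, hP⟩ : ∃ P : GL (Fin n) F, P.1ᵀ * G * P.1 = (2 : F) • 1 := by
    have hm' : Even m := by
      obtain ⟨j, rfl⟩ : ∃ j, k = j + 2 := ⟨k - 2, by omega⟩
      exact ⟨2 ^ j, by rw [pow_add] at hnk; omega⟩
    rw [hm'.neg_one_pow, one_mul] at hdisc
    obtain ⟨T, hT0, hTG⟩ := (CfsgLib.FiniteForms.congr_iff h2 hGs (H := (2 : F) • 1)
      (by ext i j; simp [Matrix.one_apply, eq_comm]) hG0 (by simp [h2])).2 (by
        rw [Matrix.det_smul, Matrix.det_one, mul_one, Fintype.card_fin]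
        refine hdisc.mul ⟨(2 : F) ^ m, ?_⟩
        rw [← pow_add]; congr 1; omega)
    exact ⟨Matrix.GeneralLinearGroup.mkOfDetNeZero T hT0, hTG⟩
  obtain ⟨hR', hiff⟩ := key P hP
  set Φ := cjAlg P⁻¹
  have X : Pre (R.map (glEquiv Φ).toMonoidHom) :=
    { two := h2
      ncard := by rw [Fintype.card_fin, hnk]; push_cast; exact pow_ne_zero _ h2
      fin := Finite.of_equiv _ (R.equivMapOfInjective _ (glEquiv Φ).injective).toEquiv
      neg := ⟨-1, hneg, by simp [glEquiv_neg]⟩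
      le := hR'
      comm := by
        rintro _ ⟨x, hx, rfl⟩ _ ⟨y, hy, rfl⟩
        rcases hcomm x hx y hy with e | e
        · exact Or.inl (by simp only [MulEquiv.coe_toMonoidHom, ← map_mul, e])
        · exact Or.inr (by simp only [MulEquiv.coe_toMonoidHom, ← map_mul, e, glEquiv_neg])
      sq := by
        rintro _ ⟨x, hx, rfl⟩
        rcases hsq x hx with e | e
        · exact Or.inl (by simp only [MulEquiv.coe_toMonoidHom, ← map_mul, e, map_one])
        · exact Or.inr (by simp only [MulEquiv.coe_toMonoidHom, ← map_mul, e, glEquiv_neg, map_one])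
      irr := fun B hB => by
        obtain ⟨c, hc⟩ := hi.2 (Φ.symm B) fun s hs' => by
          obtain ⟨g, hg, rfl⟩ := hs'
          refine Φ.injective ?_
          rw [map_mul, map_mul, AlgEquiv.apply_symm_apply]
          exact hB (glEquiv Φ g) ⟨g, hg, rfl⟩
        exact ⟨c, by rw [← Φ.apply_symm_apply B, hc, map_smul, map_one]⟩
      order := by rw [card_map_equiv]; omega
      plus := by
        refine ⟨A.map (glEquiv Φ).toMonoidHom, Subgroup.map_mono hA, ?_, ?_⟩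
        · rintro _ ⟨x, hx, rfl⟩
          simp only [MulEquiv.coe_toMonoidHom, ← map_mul, hA2 x hx, map_one]
        · rwa [card_map_equiv, card_map_equiv] }
  have hmax := max_dq base hk (by rw [Fintype.card_fin, hnk]) X (by rw [card_map_equiv]; exact h512)
  have hom : ∀ g, glEquiv Φ g ∈ Om (Fin n) F ↔ g ∈ omegaGL ⇑Q' := fun g => by
    refine ⟨fun h => ?_, fun h => map_omegaGL (⇑Q') _ (glEquiv Φ).toMonoidHom (fun x hx => (hiff x).2 hx) h⟩
    have := map_omegaGL (⇑(dq (Fin n) F)) (⇑Q') (glEquiv Φ).symm.toMonoidHom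
      (fun x hx => (hiff ((glEquiv Φ).symm x)).1 (by rw [MulEquiv.apply_symm_apply]; exact hx)) h
    simpa using this
  have hmap : ∀ g, glEquiv Φ g ∈ subgroupNormalizer (R.map (glEquiv Φ).toMonoidHom) ↔ g ∈ subgroupNormalizer R :=
    fun g => map_normalizer Φ
  refine ⟨lt_of_le_of_ne inf_le_right fun e => hmax.1.ne (le_antisymm inf_le_right fun x hx => ?_),
    fun M hM hMO => ?_⟩
  · obtain ⟨y, rfl⟩ := (glEquiv Φ).surjective x
    exact ⟨(hmap y).2 (e.ge ((hom y).1 hx)).1, hx⟩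
  · rcases hmax.2 (M.map (glEquiv Φ).toMonoidHom) (fun x hx => by
        obtain ⟨y, rfl⟩ := (glEquiv Φ).surjective x
        exact mem_map_glEquiv.2 (hM ⟨(hmap y).1 hx.1, (hom y).1 hx.2⟩))
      (by rintro _ ⟨y, hy, rfl⟩; exact (hom y).2 (hMO hy)) with h | h
    · refine Or.inl (le_antisymm (fun y hy => ⟨(hmap y).1 ?_, hMO hy⟩) hM)
      exact (h.le (mem_map_glEquiv.2 hy)).1
    · exact Or.inr (le_antisymm hMO fun y hy => mem_map_glEquiv.1 (h.ge ((hom y).2 hy)))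

end CfsgLib.MaxSub.Extra.Plus
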