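import Cfsg.Agent.Lib.MaxSub.Extra.Plus.Base
import Cfsg.Agent.Lib.MaxSub.Extra.Plus.Main
import Cfsg.Agent.Lib.MaxSub.Extra.Quad.SUEight.Main
import Mathlib.FieldTheory.Finite.GaloisField

/-!
The dichotomy at `J` over a prime field, by the maximality of the normaliser of `4 ∘ 2^(1+6)` in `SL₈(p)` for
`p ≡ 1` and in `SU₈(p)` for `p ≡ 3` modulo 4.
-/

set_option autoImplicit false
set_option linter.unusedSectionVars false
set_option linter.style.haveILetI false
set_option maxHeartbeats 800000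

namespace CfsgLib.MaxSub.Extra.Plus

open Matrix Subgroup
open CfsgLib.PauliFour (sc coe_sc)
open CfsgLib.UnitaryTransvection (frob frob_apply h_smul_left h_smul_right)
open CfsgLib.MaxSub.QuadTwo (tau tauM IQ Scal Anti Sym)

variable {F : Type*} [Field F] [Fintype F] {p : ℕ}

local notation "I8" => Fin 8

/-- The case `p ≡ 1` modulo 4. -/
theorem jdich_split (hp : (Fintype.card F).Prime) (hp4 : Fintype.card F % 4 = 1) : JDich I8 F := fun R H O S => by
  classical
  have h2 := S.two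
  obtain ⟨a, ha⟩ := FiniteField.isSquare_neg_one_iff.2 (show Fintype.card F % 4 ≠ 3 by omega)
  have ha0 : a ≠ 0 := fun e => by
    rw [e, mul_zero] at ha
    exact one_ne_zero (neg_eq_zero.1 ha)
  set u : Fˣ := Units.mk0 a ha0 with hud
  have hu : (u : F) * u = -1 := ha.symm
  obtain ⟨X, hc⟩ := RJ_sym (φ := RingHom.id F) h2 hu S (Fintype.card_fin 8) fun M hM =>
    S.side_irr M fun s hs => by simpa using hM s hs
  refine fact_of_max hu h2 (Fintype.card_fin 8) O S X (Matrix.GeneralLinearGroup.det : GL I8 F →* Fˣ).ker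
    (fun y hy => ?_) (fun c hc' => X.tau_sl (Fintype.card_fin 8) hc') (fun g _ _ x hx => ?_) fun M hM hM' => ?_
  · have hy' : Matrix.GeneralLinearGroup.map (RingHom.id F) y = y := Units.ext (by ext i j; rfl)
    rw [hy']
    exact MonoidHom.mem_ker.2 (Units.ext ((Matrix.GeneralLinearGroup.val_det_apply y).trans ((Om_det hy).trans Units.val_one.symm)))
  · exact (MonoidHom.normal_ker _).conj_mem x hx _
  · rcases (X.maximal (Fintype.card_fin 8) hp hc).2 M hM hM' with e | e
    · exact Or.inr (e ▸ inf_le_left)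
    · exact Or.inl e.ge

/-- The form is preserved by unitary matrices. -/
theorem mem_GU_of {K : Type*} [Field K] [Fintype K] {n q : ℕ} (hK : Fintype.card K = q ^ 2) {g : GL (Fin n) K}
    (h : (g.1.map (frob hK))ᵀ * g.1 = 1) : g ∈ Cfsg.GU n K q := fun v w => by
  have h' : g.1ᵀ * g.1.map (frob hK) = 1 := by
    rw [← Matrix.transpose_transpose (g.1.map (frob hK)), ← Matrix.transpose_mul, h, Matrix.transpose_one]
  have e : ∀ a b : Fin n → K, Cfsg.hermForm n K q a b = a ⬝ᵥ (fun i => frob hK (b i)) := fun a b => by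
    simp [Cfsg.hermForm, dotProduct, frob_apply]
  show Cfsg.hermForm n K q (g.1 *ᵥ v) (g.1 *ᵥ w) = Cfsg.hermForm n K q v w
  rw [e, e, show (fun i => frob hK ((g.1 *ᵥ w) i)) = g.1.map (frob hK) *ᵥ (fun i => frob hK (w i)) from
    funext fun i => RingHom.map_mulVec (frob hK) g.1 w i, ← Matrix.vecMul_transpose, ← Matrix.dotProduct_mulVec,
    Matrix.mulVec_mulVec, h', Matrix.one_mulVec]

/-- The case `p ≡ 3` modulo 4. -/
theorem jdich_inert (hp : (Fintype.card F).Prime) (hp4 : Fintype.card F % 4 = 3) : JDich I8 F := fun R H O S => by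
  classical
  have h2 := S.two
  obtain ⟨p, hpd⟩ : ∃ p, p = Fintype.card F := ⟨_, rfl⟩
  rw [← hpd] at hp hp4
  haveI : Fact p.Prime := ⟨hp⟩
  haveI : CharP F p := by
    obtain ⟨r, hr⟩ := CharP.exists F
    obtain ⟨⟨m, hm⟩, hrp, hcard⟩ := FiniteField.card F r
    have h1 : r ∣ p := hpd ▸ hcard ▸ dvd_pow_self r (by simp; omega)
    rwa [(Nat.prime_dvd_prime_iff_eq hrp hp).1 h1] at hr
  let e : ZMod p ≃+* F := RingEquiv.ofBijective (ZMod.castHom dvd_rfl F)
    ((Fintype.bijective_iff_injective_and_card _).2 ⟨RingHom.injective _, by rw [ZMod.card, hpd]⟩)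
  let K := GaloisField p 2
  haveI : Fintype K := Fintype.ofFinite _
  have hK : Fintype.card K = p ^ 2 := by rw [← Nat.card_eq_fintype_card]; exact GaloisField.card p 2 two_ne_zero
  let φ : F →+* K := (algebraMap (ZMod p) K).comp e.symm.toRingHom
  have hK4 : Fintype.card K % 4 ≠ 3 := by
    obtain ⟨m, rfl⟩ : ∃ m, p = 4 * m + 3 := ⟨p / 4, by omega⟩
    rw [hK, show (4 * m + 3) ^ 2 = 4 * (4 * m * m + 6 * m + 2) + 1 by ring]
    omega
  obtain ⟨a, ha⟩ := FiniteField.isSquare_neg_one_iff.2 hK4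
  have ha0 : a ≠ 0 := fun e => by
    rw [e, mul_zero] at ha
    exact one_ne_zero (neg_eq_zero.1 ha)
  set u : Kˣ := Units.mk0 a ha0 with hud
  have hu : (u : K) * u = -1 := ha.symm
  have h2K : (2 : K) ≠ 0 := fun e => h2 (φ.injective (by rw [map_ofNat, map_zero, e]))
  have hinj : ∀ x y : F, φ x + (u : K) * φ y = 0 → x = 0 ∧ y = 0 := fun x y h => by
    by_cases hy : y = 0
    · rw [hy, map_zero, mul_zero, add_zero] at h
      exact ⟨φ.injective (by rw [h, map_zero]), hy⟩
    exfalso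
    have hun : (u : K) = φ (-x / y) := by
      rw [map_div₀, map_neg, eq_div_iff (by simpa using hy)]
      linear_combination h
    have hsq : IsSquare (-1 : F) := ⟨-x / y, φ.injective (by rw [map_neg, map_one, map_mul, ← hun, hu])⟩
    exact FiniteField.isSquare_neg_one_iff.1 hsq (by rw [← hpd]; exact hp4)
  have hspan : ∀ z : K, ∃ x y : F, φ x + (u : K) * φ y = z := fun z => by
    have hb : Function.Bijective (fun xy : F × F => φ xy.1 + (u : K) * φ xy.2) := by
      refine (Fintype.bijective_iff_injective_and_card _).2 ⟨fun a b h => ?_, by rw [Fintype.card_prod, hK, hpd, sq]⟩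
      obtain ⟨h1, h3⟩ := hinj (a.1 - b.1) (a.2 - b.2) (by simp only [map_sub]; linear_combination h)
      exact Prod.ext (sub_eq_zero.1 h1) (sub_eq_zero.1 h3)
    obtain ⟨⟨x, y⟩, h⟩ := hb.2 z
    exact ⟨x, y, h⟩
  obtain ⟨X, hc⟩ := RJ_sym (φ := φ) h2K hu S (Fintype.card_fin 8) fun M hM => by
    choose fx fy hxy using fun i j => hspan (M i j)
    have hM' : M = (Matrix.of fx).map φ + (u : K) • (Matrix.of fy).map φ := by
      ext i j; simp [← hxy i j]
    have key : ∀ A : Matrix I8 I8 F, (∀ s ∈ side R, A * (s : GL I8 F).1 = (s : GL I8 F).1 * A) → ∃ c : F, A = c • 1 :=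
      S.side_irr
    have hsplit : ∀ s ∈ side R, Matrix.of fx * (s : GL I8 F).1 = (s : GL I8 F).1 * Matrix.of fx ∧
        Matrix.of fy * (s : GL I8 F).1 = (s : GL I8 F).1 * Matrix.of fy := fun s hs => by
      have h := hM s hs
      rw [hM', Matrix.add_mul, Matrix.mul_add, Matrix.smul_mul, Matrix.mul_smul, ← Matrix.map_mul, ← Matrix.map_mul,
        ← Matrix.map_mul, ← Matrix.map_mul] at h
      have hij : ∀ i j, (Matrix.of fx * (s : GL I8 F).1) i j = ((s : GL I8 F).1 * Matrix.of fx) i j ∧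
          (Matrix.of fy * (s : GL I8 F).1) i j = ((s : GL I8 F).1 * Matrix.of fy) i j := fun i j => by
        have h' := congrFun (congrFun h i) j
        simp only [Matrix.add_apply, Matrix.smul_apply, Matrix.map_apply, smul_eq_mul] at h'
        obtain ⟨h1, h3⟩ := hinj
          ((Matrix.of fx * (s : GL I8 F).1) i j - ((s : GL I8 F).1 * Matrix.of fx) i j)
          ((Matrix.of fy * (s : GL I8 F).1) i j - ((s : GL I8 F).1 * Matrix.of fy) i j)
          (by simp only [map_sub]; linear_combination h')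
        exact ⟨sub_eq_zero.1 h1, sub_eq_zero.1 h3⟩
      exact ⟨Matrix.ext fun i j => (hij i j).1, Matrix.ext fun i j => (hij i j).2⟩
    obtain ⟨c, hc⟩ := key _ fun s hs => (hsplit s hs).1
    obtain ⟨d, hd⟩ := key _ fun s hs => (hsplit s hs).2
    refine ⟨φ c + (u : K) * φ d, ?_⟩
    rw [hM', hc, hd]
    ext i j
    rcases eq_or_ne i j with h | h <;> simp [h]
  have hσφ : ∀ x : F, frob hK (φ x) = φ x := fun x => by
    have hx : x ^ p = x := by rw [hpd]; exact FiniteField.pow_card x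
    rw [frob_apply, ← map_pow, hx]
  have hσu : frob hK (u : K) = -(u : K) := by
    rw [frob_apply]
    obtain ⟨m, hm⟩ : ∃ m, p = 2 * (2 * m + 1) + 1 := ⟨p / 4, by omega⟩
    refine (congrArg ((u : K) ^ ·) hm).trans ?_
    rw [pow_succ, pow_mul, pow_two, hu, Odd.neg_one_pow ⟨m, rfl⟩]
    ring
  have hGU : ∀ g ∈ Og (I8 ⊕ I8) F, g * JJ = JJ * g → th φ u g ∈ Cfsg.GU 8 K p := fun g hg hgJ =>
    mem_GU_of hK (th_unitary h2 hu hσφ hσu hgJ hg)
  have hR1 : RJ (φ := φ) hu R ≤ Cfsg.GU 8 K p := by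
    rintro _ ⟨r, hr, hrJ, rfl⟩
    exact hGU r (S.pre.le hr) hrJ
  have htau : ∀ c, IQ (RJ (φ := φ) hu R) c → tau u c ∈ Cfsg.GU 8 K p := by
    rintro c ⟨hc', hcc, hcs⟩
    obtain ⟨r, hr, hrJ, rfl⟩ := mem_RJ.1 hc'
    have hrr : r * r = 1 := th_inj h2 hu (Pre.comm_comm hrJ hrJ) (by simp) (S.pre.le (mul_mem hr hr)) (one_mem _)
      (by rw [th_mul hu hrJ hrJ, hcc, th_one hu])
    have hiz : Extra.IZ R r := ⟨hr, hrr, fun e => hcs (by
      rcases e with rfl | rfl
      · rw [th_one hu]; exact QuadTwo.scal_one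
      · rw [th_neg hu (by simp), th_one hu]; exact QuadTwo.scal_one.neg)⟩
    have hrc : root r (JJ : GL (I8 ⊕ I8) F) * JJ = JJ * root r JJ := by
      have e := root_conj h2 hrr hrJ.symm (JJ : GL (I8 ⊕ I8) F)
      rw [show JJ * r * JJ⁻¹ = r by rw [← hrJ, mul_inv_cancel_right], mul_inv_cancel_right] at e
      exact (mul_inv_eq_iff_eq_mul.1 e).symm
    rw [show tau u (th φ u r) = th φ u (root r JJ) from
      Units.ext (by rw [X.tau_coe hcc, th_root h2 h2K hu hrr hrJ])]
    exact hGU _ (S.pre.root_mem hiz S.JJ_mem hrJ.symm) hrc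
  have hu4 : (sc u : GL (Fin 4) K) ∈ Cfsg.GU 4 K p := fun v w => by
    show Cfsg.hermForm 4 K p ((sc u : GL (Fin 4) K).1 *ᵥ v) ((sc u : GL (Fin 4) K).1 *ᵥ w) = Cfsg.hermForm 4 K p v w
    rw [coe_sc, Matrix.smul_mulVec, Matrix.smul_mulVec, Matrix.one_mulVec, Matrix.one_mulVec, h_smul_left,
      h_smul_right hK, hσu]
    linear_combination (-Cfsg.hermForm 4 K p v w) * hu
  haveI : CharP K p := inferInstance
  haveI : Fintype (⊥ : Subfield K) := Fintype.ofFinite _
  have hk : Fintype.card (⊥ : Subfield K) = p := by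
    rw [← Nat.card_eq_fintype_card]; exact Subfield.card_bot K p
  let C : SUFour.Klein.Cx hK (⊥ : Subfield K) := ⟨(⊥ : Subfield K).subtype, (u : K), hu, hσu,
    fun a => (frob_apply hK _).trans ((Subfield.mem_bot_iff_pow_eq_self (F := K) (p := p)).1 a.2),
    fun x hx => ⟨⟨x, (Subfield.mem_bot_iff_pow_eq_self (F := K) (p := p)).2 ((frob_apply hK x).symm.trans hx)⟩, rfl⟩,
    h2K⟩
  refine fact_of_max hu h2K (Fintype.card_fin 8) O S X (Cfsg.GU 8 K p ⊓ Cfsg.Geo.specialLinear I8 K)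
    (fun y hy => QuadTwo.SUEight.mem_G_iff.2 ⟨?_, ?_⟩)
    (fun c hc' => ⟨htau c hc', X.tau_sl (Fintype.card_fin 8) hc'⟩)
    (fun g hg hgJ x hx => QuadTwo.SUEight.conj_mem_G (hGU g hg hgJ) hx) fun M hM hM' => ?_
  · rw [← th_diag hu]
    exact hGU _ ((emb_mem_Og h2).2 ⟨Om_le hy, Om_le hy⟩) (emb_comm_JJ y)
  · rw [show (Matrix.GeneralLinearGroup.map φ y).1 = y.1.map φ from rfl, ← RingHom.mapMatrix_apply,
      ← RingHom.map_det, Om_det hy, map_one]
  · by_cases hne : M = Cfsg.GU 8 K p ⊓ Cfsg.Geo.specialLinear I8 K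
    · exact Or.inl hne.ge
    refine Or.inr ((QuadTwo.SUEight.Over.loc (q := p) (R := RJ (φ := φ) hu R) (H := M) (u := u)
      ⟨hK, by omega, fun E hE hc' hz' hU => ?_, hu4, X, hR1, hc, hM, hM', hne⟩).normalizes X)
    exact SUFour.Klein.pauli_maximal_of C hp hk (by omega) E hE hc' hz' hU

/-- The dichotomy at `J` over a prime field of odd order. -/
theorem jdich (hp : (Fintype.card F).Prime) (hodd : Odd (Fintype.card F)) : JDich I8 F := by
  obtain ⟨m, hm⟩ := hodd
  rcases Nat.even_or_odd m with ⟨j, hj⟩ | ⟨j, hj⟩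
  · exact jdich_split hp (by omega)
  · exact jdich_inert hp (by omega)

/-- The dichotomy for blocks of dimension eight over a prime field of odd order. -/
theorem dich_eight (hp : (Fintype.card F).Prime) (hodd : Odd (Fintype.card F)) : Dich (Fin (2 ^ 3)) F := by
  obtain ⟨e⟩ : Nonempty (Fin 8 ≃ Fin 4 ⊕ Fin 4) := ⟨Fintype.equivOfCardEq (by simp)⟩
  exact dich_of_jdich (jdich hp hodd) e (Fintype.card_fin 8)

end CfsgLib.MaxSub.Extra.Plus
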