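import Cfsg.Agent.Lib.MaxSub.Extra.Plus.Over
import Cfsg.Agent.Lib.MaxSub.WreathMaximalOrth
import Cfsg.Agent.Lib.FiniteForms.Congr

/-!
An overgroup containing the commutator subgroup of one block is everything.
-/

set_option autoImplicit false
set_option linter.unusedSectionVars false
set_option linter.style.haveILetI false
set_option maxHeartbeats 800000

namespace CfsgLib.MaxSub.Extra.Plus

open Matrix Subgroup
open CfsgLib.MaxSub.QuadTwo (glEquiv coe_glEquiv glEquiv_neg mem_map_glEquiv map_normalizer)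

variable {F : Type*} [Field F]

/-- A reflection as a unit. -/
theorem exists_rfU {ι : Type} [Fintype ι] [DecidableEq ι] (h2 : (2 : F) ≠ 0) {v : ι → F} (hv : v ⬝ᵥ v ≠ 0) :
    ∃ r : GL ι F, r ∈ Og ι F ∧ r.1 = rf v ∧ r * r = 1 := by
  have hs : rf v * rf v = 1 := by
    have e : vecMulVec v v * vecMulVec v v = (v ⬝ᵥ v) • vecMulVec v v := by
      rw [vecMulVec_mul_vecMulVec]
      ext i j
      simp [vecMulVec_apply]
      ring
    simp only [rf, Matrix.sub_mul, Matrix.mul_sub, Matrix.one_mul, Matrix.mul_one, Matrix.smul_mul, Matrix.mul_smul,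
      e, smul_smul]
    rw [show 2 * (v ⬝ᵥ v)⁻¹ * (v ⬝ᵥ v) = (2 : F) by rw [mul_assoc, inv_mul_cancel₀ hv, mul_one]]
    rw [two_smul, smul_sub, smul_add]
    abel
  refine ⟨⟨rf v, rf v, hs, hs⟩, ?_, rfl, Units.ext hs⟩
  rw [mem_Og h2]
  show (rf v)ᵀ * rf v = 1
  rw [show (rf v)ᵀ = rf v by simp [rf, transpose_sub, transpose_vecMulVec]]
  exact hs

theorem blocks_sub {κ : Type} (A B C D A' B' C' D' : Matrix κ κ F) :
    fromBlocks A B C D - fromBlocks A' B' C' D' = fromBlocks (A - A') (B - B') (C - C') (D - D') := by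
  ext (i | i) (j | j) <;> simp

section Setting

variable [Fintype F] {κ : Type} [Fintype κ] [DecidableEq κ]

local notation "GL2" => GL (κ ⊕ κ) F
local notation "GL1" => GL κ F

variable {R H : Subgroup (GL (κ ⊕ κ) F)} {lam : Type} [Fintype lam] [DecidableEq lam]

omit [Fintype F] in
theorem rf_inr {v : κ → F} : rf (Sum.elim (0 : κ → F) v) = fromBlocks (1 : Matrix κ κ F) 0 0 (rf v) := by
  ext (i | i) (j | j) <;> simp [rf, vecMulVec_apply, Matrix.one_apply, sumElim_dotProduct_sumElim]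

/-- A full first block gives the elements fixing the negated space of the involution sent to `Z0`. -/
theorem of_full_image (hκ : 2 ≤ Fintype.card κ) {ι : Type} [Fintype ι] [DecidableEq ι] {H : Subgroup (GL ι F)}
    {Ψ : Matrix ι ι F ≃ₐ[F] Matrix (κ ⊕ κ) (κ ⊕ κ) F} (hΨ : OIso Ψ) (h2 : (2 : F) ≠ 0) {z g : GL ι F}
    (hΨz : glEquiv Ψ z = Z0) (hfull' : ∀ y ∈ Om κ F, emb (y, 1) ∈ H.map (glEquiv Ψ).toMonoidHom)
    (hg : g ∈ Om ι F) (hgz : g * z = z * g) (hfix : g.1 * Extra.minus z = Extra.minus z) : g ∈ H := by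
  obtain ⟨p, q, hpq⟩ := comm_Z0 h2 (g := glEquiv Ψ g) (by rw [← hΨz, ← map_mul, hgz, map_mul])
  have hq : q = 1 := by
    have h' := congrArg Ψ hfix
    rw [map_mul, show Ψ (Extra.minus z) = Extra.minus (glEquiv Ψ z) by simp [Extra.minus],
      hΨz, ← coe_glEquiv, hpq, emb_val, Extra.minus, Z0_val, ← fromBlocks_one, blocks_sub,
      fromBlocks_multiply, fromBlocks_inj] at h'
    refine Units.ext ?_
    have h4 := h'.2.2.2
    simp only [Matrix.zero_mul, zero_add, sub_neg_eq_add, ← two_smul F (1 : Matrix κ κ F), Matrix.mul_smul,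
      Matrix.mul_one] at h4
    exact smul_right_injective _ h2 h4
  subst hq
  have hpOm : glEquiv Ψ g ∈ Om (κ ⊕ κ) F := hΨ.om.2 hg
  rw [hpq] at hpOm
  have hp := Om_of_emb h2 hκ ((emb_mem_Og h2).1 (Om_le hpOm)).1 hpOm
  exact mem_map_glEquiv.1 (hpq ▸ hfull' p hp)

/-- The elements fixing the negated space of every `emb (c, c)` lie in the overgroup. -/
def Next (R H : Subgroup (GL (κ ⊕ κ) F)) : Prop :=
  ∀ c : GL κ F, IZ (side R) c → ∀ g ∈ Om (κ ⊕ κ) F, g * emb (c, c) = emb (c, c) * g →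
    g.1 * Extra.minus (emb (c, c)) = Extra.minus (emb (c, c)) → g ∈ H

/-- The neighbouring fixed spaces are in the full case, too. -/
theorem full_next (hD : Dich κ F) (e : κ ≃ lam ⊕ lam) (hκ : 2 ≤ Fintype.card κ) (O : Over R H) (S : Std R)
    (hfull : ∀ y ∈ Om κ F, emb (y, 1) ∈ H) {c : GL1} (hc : IZ (side R) c) {g : GL2} (hg : g ∈ Om (κ ⊕ κ) F)
    (hgz : g * emb (c, c) = emb (c, c) * g)
    (hfix : g.1 * Extra.minus (emb (c, c)) = Extra.minus (emb (c, c))) : g ∈ H := by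
  have h2 := S.two
  obtain ⟨Ψ, hΨ, hΨz, S'⟩ := O.transport (Equiv.refl _) e (S.iz_diag hc)
  rcases hD _ _ (O.map hΨ) S' with hblk | hfull'
  · exfalso
    obtain ⟨y, hy, hyc, hfar⟩ := S.side_pre.exists_far hc
    obtain ⟨d, hd, hdc, hde⟩ := O.agree_of S hc (hfull y hy) hyc
      fun h hh hhz r hr hrz => Over.proj_of hΨz S' hblk hh hhz hr hrz
    exact hfar d hd hdc hde
  exact of_full_image hκ hΨ h2 hΨz hfull' hg hgz hfix

omit [Fintype F] in
/-- Vectors of every norm in the fixed space of an involution. -/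
theorem exists_norm [Finite F] (S : Std R) {c : GL1} (hc : IZ (side R) c) {α : F} (hα : α ≠ 0) :
    ∃ v : κ → F, c.1 *ᵥ v = v ∧ v ⬝ᵥ v = α := by
  have X := S.side_pre
  have h2 := S.two
  have hcs := symm_of_sq h2 (S.side_le hc.1) hc.2.1
  obtain ⟨i, hi⟩ : ∃ i, Extra.plus c i i ≠ 0 := by
    by_contra! hh
    have : Matrix.trace (Extra.plus c) = 0 := Finset.sum_eq_zero fun i _ => hh i
    rw [Extra.plus, Matrix.trace_add, Matrix.trace_one, X.trace0 hc.1 hc.2.2, add_zero] at this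
    exact X.ncard this
  set u : κ → F := Extra.plus c *ᵥ Pi.single i 1 with hu
  have hcu : c.1 *ᵥ u = u := by
    rw [hu, Matrix.mulVec_mulVec]
    congr 1
    simp [Extra.plus, Matrix.mul_add, show c.1 * c.1 = 1 from congrArg Units.val hc.2.1, add_comm]
  have hPs : (Extra.plus c)ᵀ = Extra.plus c := by rw [Extra.plus, transpose_add, transpose_one, hcs]
  have hβ : u ⬝ᵥ u ≠ 0 := by
    rw [hu, Matrix.dotProduct_mulVec, Matrix.vecMul_mulVec, ← Matrix.dotProduct_mulVec, hPs, single_dotProduct,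
      one_mul, Matrix.mulVec_single_one, (plus_sq hc.2.1).1]
    simp [hi, h2]
  obtain ⟨r₀, hr₀, hr₀c⟩ := X.anti hc.1 hc.2.2
  obtain ⟨r, hr, hrc, -, hrr⟩ := X.cent_two_sq hc.1 hr₀ hr₀c
  have hr2 : r.1 * r.1 = -1 := by
    have := congrArg Units.val (X.sq_neg hr hrr)
    simpa using this
  have hrt : r.1ᵀ = -r.1 := by
    rw [← inv_eq_transpose h2 (S.side_le hr)]
    exact Units.inv_eq_of_mul_eq_one_right (by rw [Matrix.mul_neg, hr2, neg_neg])
  set w := r.1 *ᵥ u with hw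
  have hcw : c.1 *ᵥ w = w := by
    rw [hw, Matrix.mulVec_mulVec, show c.1 * r.1 = r.1 * c.1 from congrArg Units.val hrc.symm,
      ← Matrix.mulVec_mulVec, hcu]
  have huw : u ⬝ᵥ w = 0 := by
    have e1 : u ⬝ᵥ w = -(u ⬝ᵥ w) := by
      calc u ⬝ᵥ w = (r.1ᵀ *ᵥ u) ⬝ᵥ u := by rw [hw, Matrix.dotProduct_mulVec, ← Matrix.mulVec_transpose]
        _ = -(u ⬝ᵥ w) := by rw [hrt, Matrix.neg_mulVec, neg_dotProduct, hw, dotProduct_comm u]
    have : (2 : F) * (u ⬝ᵥ w) = 0 := by linear_combination e1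
    exact (mul_eq_zero.1 this).resolve_left h2
  have hww : w ⬝ᵥ w = u ⬝ᵥ u := by
    rw [hw, Matrix.dotProduct_mulVec, ← Matrix.mulVec_transpose, Matrix.mulVec_mulVec, hrt, Matrix.neg_mul, hr2,
      neg_neg, Matrix.one_mulVec]
  obtain ⟨x, y, hxy⟩ := FiniteForms.exists_rep_one h2 (div_ne_zero hβ hα) (div_ne_zero hβ hα)
  refine ⟨x • u + y • w, by rw [Matrix.mulVec_add, Matrix.mulVec_smul, Matrix.mulVec_smul, hcu, hcw], ?_⟩
  simp only [add_dotProduct, dotProduct_add, smul_dotProduct, dotProduct_smul, huw, dotProduct_comm w u, hww,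
    smul_eq_mul]
  field_simp at hxy
  linear_combination hxy

/-- The diagonal of the orthogonal group lies in the overgroup. -/
theorem full_diag (hnext : Next R H) (hκ : 2 ≤ Fintype.card κ) (O : Over R H) (S : Std R)
    (hfull : ∀ y ∈ Om κ F, emb (y, 1) ∈ H) {a : GL1} (ha : a ∈ Og κ F) : emb (a, a) ∈ H := by
  have h2 := S.two
  obtain ⟨vs, hvs, hav⟩ := exists_prod h2 ha
  clear ha
  induction vs generalizing a with
  | nil =>
    rw [show a = 1 from Units.ext (by simpa using hav), emb_one]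
    exact one_mem H
  | cons v vs ih =>
    have hv := hvs v List.mem_cons_self
    obtain ⟨r, hr, hrv, hrr⟩ := exists_rfU h2 hv
    obtain ⟨b, hbdef⟩ : ∃ b, b = r * a := ⟨_, rfl⟩
    have hb : b.1 = (vs.map rf).prod := by
      have hrr' : rf v * rf v = 1 := by rw [← hrv]; exact congrArg Units.val hrr
      rw [hbdef, Units.val_mul, hrv, hav, List.map_cons, List.prod_cons, ← Matrix.mul_assoc, hrr', Matrix.one_mul]
    have hbH := ih (fun w hw => hvs w (List.mem_cons_of_mem _ hw)) hb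
    rw [show a = r * b by rw [hbdef, ← mul_assoc, hrr, one_mul], ← emb_mul]
    refine mul_mem ?_ hbH
    obtain ⟨_, -, -, c, -, hc, -⟩ := S.side_pre.exists_in 1 1 (one_mem _) (one_mem _)
    obtain ⟨v', hcv, hv'⟩ := exists_norm S hc hv
    obtain ⟨r', hr', hrv', hrr'⟩ := exists_rfU h2 (v := v') (hv'.symm ▸ hv)
    have hx : r * r' ∈ Om κ F := pair_mem_Om h2 hκ (mul_mem hr hr') hv hv'.symm (by rw [Units.val_mul, hrv, hrv'])
    have h1 := hfull _ hx
    have h3 : emb (r', r') ∈ H := by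
      have hcs : c.1ᵀ = c.1 := symm_of_sq h2 (S.side_le hc.1) hc.2.1
      have hcv' : v' ᵥ* c.1 = v' := by rw [← Matrix.mulVec_transpose, hcs, hcv]
      refine hnext c hc _ (diag_mem_Om h2 (by omega) hr') ?_ ?_
      · rw [emb_mul, emb_mul, emb_inj, and_self]
        refine Units.ext ?_
        rw [Units.val_mul, Units.val_mul, hrv', rf, Matrix.mul_sub, Matrix.sub_mul, Matrix.mul_smul, Matrix.smul_mul,
          Matrix.one_mul, Matrix.mul_one, vecMulVec_mul, mul_vecMulVec, hcv', hcv]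
      · have e1 : rf v' * Extra.minus c = Extra.minus c := by
          rw [rf, Matrix.sub_mul, Matrix.one_mul, Matrix.smul_mul, vecMulVec_mul,
            show v' ᵥ* Extra.minus c = 0 by rw [Extra.minus, Matrix.vecMul_sub, Matrix.vecMul_one, hcv', sub_self]]
          simp
        rw [show Extra.minus (emb (c, c)) = fromBlocks (Extra.minus c) 0 0 (Extra.minus c) by
          rw [Extra.minus, emb_val, ← fromBlocks_one, blocks_sub]; simp [Extra.minus],
          emb_val, hrv', fromBlocks_multiply, e1]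
        simp
    have := mul_mem (mul_mem h1 (O.swap_mem S h1)) h3
    rwa [emb_mul, emb_mul, mul_one, one_mul, mul_assoc r r' r', hrr', mul_one] at this

/-- An overgroup containing the commutator subgroup of a block contains that of the whole space. -/
theorem full_absurd (hnext : Next R H) (hκ : 4 ≤ Fintype.card κ) (O : Over R H) (S : Std R)
    (hfull : ∀ y ∈ Om κ F, emb (y, 1) ∈ H) : False := by
  classical
  have h2 := S.two
  let W : Submodule F (κ ⊕ κ → F) := LinearMap.eqLocus (Matrix.toLin' (Z0 : GL2).1) LinearMap.id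
  let W' : Submodule F (κ ⊕ κ → F) := LinearMap.eqLocus (Matrix.toLin' (Z0 : GL2).1) (-LinearMap.id)
  have hZv : ∀ a b : κ → F, (Z0 : GL2).1 *ᵥ Sum.elim a b = Sum.elim a (-b) := fun a b => by
    rw [Z0_val, fromBlocks_mulVec]; simp [Function.comp_def, Matrix.neg_mulVec]
  have hsv : ∀ a b : κ → F, (swp : GL2).1 *ᵥ Sum.elim a b = Sum.elim b a := fun a b => by
    rw [swp_val, fromBlocks_mulVec]; simp [Function.comp_def]
  have split : ∀ x : κ ⊕ κ → F, ∃ a b, x = Sum.elim a b := fun x => ⟨_, _, (Sum.elim_comp_inl_inr x).symm⟩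
  have self0 : ∀ {a : κ → F}, a = -a → a = 0 := fun {a} h =>
    (smul_eq_zero.1 (show (2 : F) • a = 0 by rw [two_smul]; exact add_eq_zero_iff_eq_neg.2 h)).resolve_left h2
  have mW : ∀ {x : κ ⊕ κ → F}, x ∈ W ↔ ∃ a, x = Sum.elim a (0 : κ → F) := fun {x} => by
    obtain ⟨a, b, rfl⟩ := split x
    show (Z0 : GL2).1 *ᵥ Sum.elim a b = Sum.elim a b ↔ _
    rw [hZv]
    refine ⟨fun h => ⟨a, by rw [self0 (a := b) (Sum.elim_eq_iff.1 h).2.symm]⟩, fun ⟨a', h⟩ => ?_⟩
    rw [(Sum.elim_eq_iff.1 h).2, neg_zero]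
  have mW' : ∀ {x : κ ⊕ κ → F}, x ∈ W' ↔ ∃ b, x = Sum.elim (0 : κ → F) b := fun {x} => by
    obtain ⟨a, b, rfl⟩ := split x
    show (Z0 : GL2).1 *ᵥ Sum.elim a b = -Sum.elim a b ↔ _
    rw [hZv, show -Sum.elim a b = Sum.elim (-a) (-b) by ext (i | i) <;> simp]
    refine ⟨fun h => ⟨b, by rw [self0 (a := a) (Sum.elim_eq_iff.1 h).1]⟩, fun ⟨b', h⟩ => ?_⟩
    rw [(Sum.elim_eq_iff.1 h).1, neg_zero]
  let D : Fin 2 → Submodule F (κ ⊕ κ → F) := ![W, W']
  have eW : Module.finrank F W = Fintype.card κ ∧ Module.finrank F W' = Fintype.card κ := by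
    let e₁ : (κ → F) ≃ₗ[F] W :=
      { toFun := fun a => ⟨Sum.elim a (0 : κ → F), mW.2 ⟨a, rfl⟩⟩
        invFun := fun x i => x.1 (Sum.inl i)
        left_inv := fun a => rfl
        right_inv := fun x => Subtype.ext (by obtain ⟨a, ha⟩ := mW.1 x.2; rw [ha]; ext (i | i) <;> simp [ha])
        map_add' := fun a b => Subtype.ext (by ext (i | i) <;> simp)
        map_smul' := fun a b => Subtype.ext (by ext (i | i) <;> simp) }
    let e₂ : (κ → F) ≃ₗ[F] W' :=
      { toFun := fun b => ⟨Sum.elim (0 : κ → F) b, mW'.2 ⟨b, rfl⟩⟩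
        invFun := fun x i => x.1 (Sum.inr i)
        left_inv := fun a => rfl
        right_inv := fun x => Subtype.ext (by obtain ⟨a, ha⟩ := mW'.1 x.2; rw [ha]; ext (i | i) <;> simp [ha])
        map_add' := fun a b => Subtype.ext (by ext (i | i) <;> simp)
        map_smul' := fun a b => Subtype.ext (by ext (i | i) <;> simp) }
    exact ⟨by rw [← e₁.finrank_eq, Module.finrank_fintype_fun_eq_card],
      by rw [← e₂.finrank_eq, Module.finrank_fintype_fun_eq_card]⟩
  have hdis : W ⊓ W' = ⊥ := (Submodule.eq_bot_iff _).2 fun x ⟨h, h'⟩ => by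
    obtain ⟨a, rfl⟩ := mW.1 h
    obtain ⟨b, hb⟩ := mW'.1 h'
    rw [(Sum.elim_eq_iff.1 hb).1]
    ext (i | i) <;> simp
  have hsup : W ⊔ W' = ⊤ := eq_top_iff.2 fun x _ => by
    obtain ⟨a, b, rfl⟩ := split x
    rw [show Sum.elim a b = Sum.elim a (0 : κ → F) + Sum.elim (0 : κ → F) b by ext (i | i) <;> simp]
    exact Submodule.add_mem_sup (mW.2 ⟨a, rfl⟩) (mW'.2 ⟨b, rfl⟩)
  have horth : ∀ a ∈ W, ∀ b ∈ W', QuadraticMap.polar (⇑(dq (κ ⊕ κ) F)) a b = 0 := fun a ha b hb => by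
    obtain ⟨a', rfl⟩ := mW.1 ha
    obtain ⟨b', rfl⟩ := mW'.1 hb
    rw [dq_polar, sumElim_dotProduct_sumElim]; simp
  have hndW : ∀ {a : κ → F}, a ≠ 0 → ∃ y : κ → F, a ⬝ᵥ y ≠ 0 := fun {a} ha => by
    by_contra! hh
    exact ha (dotProduct_eq_zero a hh)
  have hdec : Cfsg.Geo.IsOrthogonalMDecomposition (⇑(dq (κ ⊕ κ) F)) (Fintype.card κ) D := by
    refine ⟨⟨⟨le_rfl, by omega, fun i => ?_, ?_, ?_⟩, fun i => ?_, fun i j hij => ?_⟩, fun i j => ?_⟩
    · fin_cases i
      exacts [eW.1, eW.2]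
    · rw [iSupIndep_pair (i := (0 : Fin 2)) (j := 1) (by decide) (fun i => by fin_cases i <;> simp)]
      exact disjoint_iff.2 hdis
    · rw [eq_top_iff, ← hsup]
      exact sup_le (le_iSup D 0) (le_iSup D 1)
    · fin_cases i
      · intro w hw hw0
        obtain ⟨a, rfl⟩ := mW.1 hw
        obtain ⟨y, hy⟩ := hndW (a := a) (by rintro rfl; exact hw0 (by ext (i | i) <;> simp))
        refine ⟨⟨Sum.elim y (0 : κ → F), mW.2 ⟨y, rfl⟩, ?_⟩, ⟨Sum.elim y (0 : κ → F), mW.2 ⟨y, rfl⟩, ?_⟩⟩ <;>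
        · rw [dq_polar, sumElim_dotProduct_sumElim]; simp [h2, hy, dotProduct_comm y a]
      · intro w hw hw0
        obtain ⟨a, rfl⟩ := mW'.1 hw
        obtain ⟨y, hy⟩ := hndW (a := a) (by rintro rfl; exact hw0 (by ext (i | i) <;> simp))
        refine ⟨⟨Sum.elim (0 : κ → F) y, mW'.2 ⟨y, rfl⟩, ?_⟩, ⟨Sum.elim (0 : κ → F) y, mW'.2 ⟨y, rfl⟩, ?_⟩⟩ <;>
        · rw [dq_polar, sumElim_dotProduct_sumElim]; simp [h2, hy, dotProduct_comm y a]
    · fin_cases i <;> fin_cases j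
      exacts [absurd rfl hij, fun a ha b hb => horth a ha b hb,
        fun a ha b hb => by rw [QuadraticMap.polar_comm]; exact horth b hb a ha, absurd rfl hij]
    · have hsw : ∀ {x}, x ∈ W → (swp : GL2).1 *ᵥ x ∈ W' := fun {x} hx => by
        obtain ⟨a, rfl⟩ := mW.1 hx; rw [hsv]; exact mW'.2 ⟨a, rfl⟩
      have hsw' : ∀ {x}, x ∈ W' → (swp : GL2).1 *ᵥ x ∈ W := fun {x} hx => by
        obtain ⟨a, rfl⟩ := mW'.1 hx; rw [hsv]; exact mW.2 ⟨a, rfl⟩
      have hinv : ∀ x : κ ⊕ κ → F, (swp : GL2).1 *ᵥ ((swp : GL2).1 *ᵥ x) = x := fun x => by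
        obtain ⟨a, b, rfl⟩ := split x; rw [hsv, hsv]
      have hq : ∀ x : κ ⊕ κ → F, dq (κ ⊕ κ) F ((swp : GL2).1 *ᵥ x) = dq (κ ⊕ κ) F x := fun x => by
        obtain ⟨a, b, rfl⟩ := split x
        rw [hsv, dq_apply, dq_apply, sumElim_dotProduct_sumElim, sumElim_dotProduct_sumElim, add_comm]
      let ε : W ≃ₗ[F] W' :=
        { toFun := fun x => ⟨_, hsw x.2⟩
          invFun := fun x => ⟨_, hsw' x.2⟩
          left_inv := fun x => Subtype.ext (hinv x.1)
          right_inv := fun x => Subtype.ext (hinv x.1)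
          map_add' := fun x y => Subtype.ext (by simp [Matrix.mulVec_add])
          map_smul' := fun c x => Subtype.ext (by simp [Matrix.mulVec_smul]) }
      fin_cases i <;> fin_cases j
      exacts [⟨LinearEquiv.refl F _, fun _ => rfl⟩, ⟨ε, fun x => hq x.1⟩, ⟨ε.symm, fun x => hq x.1⟩,
        ⟨LinearEquiv.refl F _, fun _ => rfl⟩]
  have hn : 5 ≤ Fintype.card (κ ⊕ κ) := by rw [Fintype.card_sum]; omega
  have hmax := OrthWreath.orth_wreath_maximal (R := dq (κ ⊕ κ) F) (D := D)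
    ⟨hn, dq_nd h2, h2, by omega, Or.inl hκ, hdec⟩
  have hstab : ∀ g ∈ Cfsg.Geo.decompositionStabilizer D, g * Z0 = Z0 * g ∨ g * Z0 = -(Z0 * g) := fun g hg => by
    obtain ⟨σ, hσ⟩ := hg
    have mW0 : ∀ {x}, x ∈ W → (Z0 : GL2).1 *ᵥ x = x := fun {x} h => h
    have mW1 : ∀ {x}, x ∈ W' → (Z0 : GL2).1 *ᵥ x = -x := fun {x} h => h
    have ext : ∀ {A B : Matrix (κ ⊕ κ) (κ ⊕ κ) F}, (∀ a ∈ W, A *ᵥ a = B *ᵥ a) → (∀ b ∈ W', A *ᵥ b = B *ᵥ b) →
        A = B := fun {A B} h h' =>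
      Matrix.toLin'.injective (LinearMap.ext fun v => by
        obtain ⟨a, ha, b, hb, rfl⟩ := Submodule.mem_sup.1 (hsup ▸ Submodule.mem_top : v ∈ W ⊔ W')
        rw [Matrix.toLin'_apply, Matrix.toLin'_apply, Matrix.mulVec_add, Matrix.mulVec_add, h a ha, h' b hb])
    have himg : ∀ i {a}, a ∈ D i → g.1 *ᵥ a ∈ D (σ i) := fun i a ha => hσ i ▸ Submodule.mem_map_of_mem ha
    rcases eq_or_ne (σ 0) 0 with h0 | h0
    · have h1 : σ 1 = 1 := by
        have : σ 1 ≠ 0 := fun e => by simpa using σ.injective (e.trans h0.symm)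
        omega
      refine Or.inl (Units.ext (ext (fun a ha => ?_) fun b hb => ?_))
      · have := himg 0 ha
        rw [h0] at this
        rw [Units.val_mul, Units.val_mul, ← Matrix.mulVec_mulVec, ← Matrix.mulVec_mulVec, mW0 ha, mW0 this]
      · have := himg 1 hb
        rw [h1] at this
        rw [Units.val_mul, Units.val_mul, ← Matrix.mulVec_mulVec, ← Matrix.mulVec_mulVec, mW1 hb, mW1 this,
          Matrix.mulVec_neg]
    · have h01 : σ 0 = 1 := by omega
      have h1 : σ 1 = 0 := by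
        have : σ 1 ≠ 1 := fun e => by simpa using σ.injective (e.trans h01.symm)
        omega
      refine Or.inr (Units.ext (ext (fun a ha => ?_) fun b hb => ?_))
      · have := himg 0 ha
        rw [h01] at this
        rw [Units.val_mul, Units.val_neg, Units.val_mul, Matrix.neg_mulVec, ← Matrix.mulVec_mulVec,
          ← Matrix.mulVec_mulVec, mW0 ha, mW1 this, neg_neg]
      · have := himg 1 hb
        rw [h1] at this
        rw [Units.val_mul, Units.val_neg, Units.val_mul, Matrix.neg_mulVec, ← Matrix.mulVec_mulVec,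
          ← Matrix.mulVec_mulVec, mW1 hb, mW0 this, Matrix.mulVec_neg]
  have hblock : ∀ g ∈ Om (κ ⊕ κ) F, g * Z0 = Z0 * g → g ∈ H := fun g hg hgz => by
    obtain ⟨a, b, rfl⟩ := comm_Z0 h2 hgz
    obtain ⟨ha, hb⟩ := (emb_mem_Og h2).1 (Om_le hg)
    have hd := full_diag hnext (by omega) O S hfull hb
    have h1 : emb (a * b⁻¹, 1) ∈ Om (κ ⊕ κ) F := by
      have := mul_mem hg (inv_mem (diag_mem_Om (F := F) h2 (by omega : 1 ≤ Fintype.card κ) hb))
      rwa [emb_inv, emb_mul, mul_inv_cancel] at this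
    have := mul_mem (hfull _ (Om_of_emb h2 (by omega) (mul_mem ha (inv_mem hb)) h1)) hd
    rwa [emb_mul, inv_mul_cancel_right, one_mul] at this
  have hsOm : (swp : GL2) ∈ Om (κ ⊕ κ) F := S.pre.le_Om S.hs
  have hle : Cfsg.Geo.decompositionStabilizer D ⊓ Om (κ ⊕ κ) F ≤ H ⊓ Om (κ ⊕ κ) F := fun g hg => by
    refine ⟨?_, hg.2⟩
    rcases hstab g hg.1 with e' | e'
    · exact hblock g hg.2 e'
    · have := hblock (g * swp) (mul_mem hg.2 hsOm) (Pre.anti_anti e' swp_Z0)
      have h1 := mul_mem this (O.swp_mem S)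
      rwa [mul_assoc, swp_sq, mul_one] at h1
  rcases hmax.2 _ hle inf_le_right with h | h
  · obtain ⟨_, -, -, c, -, hc, -⟩ := S.side_pre.exists_in 1 1 (one_mem _) (one_mem _)
    have hiz := S.iz_swp
    have hcR := mem_side.1 hc.1
    have hcs : emb (c, c) * swp = swp * emb (c, c) := (swp_emb c c).symm
    have hxO : root swp (emb (c, c)) ∈ Om (κ ⊕ κ) F := S.pre.root_Om S.big hiz hcR hcs
    have hxH : root swp (emb (c, c)) ∈ H := O.low ⟨S.pre.root_norm hiz hcR hcs, hxO⟩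
    have hx := hstab _ ((h.le ⟨hxH, hxO⟩ : _ ∈ Cfsg.Geo.decompositionStabilizer D ⊓ Om (κ ⊕ κ) F)).1
    have hv : (root (swp : GL2) (emb (c, c))).1 =
        (2 : F)⁻¹ • fromBlocks (1 + c.1) (1 - c.1) (1 - c.1) (1 + c.1) := by
      rw [root_val h2 hiz.2.1 hcs, rootM]
      congr 1
      rw [Extra.plus, Extra.minus, swp_val, emb_val, ← fromBlocks_one, fromBlocks_add, blocks_sub,
        fromBlocks_multiply, fromBlocks_add]
      simp [sub_eq_add_neg]
    have hc0 : ∀ A : Matrix κ κ F, (2 : F)⁻¹ • A = -((2 : F)⁻¹ • A) → A = 0 := fun A hA => by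
      have h0 : (2 : F) • ((2 : F)⁻¹ • A) = 0 := by rw [two_smul]; exact add_eq_zero_iff_eq_neg.2 hA
      rwa [smul_smul, mul_inv_cancel₀ h2, one_smul] at h0
    rcases hx with e' | e' <;> have h' := congrArg Units.val e' <;>
      simp only [Units.val_neg, Units.val_mul, hv, Z0_val, Matrix.smul_mul, Matrix.mul_smul, fromBlocks_multiply,
        Matrix.mul_neg, Matrix.mul_one, Matrix.one_mul, Matrix.neg_mul, Matrix.mul_zero, Matrix.zero_mul, add_zero,
        zero_add, fromBlocks_neg, fromBlocks_smul, fromBlocks_inj, smul_neg, smul_zero] at h'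
    · exact hc.2.2 (Or.inl (Units.ext (sub_eq_zero.1 (hc0 _ h'.2.1.symm)).symm))
    · exact hc.2.2 (Or.inr (Units.ext (by
        rw [Units.val_neg, Units.val_one]
        exact eq_neg_of_add_eq_zero_right (hc0 _ h'.1))))
  · exact O.ne fun g hg => (h.ge hg : g ∈ H ⊓ Om (κ ⊕ κ) F).1

end Setting

end CfsgLib.MaxSub.Extra.Plus
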