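import Cfsg.Agent.Lib.MaxSub.Extra.Plus.Pre

/-!
A group between `E` and its normaliser that is normalised by the elements `root c e` and meets the centraliser
of every non-central involution in `E` equals `E`.
-/

set_option autoImplicit false
set_option linter.unusedSectionVars false
set_option linter.style.haveILetI false

namespace CfsgLib.MaxSub.Extra.Plus

open Matrix Subgroup

variable {F : Type*} [Field F] {ι : Type} [Fintype ι] [DecidableEq ι] {E K : Subgroup (GL ι F)}

theorem Pre.kernel (X : Pre E) (hEK : E ≤ K) (hN : K ≤ normalizer (E : Set (GL ι F)))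
    (hroot : ∀ c e, IZ E c → e ∈ E → e * c = c * e → ∀ y ∈ K, root c e * y * (root c e)⁻¹ ∈ K)
    (semi : ∀ t ∈ K, ∀ c, IZ E c → t * c = c * t → t ∈ E) : K ≤ E := by
  intro y hy
  by_contra hyE
  have hconj : ∀ {r}, r ∈ E → y⁻¹ * r * y ∈ E := fun {r} hr => by
    have := (Subgroup.mem_normalizer_iff.1 (inv_mem (hN hy)) r).1 hr
    rwa [inv_inv] at this
  have hiz : ∀ {c}, IZ E c → IZ E (y⁻¹ * c * y) := fun {c} hc => ⟨hconj hc.1, by
    rw [show y⁻¹ * c * y * (y⁻¹ * c * y) = y⁻¹ * (c * c) * y by group, hc.2.1, mul_one, inv_mul_cancel],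
    fun e => hc.2.2 (by
      have := e.conj y
      rwa [show y * (y⁻¹ * c * y) * y⁻¹ = c by group, mul_one, mul_inv_cancel] at this)⟩
  have hfix : ∀ {c}, IZ E c → ¬ PM (y⁻¹ * c * y) c := fun {c} hc e => by
    rcases e with e | e
    · refine hyE (semi y hy c hc ?_)
      calc y * c = y * (y⁻¹ * c * y) := by rw [e]
        _ = c * y := by group
    · obtain ⟨r, hr, hrc⟩ := X.anti hc.1 hc.2.2
      have h1 : y * c = -(c * y) := by
        calc y * c = y * -(y⁻¹ * c * y) := by rw [e, neg_neg]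
          _ = -(c * y) := by rw [mul_neg]; congr 1; group
      have h2 := semi (r * y) (mul_mem (hEK hr) hy) c hc (Pre.anti_anti hrc h1)
      exact hyE ((Subgroup.mul_mem_cancel_left _ hr).1 h2)
  -- the commutator with a root element
  have step : ∀ {a b : GL ι F}, IZ E a → b ∈ E → b * a = a * b → ¬ PM b 1 → ¬ PM b a →
      ∀ c, IZ E c → root a b * c * (root a b)⁻¹ = c →
      root a b * (y⁻¹ * c * y) * (root a b)⁻¹ = y⁻¹ * c * y →
      PM (y⁻¹ * a * y) 1 ∨ PM (y⁻¹ * a * y) a ∨ PM (y⁻¹ * a * y) b ∨ PM (y⁻¹ * a * y) (a * b) := by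
    intro a b ha hb hba hb1 hbn c hc hsc hsc'
    set s := root a b with hs
    have ht : y * (s * y⁻¹ * s⁻¹) ∈ K := mul_mem hy (hroot a b ha hb hba _ (inv_mem hy))
    set t := y * (s * y⁻¹ * s⁻¹) with htdef
    have htE : t ∈ E := semi t ht c hc (by
      have e1 : s⁻¹ * c * s = c := by nth_rw 1 [← hsc]; group
      have e3 : t * c * t⁻¹ = c := by
        calc t * c * t⁻¹ = y * (s * (y⁻¹ * (s⁻¹ * c * s) * y) * s⁻¹) * y⁻¹ := by rw [htdef]; group
          _ = c := by rw [e1, hsc']; group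
      exact mul_inv_eq_iff_eq_mul.1 e3)
    obtain ⟨r, hr, hra, hrb⟩ := X.exists_anti_cent ha hb hb1 hbn
    have key : PM (s * (y⁻¹ * r * y) * s⁻¹) (y⁻¹ * a * y * (y⁻¹ * r * y)) := by
      have h1 : PM (t * (s * r * s⁻¹) * t⁻¹) (a * r) := by
        rw [hs, X.root_shift ha hba hra hrb]
        rcases X.comm t htE (a * r) (mul_mem ha.1 hr) with e | e
        · exact Or.inl (by rw [e, mul_inv_cancel_right])
        · exact Or.inr (by rw [e, neg_mul, mul_inv_cancel_right])
      have h3 := h1.conj y⁻¹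
      convert h3 using 1 <;> (try rw [htdef]) <;> group
    have hcancel : ∀ {x}, PM (s * (y⁻¹ * r * y) * s⁻¹) (x * (y⁻¹ * r * y)) → PM (y⁻¹ * a * y) x := fun {x} h => by
      have := (key.symm.trans h).mul (PM.refl (y⁻¹ * r * y)⁻¹)
      rwa [mul_inv_cancel_right, mul_inv_cancel_right] at this
    rcases X.root_cases ha hb hba (hconj hr) with h | h | h | h
    · exact Or.inl (hcancel (by rwa [one_mul]))
    · exact Or.inr (Or.inl (hcancel h))
    · exact Or.inr (Or.inr (Or.inl (hcancel h)))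
    · exact Or.inr (Or.inr (Or.inr (hcancel h)))
  have hcj : ∀ {a b x : GL ι F}, IZ E a → b * a = a * b → x * a = a * x → x * b = b * x →
      root a b * x * (root a b)⁻¹ = x := fun {a b x} ha hba h1 h3 => by
    have e := root_conj X.two ha.2.1 hba x
    rw [show x * a * x⁻¹ = a by rw [h1, mul_inv_cancel_right], show x * b * x⁻¹ = b by
      rw [h3, mul_inv_cancel_right]] at e
    exact mul_inv_eq_iff_eq_mul.2 (mul_inv_eq_iff_eq_mul.1 e).symm
  -- no involution is moved to a commuting one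
  have hanti : ∀ {c}, IZ E c → (y⁻¹ * c * y) * c = -(c * (y⁻¹ * c * y)) := fun {c} hc => by
    refine (X.comm _ (hconj hc.1) c hc.1).resolve_left fun hcom => ?_
    obtain ⟨A, -, -, e, -, he, hec, hec', hn1, hn2, hn3⟩ := X.exists_in c (y⁻¹ * c * y) hc.1 (hconj hc.1)
    rcases step hc he.1 hec he.2.2 hn1 c hc (hcj hc hec rfl hec.symm) (hcj hc hec hcom hec'.symm) with h | h | h | h
    · exact (hiz hc).2.2 h
    · exact hfix hc h
    · exact hn2 h.symm
    · refine hn3 ?_
      have h5 := (PM.refl c).mul h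
      rw [← mul_assoc c c e, hc.2.1, one_mul] at h5
      exact h5.symm
  obtain ⟨A, -, -, c, -, hc, -⟩ := X.exists_in 1 1 (one_mem E) (one_mem E)
  set c' := y⁻¹ * c * y with hc'
  obtain ⟨A, -, -, a, -, ha, hac, hac', -, -, -⟩ := X.exists_in c c' hc.1 (hconj hc.1)
  obtain ⟨b, hb, hbc, hbc', hba, hb1, hbn⟩ : ∃ b ∈ E, b * c = c * b ∧ b * c' = c' * b ∧ b * a = a * b ∧
      ¬ PM b 1 ∧ ¬ PM b a := by
    classical
    by_contra! hh
    let C := E ⊓ centralizer {c} ⊓ centralizer {c'} ⊓ centralizer {a}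
    have hsub : ∀ x : C, (x : GL ι F) ∈ ([1, -1, a, -a] : List (GL ι F)).toFinset := fun x => by
      obtain ⟨⟨⟨hx, h1⟩, h3⟩, h4⟩ := x.2
      rw [List.mem_toFinset]
      by_cases h5 : PM (x : GL ι F) 1
      · rcases h5 with e | e <;> rw [e] <;> simp
      · rcases hh _ hx (mem_centralizer_singleton_iff.1 h1) (mem_centralizer_singleton_iff.1 h3)
          (mem_centralizer_singleton_iff.1 h4) h5 with e | e <;> rw [e] <;> simp
    have h4 := Nat.card_le_card_of_injective
      (fun x : C => (⟨x, hsub x⟩ : ([1, -1, a, -a] : List (GL ι F)).toFinset))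
      (fun x z e => Subtype.ext (congrArg (fun u : ([1, -1, a, -a] : List (GL ι F)).toFinset => (u : GL ι F)) e))
    rw [Nat.card_eq_finsetCard] at h4
    have h5 : Nat.card C ≤ 4 := h4.trans (List.toFinset_card_le _)
    have h6 := X.half le_rfl hc.1
    have h7 := X.half (inf_le_left : E ⊓ centralizer {c} ≤ E) (hconj hc.1)
    have h8 := X.half (inf_le_left.trans inf_le_left : E ⊓ centralizer {c} ⊓ centralizer {c'} ≤ E) ha.1
    have := X.order
    change Nat.card ↥(E ⊓ centralizer {c} ⊓ centralizer {c'}) ≤ 2 * Nat.card C at h8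
    rw [hc'] at *
    omega
  have hanta := hanti ha
  have hcom : (y⁻¹ * a * y) * a = a * (y⁻¹ * a * y) := by
    rcases step ha hb hba hb1 hbn c hc (hcj ha hba hac.symm hbc.symm) (hcj ha hba hac'.symm hbc'.symm)
      with h | h | h | h <;> rcases h with h | h <;> rw [h] <;>
      simp [mul_neg, neg_mul, hba, mul_assoc]
  exact X.ne_neg _ (hanta.symm.trans hcom).symm

end CfsgLib.MaxSub.Extra.Plus
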