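import Cfsg.Agent.Lib.MaxSub.Extra.Plus.Pre
import Cfsg.Agent.Lib.FiniteForms.Congr
import Cfsg.Agent.Lib.MaxSub.Extra.Quad.Split

/-!
Transport of an anticommuting pair of orthogonal involutions of a group `2^(1+2k)` to the standard pair.
-/

set_option autoImplicit false
set_option linter.unusedSectionVars false
set_option linter.style.haveILetI false

namespace CfsgLib.MaxSub.Extra.Plus

open Matrix Subgroup Module CfsgLib.FiniteForms
open CfsgLib.MaxSub.QuadTwo (glEquiv coe_glEquiv glEquiv_neg)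

variable {F : Type*} [Field F] {κ : Type} [Fintype κ] [DecidableEq κ]

local notation "M2" => Matrix (κ ⊕ κ) (κ ⊕ κ) F
local notation "GL2" => GL (κ ⊕ κ) F

theorem cols_mul {m : Type} [Fintype m] (A B : Matrix m κ F) (a b c d : Matrix κ κ F) :
    fromCols A B * fromBlocks a b c d = fromCols (A * a + B * c) (A * b + B * d) := by
  ext i (j | j) <;> simp [Matrix.mul_apply, Fintype.sum_sum_type]

/-- Two anticommuting involutive isometries of a symmetric form split it into two equal halves. -/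
theorem split_form (h2 : (2 : F) ≠ 0) {G : M2} (hG : Gᵀ = G) (hG0 : G.det ≠ 0) {z w : GL2}
    (hz : z.1ᵀ * G * z.1 = G) (hw : w.1ᵀ * G * w.1 = G) (hzz : z * z = 1)
    (ha : w * z = -(z * w)) :
    ∃ (P : GL2) (G' : Matrix κ κ F), G'ᵀ = G' ∧ G'.det ≠ 0 ∧ P.1ᵀ * G * P.1 = fromBlocks G' 0 0 G' ∧
      z * P = P * Z0 ∧ (w * w = 1 → w * P = P * swp) := by
  classical
  have hzz' : z.1 * z.1 = 1 := congrArg Units.val hzz
  have hwi : (w⁻¹).1 * w.1 = 1 := w.inv_mul
  have hiw : w.1 * (w⁻¹).1 = 1 := w.mul_inv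
  have ha' : z.1 * w.1 = -(w.1 * z.1) := by
    rw [← Units.val_mul, ← Units.val_mul, ← Units.val_neg, ha, neg_neg]
  let W : Submodule F (κ ⊕ κ → F) := LinearMap.eqLocus (Matrix.toLin' z.1) LinearMap.id
  let W' : Submodule F (κ ⊕ κ → F) := LinearMap.eqLocus (Matrix.toLin' z.1) (-LinearMap.id)
  have mW : ∀ {x}, x ∈ W ↔ z.1 *ᵥ x = x := fun {x} => Iff.rfl
  have mW' : ∀ {x}, x ∈ W' ↔ z.1 *ᵥ x = -x := fun {x} => Iff.rfl
  have hrk : Fintype.card κ = finrank F W := by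
    have hdis : W ⊓ W' = ⊥ := (Submodule.eq_bot_iff _).2 fun x ⟨h, h'⟩ => by
      have e : x = -x := (mW.1 h).symm.trans (mW'.1 h')
      exact (smul_eq_zero.1 (show (2 : F) • x = 0 by rw [two_smul]; exact add_eq_zero_iff_eq_neg.2 e)).resolve_left h2
    have hsup : W ⊔ W' = ⊤ := eq_top_iff.2 fun x _ => by
      rw [show x = (2 : F)⁻¹ • (x + z.1 *ᵥ x) + (2 : F)⁻¹ • (x - z.1 *ᵥ x) by
        rw [← smul_add, add_add_sub_cancel, ← two_smul F, inv_smul_smul₀ h2]]
      refine Submodule.add_mem_sup (W.smul_mem _ (mW.2 ?_)) (W'.smul_mem _ (mW'.2 ?_))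
      · rw [Matrix.mulVec_add, Matrix.mulVec_mulVec, hzz', Matrix.one_mulVec, add_comm]
      · rw [Matrix.mulVec_sub, Matrix.mulVec_mulVec, hzz', Matrix.one_mulVec, neg_sub]
    have sW : ∀ {x}, x ∈ W → w.1 *ᵥ x ∈ W' := fun {x} hx => mW'.2 (by
      rw [Matrix.mulVec_mulVec, ha', Matrix.neg_mulVec, ← Matrix.mulVec_mulVec, mW.1 hx])
    have hai : z.1 * (w⁻¹).1 = -((w⁻¹).1 * z.1) := by
      calc z.1 * (w⁻¹).1 = (w⁻¹).1 * (w.1 * z.1) * (w⁻¹).1 := by rw [← Matrix.mul_assoc, hwi, Matrix.one_mul]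
        _ = _ := by
          rw [show w.1 * z.1 = -(z.1 * w.1) by rw [ha', neg_neg], Matrix.mul_neg, Matrix.neg_mul,
            Matrix.mul_assoc, Matrix.mul_assoc z.1, hiw, Matrix.mul_one]
    have sW' : ∀ {x}, x ∈ W' → (w⁻¹).1 *ᵥ x ∈ W := fun {x} hx => mW.2 (by
      rw [Matrix.mulVec_mulVec, hai, Matrix.neg_mulVec, ← Matrix.mulVec_mulVec, mW'.1 hx, Matrix.mulVec_neg, neg_neg])
    let e : W ≃ₗ[F] W' :=
      { toFun := fun x => ⟨w.1 *ᵥ x.1, sW x.2⟩
        invFun := fun x => ⟨(w⁻¹).1 *ᵥ x.1, sW' x.2⟩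
        left_inv := fun x => Subtype.ext (by simp [Matrix.mulVec_mulVec, hwi])
        right_inv := fun x => Subtype.ext (by simp [Matrix.mulVec_mulVec, hiw])
        map_add' := fun x y => Subtype.ext (by simp [Matrix.mulVec_add])
        map_smul' := fun c x => Subtype.ext (by simp [Matrix.mulVec_smul]) }
    have h1 := Submodule.finrank_sup_add_finrank_inf_eq W W'
    rw [hsup, hdis, finrank_top, finrank_bot, add_zero, Module.finrank_fintype_fun_eq_card, Fintype.card_sum,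
      ← e.finrank_eq] at h1
    omega
  let b : (κ → F) ≃ₗ[F] W := LinearEquiv.ofFinrankEq _ _ (by rw [Module.finrank_fintype_fun_eq_card, hrk])
  set B : Matrix (κ ⊕ κ) κ F := LinearMap.toMatrix' (W.subtype ∘ₗ b.toLinearMap) with hB
  have hBv : ∀ x, B *ᵥ x = (b x).1 := fun x => by
    rw [hB, LinearMap.toMatrix'_mulVec]
    rfl
  have hzB : z.1 * B = B := Matrix.ext_of_mulVec_single fun j => by
    rw [← Matrix.mulVec_mulVec, hBv]
    exact mW.1 (b _).2
  have hzwB : z.1 * (w.1 * B) = -(w.1 * B) := by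
    rw [← Matrix.mul_assoc, ha', Matrix.neg_mul, Matrix.mul_assoc, hzB]
  have hinj : Function.Injective (fromCols B (w.1 * B)).mulVec := by
    intro u v huv
    set x : κ → F := (u - v) ∘ Sum.inl
    set y : κ → F := (u - v) ∘ Sum.inr
    have h0 : B *ᵥ x + (w.1 * B) *ᵥ y = 0 := by
      rw [← fromCols_mulVec, Matrix.mulVec_sub, huv, sub_self]
    have h1 : B *ᵥ x - (w.1 * B) *ᵥ y = 0 := by
      have := congrArg (z.1 *ᵥ ·) h0
      rwa [Matrix.mulVec_add, Matrix.mulVec_mulVec, hzB, Matrix.mulVec_mulVec, hzwB, Matrix.mulVec_zero,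
        Matrix.neg_mulVec, ← sub_eq_add_neg] at this
    have hx : B *ᵥ x = 0 := by
      refine (smul_eq_zero.1 (show (2 : F) • (B *ᵥ x) = 0 from ?_)).resolve_left h2
      calc (2 : F) • (B *ᵥ x) = (B *ᵥ x + (w.1 * B) *ᵥ y) + (B *ᵥ x - (w.1 * B) *ᵥ y) := by rw [two_smul]; abel
        _ = 0 := by rw [h0, h1, add_zero]
    have hy : B *ᵥ y = 0 := by
      rw [hx, zero_add] at h0
      have := congrArg ((w⁻¹).1 *ᵥ ·) h0
      rwa [Matrix.mulVec_mulVec, ← Matrix.mul_assoc, hwi, Matrix.one_mul, Matrix.mulVec_zero] at this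
    have hb : ∀ {t : κ → F}, B *ᵥ t = 0 → t = 0 := fun {t} ht => b.map_eq_zero_iff.1 (Subtype.ext (by
      rw [← hBv]; exact ht))
    rw [← sub_eq_zero]
    funext i
    rcases i with i | i
    · exact congrFun (hb hx) i
    · exact congrFun (hb hy) i
  obtain ⟨P, hP⟩ := Matrix.mulVec_injective_iff_isUnit.1 hinj
  have hzG : z.1ᵀ * G = G * z.1 := by
    calc z.1ᵀ * G = z.1ᵀ * G * (z.1 * z.1) := by rw [hzz', Matrix.mul_one]
      _ = _ := by rw [← Matrix.mul_assoc, hz]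
  have hoff : Bᵀ * G * (w.1 * B) = 0 := by
    refine (smul_eq_zero.1 (show (2 : F) • (Bᵀ * G * (w.1 * B)) = 0 from ?_)).resolve_left h2
    have e : Bᵀ * G * (w.1 * B) = -(Bᵀ * G * (w.1 * B)) := by
      calc Bᵀ * G * (w.1 * B) = (z.1 * B)ᵀ * G * (w.1 * B) := by rw [hzB]
        _ = Bᵀ * (z.1ᵀ * G) * (w.1 * B) := by rw [Matrix.transpose_mul]; simp only [Matrix.mul_assoc]
        _ = Bᵀ * G * (z.1 * (w.1 * B)) := by rw [hzG]; simp only [Matrix.mul_assoc]
        _ = _ := by rw [hzwB, Matrix.mul_neg]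
    rw [two_smul]; nth_rw 1 [e]; exact neg_add_cancel _
  have hoff' : (w.1 * B)ᵀ * G * B = 0 := by
    have := congrArg Matrix.transpose hoff
    simpa [Matrix.transpose_mul, hG, Matrix.mul_assoc] using this
  have hdiag : (w.1 * B)ᵀ * G * (w.1 * B) = Bᵀ * G * B := by
    rw [Matrix.transpose_mul, ← Matrix.mul_assoc, Matrix.mul_assoc Bᵀ, Matrix.mul_assoc Bᵀ, hw]
  have hPG : P.1ᵀ * G * P.1 = fromBlocks (Bᵀ * G * B) 0 0 (Bᵀ * G * B) := by
    rw [hP, transpose_fromCols, fromRows_mul, fromRows_mul_fromCols, hoff, hoff', hdiag]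
  refine ⟨P, Bᵀ * G * B, by rw [Matrix.transpose_mul, Matrix.transpose_mul, Matrix.transpose_transpose, hG,
    Matrix.mul_assoc], ?_, hPG, Units.ext ?_, fun hww => Units.ext ?_⟩
  · intro h0
    have := congrArg Matrix.det hPG
    rw [Matrix.det_fromBlocks_zero₂₁, h0, mul_zero, Matrix.det_mul, Matrix.det_mul, Matrix.det_transpose] at this
    exact mul_ne_zero (mul_ne_zero ((Matrix.isUnit_iff_isUnit_det _).1 P.isUnit).ne_zero hG0)
      ((Matrix.isUnit_iff_isUnit_det _).1 P.isUnit).ne_zero this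
  · rw [Units.val_mul, Units.val_mul, hP, Z0_val, mul_fromCols, hzB, hzwB, cols_mul]
    simp
  · rw [Units.val_mul, Units.val_mul, hP, swp_val, mul_fromCols, ← Matrix.mul_assoc,
      show w.1 * w.1 = 1 from congrArg Units.val hww, Matrix.one_mul,
      cols_mul]
    simp

variable [Fintype F] {lam : Type} [Fintype lam] [DecidableEq lam]

/-- The standard form of an anticommuting pair. -/
theorem exists_std {R : Subgroup GL2} (X : Pre R) (e : κ ≃ lam ⊕ lam) {z w : GL2} (hz : IZ R z) (hw : IZ R w)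
    (ha : w * z = -(z * w)) :
    ∃ g ∈ Og (κ ⊕ κ) F, g * z * g⁻¹ = Z0 ∧ g * w * g⁻¹ = swp := by
  classical
  have h2 := X.two
  have hiso : ∀ {x}, x ∈ R → x.1ᵀ * (1 : M2) * x.1 = 1 := fun {x} hx => by
    rw [Matrix.mul_one]; exact (mem_Og h2).1 (X.le hx)
  obtain ⟨P, G', hG', hG'0, hPG, hPz, hPw'⟩ := split_form h2 (G := 1) Matrix.transpose_one
    (by rw [Matrix.det_one]; exact one_ne_zero) (hiso hz.1) (hiso hw.1) hz.2.1 ha
  have hPw := hPw' hw.2.1
  -- a commuting pair inside the first half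
  obtain ⟨A, -, -, c, -, hc, hcz, hcw, -, -, -⟩ := X.exists_in z w hz.1 hw.1
  obtain ⟨d₀, hd₀, hd₀c⟩ := X.exists_iz_anti hc.1 hc.2.2
  obtain ⟨d, hdR, hdc, hdz, hdw⟩ : ∃ d ∈ R, d * c = -(c * d) ∧ d * z = z * d ∧ d * w = w * d := by
    obtain ⟨d₁, hd₁R, hd₁c, hd₁z⟩ : ∃ d₁ ∈ R, d₁ * c = -(c * d₁) ∧ d₁ * z = z * d₁ := by
      rcases X.comm d₀ hd₀.1 z hz.1 with h | h
      · exact ⟨d₀, hd₀.1, hd₀c, h⟩
      · exact ⟨d₀ * w, mul_mem hd₀.1 hw.1, Pre.anti_comm hd₀c hcw.symm, Pre.anti_anti h ha⟩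
    rcases X.comm d₁ hd₁R w hw.1 with h | h
    · exact ⟨d₁, hd₁R, hd₁c, hd₁z, h⟩
    · exact ⟨d₁ * z, mul_mem hd₁R hz.1, Pre.anti_comm hd₁c hcz.symm, Pre.comm_comm hd₁z rfl,
        Pre.anti_anti h (Pre.anti_symm ha)⟩
  -- both act on the first half
  have hres : ∀ x ∈ R, x * z = z * x → x * w = w * x → ∃ a : GL κ F, P⁻¹ * x * P = emb (a, a) ∧
      a.1ᵀ * G' * a.1 = G' := fun x hx h1 h3 => by
    have e1 : P⁻¹ * x * P * Z0 = Z0 * (P⁻¹ * x * P) := by
      rw [show (Z0 : GL2) = P⁻¹ * z * P by rw [mul_assoc, hPz, inv_mul_cancel_left]]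
      calc P⁻¹ * x * P * (P⁻¹ * z * P) = P⁻¹ * (x * z) * P := by group
        _ = _ := by rw [h1]; group
    have e3 : P⁻¹ * x * P * swp = swp * (P⁻¹ * x * P) := by
      rw [show (swp : GL2) = P⁻¹ * w * P by rw [mul_assoc, hPw, inv_mul_cancel_left]]
      calc P⁻¹ * x * P * (P⁻¹ * w * P) = P⁻¹ * (x * w) * P := by group
        _ = _ := by rw [h3]; group
    obtain ⟨a, b, hab⟩ := comm_Z0 h2 e1
    rw [hab, swp_emb, mul_left_inj, emb_inj] at e3
    obtain rfl := e3.1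
    refine ⟨_, hab, ?_⟩
    have e4 : x * P = P * emb (a, a) := by rw [← hab]; group
    have key : (P * emb (a, a)).1ᵀ * (1 : M2) * (P * emb (a, a)).1 = fromBlocks G' 0 0 G' := by
      rw [← e4, Units.val_mul, Matrix.transpose_mul, ← hPG]
      calc P.1ᵀ * x.1ᵀ * 1 * (x.1 * P.1) = P.1ᵀ * (x.1ᵀ * 1 * x.1) * P.1 := by simp only [Matrix.mul_assoc]
        _ = _ := by rw [hiso hx]
    rw [Units.val_mul, Matrix.transpose_mul,
      show (emb (a, a)).1ᵀ * P.1ᵀ * (1 : M2) * (P.1 * (emb (a, a)).1) =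
        (emb (a, a)).1ᵀ * (P.1ᵀ * 1 * P.1) * (emb (a, a)).1 by simp only [Matrix.mul_assoc],
      hPG, emb_val, fromBlocks_transpose, fromBlocks_multiply, fromBlocks_multiply, fromBlocks_inj] at key
    simpa using key.1
  obtain ⟨c', hc', hc'G⟩ := hres c hc.1 hcz hcw
  obtain ⟨d', hd', hd'G⟩ := hres d hdR hdz hdw
  have hcc : c' * c' = 1 := (emb_inj.1 (show emb (c' * c', c' * c') = emb (1, 1) by
    rw [← emb_mul, ← hc', emb_one, show P⁻¹ * c * P * (P⁻¹ * c * P) = P⁻¹ * (c * c) * P by group, hc.2.1]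
    group)).1
  have hdc' : d' * c' = -(c' * d') := (emb_inj.1 (show emb (d' * c', d' * c') = emb (-(c' * d'), -(c' * d')) by
    rw [emb_neg, ← emb_mul, ← emb_mul, ← hd', ← hc',
      show P⁻¹ * d * P * (P⁻¹ * c * P) = P⁻¹ * (d * c) * P by group, hdc, mul_neg, neg_mul]
    congr 1
    group)).1
  -- hence the discriminant of the half is a square
  have hsq : IsSquare G'.det := by
    let E : GL κ F ≃* GL (lam ⊕ lam) F := glEquiv (Matrix.reindexAlgEquiv F F e)
    have hE : ∀ g : GL κ F, (E g).1 = g.1.submatrix e.symm e.symm := fun g => by simp [E, Matrix.reindex_apply]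
    have hEiso : ∀ {g : GL κ F}, g.1ᵀ * G' * g.1 = G' →
        (E g).1ᵀ * G'.submatrix e.symm e.symm * (E g).1 = G'.submatrix e.symm e.symm := fun {g} h => by
      rw [hE, transpose_submatrix, Matrix.submatrix_mul_equiv, Matrix.submatrix_mul_equiv, h]
    obtain ⟨P2, G2, -, -, hP2, -, -⟩ := split_form h2 (G := G'.submatrix e.symm e.symm)
      (by rw [transpose_submatrix, hG']) (by rwa [Matrix.det_submatrix_equiv_self]) (z := E c') (w := E d')
      (hEiso hc'G) (hEiso hd'G) (by rw [← map_mul, hcc, map_one])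
      (by rw [← map_mul, ← map_mul, hdc', glEquiv_neg])
    have := congrArg Matrix.det hP2
    rw [Matrix.det_fromBlocks_zero₂₁, Matrix.det_mul, Matrix.det_mul, Matrix.det_transpose,
      Matrix.det_submatrix_equiv_self] at this
    have hP0 := ((Matrix.isUnit_iff_isUnit_det _).1 P2.isUnit).ne_zero
    exact ⟨G2.det / P2.1.det, by field_simp; linear_combination this⟩
  obtain ⟨T, hT0, hT⟩ := (congr_iff h2 (G := G') (H := (1 : Matrix κ κ F)) hG' Matrix.transpose_one hG'0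
    (by rw [Matrix.det_one]; exact one_ne_zero)).2 (by rwa [Matrix.det_one, mul_one])
  obtain ⟨T', hT'⟩ := (Matrix.isUnit_iff_isUnit_det T).2 (isUnit_iff_ne_zero.2 hT0)
  let g : GL2 := (P * emb (T', T'))⁻¹
  have hgi : g⁻¹ ∈ Og (κ ⊕ κ) F := by
    rw [inv_inv, mem_Og h2, Units.val_mul, Matrix.transpose_mul,
      show (emb (T', T')).1ᵀ * P.1ᵀ * (P.1 * (emb (T', T')).1) =
        (emb (T', T')).1ᵀ * (P.1ᵀ * 1 * P.1) * (emb (T', T')).1 by simp only [Matrix.mul_assoc, Matrix.one_mul],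
      hPG, emb_val, fromBlocks_transpose, fromBlocks_multiply, fromBlocks_multiply, ← fromBlocks_one, hT']
    simp [hT]
  have hgo : g ∈ Og (κ ⊕ κ) F := by simpa using inv_mem hgi
  refine ⟨g, hgo, ?_, ?_⟩
  · show (P * emb (T', T'))⁻¹ * z * (P * emb (T', T'))⁻¹⁻¹ = _
    rw [inv_inv, mul_assoc, ← mul_assoc z P, hPz, mul_assoc P, ← emb_comm_Z0, ← mul_assoc P,
      inv_mul_cancel_left]
  · show (P * emb (T', T'))⁻¹ * w * (P * emb (T', T'))⁻¹⁻¹ = _
    rw [inv_inv, mul_assoc, ← mul_assoc w P, hPw, mul_assoc P, swp_emb, ← mul_assoc P,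
      inv_mul_cancel_left]

end CfsgLib.MaxSub.Extra.Plus
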