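import Cfsg.Agent.Lib.MaxSub.Extra.Basic
import Cfsg.Agent.Lib.OmegaMem
import Cfsg.Agent.Lib.PauliFour.Basic
import Cfsg.Prelude.Def_GeometricClasses

/-!
The orthogonal group of the dot product, its commutator subgroup, and the block embedding.
-/

set_option autoImplicit false
set_option linter.unusedSectionVars false
set_option linter.style.haveILetI false

namespace CfsgLib.MaxSub.Extra.Plus

open scoped commutatorElement
open Matrix Module CfsgLib.SpinorNorm CfsgLib.SpinorMatrix CfsgLib.WittExtension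

variable {F : Type*} [Field F] {ι : Type} [Fintype ι] [DecidableEq ι]

/-- The sum of squares of the coordinates. -/
def dq (ι : Type) (F : Type*) [Fintype ι] [Field F] : QuadraticForm F (ι → F) :=
  QuadraticMap.ofPolar (fun v => v ⬝ᵥ v) (fun a x => by simp [mul_assoc])
    (fun x x' y => by simp only [QuadraticMap.polar, add_dotProduct, dotProduct_add]; ring)
    (fun a x y => by
      simp only [QuadraticMap.polar, add_dotProduct, dotProduct_add, smul_dotProduct, dotProduct_smul, smul_eq_mul]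
      ring)

theorem dq_apply (v : ι → F) : dq ι F v = v ⬝ᵥ v := rfl

theorem dq_polar (u v : ι → F) : QuadraticMap.polar (dq ι F) u v = 2 * (u ⬝ᵥ v) := by
  simp only [QuadraticMap.polar, dq_apply, add_dotProduct, dotProduct_add, dotProduct_comm v u]
  ring

theorem dq_nd (h2 : (2 : F) ≠ 0) : (QuadraticMap.polarBilin (dq ι F)).Nondegenerate := by
  refine ⟨fun x hx => dotProduct_eq_zero x fun y => ?_, fun y hy => dotProduct_eq_zero y fun x => ?_⟩
  · have := hx y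
    rw [QuadraticMap.polarBilin_apply_apply, dq_polar] at this
    exact (mul_eq_zero.1 this).resolve_left h2
  · have := hy x
    rw [QuadraticMap.polarBilin_apply_apply, dq_polar, dotProduct_comm] at this
    exact (mul_eq_zero.1 this).resolve_left h2

/-- The orthogonal group. -/
def Og (ι : Type) (F : Type*) [Fintype ι] [DecidableEq ι] [Field F] : Subgroup (GL ι F) :=
  Cfsg.isometryGroup F ⇑(dq ι F)

/-- Its commutator subgroup. -/
def Om (ι : Type) (F : Type*) [Fintype ι] [DecidableEq ι] [Field F] : Subgroup (GL ι F) :=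
  Cfsg.Geo.omegaGL ⇑(dq ι F)

theorem mem_Og (h2 : (2 : F) ≠ 0) {g : GL ι F} : g ∈ Og ι F ↔ g.1ᵀ * g.1 = 1 := by
  have e : ∀ u v, (g.1 *ᵥ u) ⬝ᵥ (g.1 *ᵥ v) = u ⬝ᵥ ((g.1ᵀ * g.1) *ᵥ v) := fun u v => by
    rw [← Matrix.mulVec_mulVec, Matrix.dotProduct_mulVec u, Matrix.vecMul_transpose]
  constructor
  · intro h
    refine Matrix.ext_of_mulVec_single fun j => ?_
    rw [Matrix.one_mulVec, ← sub_eq_zero]
    refine dotProduct_eq_zero _ fun u => ?_
    have h0 : ∀ x : ι → F, (g.1 *ᵥ x) ⬝ᵥ (g.1 *ᵥ x) = x ⬝ᵥ x := fun x => h x x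
    set v : ι → F := Pi.single j 1
    have h1 := h0 (u + v)
    rw [Matrix.mulVec_add] at h1
    simp only [add_dotProduct, dotProduct_add, h0, dotProduct_comm (g.1 *ᵥ v) (g.1 *ᵥ u),
      dotProduct_comm v u] at h1
    rw [e] at h1
    rw [sub_dotProduct, dotProduct_comm _ u, dotProduct_comm v u]
    exact mul_left_cancel₀ h2 (by linear_combination h1)
  · intro h u _
    show (g.1 *ᵥ u) ⬝ᵥ (g.1 *ᵥ u) = u ⬝ᵥ u
    rw [e, h, Matrix.one_mulVec]

theorem neg_mem_Og (h2 : (2 : F) ≠ 0) : -1 ∈ Og ι F := by rw [mem_Og h2]; simp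

theorem inv_eq_transpose (h2 : (2 : F) ≠ 0) {g : GL ι F} (hg : g ∈ Og ι F) :
    ((g⁻¹ : GL ι F) : Matrix ι ι F) = g.1ᵀ := (Units.inv_eq_of_mul_eq_one_left ((mem_Og h2).1 hg))

/-- An orthogonal involution is symmetric. -/
theorem symm_of_sq (h2 : (2 : F) ≠ 0) {z : GL ι F} (hz : z ∈ Og ι F) (hzz : z * z = 1) : z.1ᵀ = z.1 := by
  rw [← inv_eq_transpose h2 hz, inv_eq_of_mul_eq_one_right hzz]

theorem Om_le : Om ι F ≤ Og ι F := Subgroup.map_subtype_le _

theorem comm_mem_Om {x y : GL ι F} (hx : x ∈ Og ι F) (hy : y ∈ Og ι F) : x * y * x⁻¹ * y⁻¹ ∈ Om ι F :=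
  ⟨⁅(⟨x, hx⟩ : Cfsg.isometryGroup F ⇑(dq ι F)), ⟨y, hy⟩⁆,
    Subgroup.commutator_mem_commutator (Subgroup.mem_top _) (Subgroup.mem_top _), rfl⟩

theorem conj_mem_Om {g x : GL ι F} (hg : g ∈ Og ι F) (hx : x ∈ Om ι F) : g * x * g⁻¹ ∈ Om ι F := by
  obtain ⟨y, hy, rfl⟩ := hx
  let G := Cfsg.isometryGroup F ⇑(dq ι F)
  have hy' : y ∈ commutator G := hy
  let u : G := ⟨g, hg⟩
  have h : u * y * u⁻¹ ∈ commutator G := (inferInstance : (commutator G).Normal).conj_mem y hy' u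
  exact ⟨u * y * u⁻¹, h, rfl⟩

/-- A homomorphism between orthogonal groups maps the one commutator subgroup into the other. -/
theorem map_Om {κ : Type} [Fintype κ] [DecidableEq κ] {K : Type*} [Field K] (f : GL ι F →* GL κ K)
    (hf : ∀ g ∈ Og ι F, f g ∈ Og κ K) {g : GL ι F} (hg : g ∈ Om ι F) : f g ∈ Om κ K := by
  obtain ⟨y, hy, rfl⟩ := hg
  let φ : Cfsg.isometryGroup F ⇑(dq ι F) →* Cfsg.isometryGroup K ⇑(dq κ K) :=
    (f.comp (Subgroup.subtype _)).codRestrict _ fun g => hf g g.2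
  have h : φ y ∈ Cfsg.Omega K ⇑(dq κ K) := by
    have := Subgroup.mem_map_of_mem φ hy
    rw [Cfsg.Omega, _root_.commutator_def, Subgroup.map_commutator] at this
    rw [Cfsg.Omega, _root_.commutator_def]
    exact Subgroup.commutator_mono le_top le_top this
  exact ⟨φ y, h, rfl⟩

/-- The matrix of a reflection. -/
def rf (v : ι → F) : Matrix ι ι F := 1 - (2 * (v ⬝ᵥ v)⁻¹) • vecMulVec v v

theorem reflectionMatrix_eq (v : ι → F) : Cfsg.reflectionMatrix (⇑(dq ι F)) v = rf v := by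
  refine Matrix.ext_of_mulVec_single fun i => ?_
  rw [CfsgLib.PolarVec.reflection_mulVec, rf, sub_mulVec, one_mulVec, smul_mulVec, vecMulVec_mulVec,
    dq_polar, dq_apply]
  ext j
  simp [dotProduct_single]
  ring

theorem exists_prod [Fintype F] (h2 : (2 : F) ≠ 0) {g : GL ι F} (hg : g ∈ Og ι F) :
    ∃ vs : List (ι → F), (∀ v ∈ vs, v ⬝ᵥ v ≠ 0) ∧ g.1 = (vs.map rf).prod := by
  classical
  let Q := dq ι F
  have key : ∀ x : quadIso Q, ∃ vs : List (ι → F), (∀ v ∈ vs, v ⬝ᵥ v ≠ 0) ∧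
      ((isoEquiv Q).symm x).1.1 = (vs.map rf).prod := fun x => by
    refine closure_induction_refl Q (hc_odd Q h2 (dq_nd h2)) (fun x => ∃ vs : List (ι → F),
      (∀ v ∈ vs, v ⬝ᵥ v ≠ 0) ∧ ((isoEquiv Q).symm x).1.1 = (vs.map rf).prod)
      ⟨[], by simp, by simp⟩ (fun v hv x ⟨vs, h1, h3⟩ => ⟨v :: vs, ?_, ?_⟩) x
    · intro w hw
      rcases List.mem_cons.1 hw with rfl | hw
      exacts [hv, h1 w hw]
    · rw [map_mul, List.map_cons, List.prod_cons, ← h3, ← reflectionMatrix_eq]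
      show ((isoEquiv Q).symm (refl Q hv)).1.1 * ((isoEquiv Q).symm x).1.1 = _
      congr 1
      exact Matrix.ext_of_mulVec_single fun i => by
        rw [isoEquiv_symm_apply, refl_apply, CfsgLib.PolarVec.reflection_mulVec]
  obtain ⟨vs, h1, h3⟩ := key (isoEquiv Q ⟨g, hg⟩)
  rw [MulEquiv.symm_apply_apply] at h3
  exact ⟨vs, h1, h3⟩

theorem prod_mem_Om [Fintype F] (h2 : (2 : F) ≠ 0) (hn : 2 ≤ Fintype.card ι) {g : GL ι F} (hg : g ∈ Og ι F)
    {vs : List (ι → F)} (hvs : ∀ v ∈ vs, v ⬝ᵥ v ≠ 0) (h : g.1 = (vs.map rf).prod) :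
    g ∈ Om ι F ↔ Even vs.length ∧ IsSquare (vs.map fun v => v ⬝ᵥ v).prod := by
  classical
  have := OmegaMem.omega_iff_prod (dq ι F) h2 hn (dq_nd h2) ⟨g, hg⟩ vs hvs
    (by rw [show (fun v => Cfsg.reflectionMatrix (⇑(dq ι F)) v) = rf from funext reflectionMatrix_eq]; exact h)
  refine Iff.trans ⟨?_, fun h => ⟨_, h, rfl⟩⟩ this
  rintro ⟨y, hy, e⟩
  rwa [show (⟨g, hg⟩ : Cfsg.isometryGroup F ⇑(dq ι F)) = y from Subtype.ext e.symm]

section Blocks

variable {κ : Type} [Fintype κ] [DecidableEq κ]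

local notation "V2" => (κ ⊕ κ)

/-- The block diagonal embedding. -/
def emb : GL κ F × GL κ F →* GL (κ ⊕ κ) F where
  toFun p := ⟨fromBlocks p.1.1 0 0 p.2.1, fromBlocks (p.1⁻¹).1 0 0 (p.2⁻¹).1,
    by simp [fromBlocks_multiply, fromBlocks_one], by simp [fromBlocks_multiply, fromBlocks_one]⟩
  map_one' := Units.ext fromBlocks_one
  map_mul' p q := Units.ext (by
    show fromBlocks (p.1 * q.1).1 0 0 (p.2 * q.2).1 = fromBlocks p.1.1 0 0 p.2.1 * fromBlocks q.1.1 0 0 q.2.1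
    simp [fromBlocks_multiply])

theorem emb_val (a b : GL κ F) : (emb (a, b)).1 = fromBlocks a.1 0 0 b.1 := rfl

theorem emb_mul (a b c d : GL κ F) : emb (a, b) * emb (c, d) = emb (a * c, b * d) :=
  (map_mul emb (a, b) (c, d)).symm

theorem emb_inv (a b : GL κ F) : (emb (a, b))⁻¹ = emb (a⁻¹, b⁻¹) := (map_inv emb (a, b)).symm

theorem emb_inj {a b c d : GL κ F} : emb (a, b) = emb (c, d) ↔ a = c ∧ b = d := by
  constructor
  · intro h
    have := fromBlocks_inj.1 (congrArg Units.val h)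
    exact ⟨Units.ext this.1, Units.ext this.2.2.2⟩
  · rintro ⟨rfl, rfl⟩; rfl

theorem emb_neg (a b : GL κ F) : emb (-a, -b) = -emb (a, b) :=
  Units.ext (by simp [emb_val, fromBlocks_neg])

theorem emb_one : emb (1, 1) = (1 : GL (κ ⊕ κ) F) := map_one emb

/-- The standard first involution. -/
def Z0 : GL (κ ⊕ κ) F := emb (1, -1)

/-- The standard second involution. -/
def swp : GL (κ ⊕ κ) F :=
  ⟨fromBlocks 0 1 1 0, fromBlocks 0 1 1 0, by simp [fromBlocks_multiply, fromBlocks_one],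
    by simp [fromBlocks_multiply, fromBlocks_one]⟩

theorem swp_val : (swp : GL V2 F).1 = fromBlocks (0 : Matrix κ κ F) 1 1 0 := rfl

theorem Z0_val : (Z0 : GL V2 F).1 = fromBlocks (1 : Matrix κ κ F) 0 0 (-1) := by simp [Z0, emb_val]

theorem Z0_sq : Z0 * Z0 = (1 : GL V2 F) := by rw [Z0, emb_mul]; simp [emb_one]

theorem swp_sq : swp * swp = (1 : GL V2 F) :=
  Units.ext (by simp [swp_val, fromBlocks_multiply, fromBlocks_one])

theorem emb_comm_Z0 (a b : GL κ F) : emb (a, b) * Z0 = Z0 * emb (a, b) := by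
  rw [Z0, emb_mul, emb_mul]; simp

theorem swp_emb (a b : GL κ F) : swp * emb (a, b) = emb (b, a) * swp :=
  Units.ext (by simp [swp_val, emb_val, fromBlocks_multiply])

theorem swp_Z0 : swp * Z0 = -(Z0 * swp : GL V2 F) :=
  Units.ext (by simp [swp_val, Z0_val, fromBlocks_multiply, fromBlocks_neg])

theorem comm_Z0 (h2 : (2 : F) ≠ 0) {g : GL V2 F} (h : g * Z0 = Z0 * g) : ∃ a b, g = emb (a, b) := by
  have key : ∀ {k : GL V2 F}, k * Z0 = Z0 * k → ∃ A D, k.1 = fromBlocks A 0 0 D := fun {k} hk => by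
    have e := congrArg Units.val hk
    rw [Units.val_mul, Units.val_mul, Z0_val, ← fromBlocks_toBlocks k.1] at e
    simp only [fromBlocks_multiply, fromBlocks_inj, Matrix.mul_one, Matrix.one_mul, Matrix.mul_zero,
      Matrix.zero_mul, Matrix.mul_neg, Matrix.neg_mul, add_zero, zero_add] at e
    refine ⟨k.1.toBlocks₁₁, k.1.toBlocks₂₂, ?_⟩
    conv_lhs => rw [← fromBlocks_toBlocks k.1]
    have hB : k.1.toBlocks₁₂ = 0 := (smul_eq_zero.1 (show (2 : F) • k.1.toBlocks₁₂ = 0 by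
      rw [two_smul]; nth_rw 2 [← e.2.1]; exact add_neg_cancel _)).resolve_left h2
    have hC : k.1.toBlocks₂₁ = 0 := (smul_eq_zero.1 (show (2 : F) • k.1.toBlocks₂₁ = 0 by
      rw [two_smul]; nth_rw 2 [e.2.2.1]; exact add_neg_cancel _)).resolve_left h2
    rw [hB, hC]
  obtain ⟨A, D, h1⟩ := key h
  obtain ⟨A', D', h1'⟩ := key (Commute.inv_left (show Commute g Z0 from h)).eq
  have e1 := g.mul_inv
  have e2 := g.inv_mul
  rw [h1, h1', fromBlocks_multiply, ← fromBlocks_one, fromBlocks_inj] at e1 e2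
  simp only [Matrix.mul_zero, add_zero, zero_add] at e1 e2
  exact ⟨⟨A, A', e1.1, e2.1⟩, ⟨D, D', e1.2.2.2, e2.2.2.2⟩, Units.ext h1⟩

theorem emb_mem_Og (h2 : (2 : F) ≠ 0) {a b : GL κ F} :
    emb (a, b) ∈ Og V2 F ↔ a ∈ Og κ F ∧ b ∈ Og κ F := by
  rw [mem_Og h2, mem_Og h2, mem_Og h2, emb_val, fromBlocks_transpose, fromBlocks_multiply, ← fromBlocks_one,
    fromBlocks_inj]
  simp

theorem swp_mem_Og (h2 : (2 : F) ≠ 0) : (swp : GL V2 F) ∈ Og V2 F := by
  rw [mem_Og h2, swp_val, fromBlocks_transpose, fromBlocks_multiply, ← fromBlocks_one, fromBlocks_inj]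
  simp

theorem Z0_mem_Og (h2 : (2 : F) ≠ 0) : (Z0 : GL V2 F) ∈ Og V2 F := by
  rw [Z0, emb_mem_Og h2]
  exact ⟨one_mem _, neg_mem_Og h2⟩

theorem emb_one_mem (h2 : (2 : F) ≠ 0) {a : GL κ F} (ha : a ∈ Og κ F) : emb (a, 1) ∈ Og V2 F :=
  (emb_mem_Og h2).2 ⟨ha, one_mem _⟩

theorem emb_one_Om (h2 : (2 : F) ≠ 0) {a : GL κ F} (ha : a ∈ Om κ F) : emb (a, 1) ∈ Om V2 F :=
  map_Om (emb.comp (MonoidHom.inl (GL κ F) (GL κ F))) (fun _ hg => emb_one_mem h2 hg) ha

theorem rf_inl {v : κ → F} :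
    rf (Sum.elim v 0) = fromBlocks (rf v) 0 0 (1 : Matrix κ κ F) := by
  ext (i | i) (j | j) <;> simp [rf, vecMulVec_apply, Matrix.one_apply, sumElim_dotProduct_sumElim]

theorem prod_inl (vs : List (κ → F)) :
    ((vs.map fun v => Sum.elim v (0 : κ → F)).map rf).prod = fromBlocks (vs.map rf).prod 0 0 1 := by
  induction vs with
  | nil => simp [fromBlocks_one]
  | cons v t ih =>
    rw [List.map_cons, List.map_cons, List.prod_cons, List.map_cons, List.prod_cons, ih, rf_inl,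
      fromBlocks_multiply]
    simp

/-- An element of one block is in the commutator subgroup only if its block is. -/
theorem Om_of_emb [Fintype F] (h2 : (2 : F) ≠ 0) (hn : 2 ≤ Fintype.card κ) {a : GL κ F} (ha : a ∈ Og κ F)
    (h : emb (a, 1) ∈ Om V2 F) : a ∈ Om κ F := by
  obtain ⟨vs, hvs, he⟩ := exists_prod h2 ha
  have hq : ∀ v : κ → F, Sum.elim v (0 : κ → F) ⬝ᵥ Sum.elim v 0 = v ⬝ᵥ v := fun v => by
    rw [sumElim_dotProduct_sumElim]; simp
  rw [prod_mem_Om h2 (by rw [Fintype.card_sum]; omega) (emb_one_mem h2 ha)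
    (vs := vs.map fun v => Sum.elim v 0)
    (fun w hw => by
      obtain ⟨v, hv, rfl⟩ := List.mem_map.1 hw
      rw [hq]; exact hvs v hv)
    (by rw [prod_inl, emb_val, he, Units.val_one]), List.length_map, List.map_map,
    show ((fun v => v ⬝ᵥ v) ∘ fun v : κ → F => Sum.elim v 0) = fun v => v ⬝ᵥ v from funext hq] at h
  exact (prod_mem_Om h2 hn ha hvs he).2 h

theorem diag_mem_Om [Fintype F] (h2 : (2 : F) ≠ 0) (hn : 1 ≤ Fintype.card κ) {a : GL κ F} (ha : a ∈ Og κ F) :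
    emb (a, a) ∈ Om V2 F := by
  obtain ⟨vs, hvs, he⟩ := exists_prod h2 ha
  have hinr : ∀ {v : κ → F}, rf (Sum.elim (0 : κ → F) v) = fromBlocks (1 : Matrix κ κ F) 0 0 (rf v) := fun {v} => by
    ext (i | i) (j | j) <;> simp [rf, vecMulVec_apply, Matrix.one_apply, sumElim_dotProduct_sumElim]
  have hprod : ∀ ws : List (κ → F),
      ((ws.map fun v => Sum.elim (0 : κ → F) v).map rf).prod = fromBlocks 1 0 0 (ws.map rf).prod := fun ws => by
    induction ws with
    | nil => simp [fromBlocks_one]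
    | cons v t ih =>
      rw [List.map_cons, List.map_cons, List.prod_cons, List.map_cons, List.prod_cons, ih, hinr,
        fromBlocks_multiply]
      simp
  rw [prod_mem_Om h2 (by rw [Fintype.card_sum]; omega) ((emb_mem_Og h2).2 ⟨ha, ha⟩)
    (vs := (vs.map fun v => Sum.elim v (0 : κ → F)) ++ vs.map fun v => Sum.elim (0 : κ → F) v)
    (fun w hw => by
      rcases List.mem_append.1 hw with hw | hw <;> obtain ⟨v, hv, rfl⟩ := List.mem_map.1 hw <;>
        simpa [sumElim_dotProduct_sumElim] using hvs v hv)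
    (by rw [List.map_append, List.prod_append, prod_inl, hprod, emb_val, he, fromBlocks_multiply]; simp)]
  refine ⟨by simp, ?_⟩
  rw [List.map_append, List.prod_append, List.map_map, List.map_map]
  have : (List.map ((fun v => v ⬝ᵥ v) ∘ fun v : κ → F => Sum.elim v (0 : κ → F)) vs) =
      List.map ((fun v => v ⬝ᵥ v) ∘ fun v : κ → F => Sum.elim (0 : κ → F) v) vs :=
    List.map_congr_left fun v _ => by simp [sumElim_dotProduct_sumElim]
  rw [this]
  exact ⟨_, rfl⟩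

/-- Two reflections with equal values give an element of the commutator subgroup. -/
theorem pair_mem_Om [Fintype F] (h2 : (2 : F) ≠ 0) (hn : 2 ≤ Fintype.card ι) {g : GL ι F} (hg : g ∈ Og ι F) {v w : ι → F}
    (hv : v ⬝ᵥ v ≠ 0) (he : v ⬝ᵥ v = w ⬝ᵥ w) (h : g.1 = rf v * rf w) : g ∈ Om ι F := by
  rw [prod_mem_Om h2 hn hg (vs := [v, w]) (by simp [hv, ← he]) (by simpa using h)]
  exact ⟨by simp, v ⬝ᵥ v, by simp [← he]⟩

end Blocks

end CfsgLib.MaxSub.Extra.Plus
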