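import Cfsg.Agent.Lib.MaxSub.Extra.Plus.Std
import Cfsg.Agent.Lib.MaxSub.Extra.Plus.Kernel
import Cfsg.Agent.Lib.OmegaSimple

/-!
A proper overgroup of the normaliser of `2^(1+2k)` of plus type in the commutator subgroup of the orthogonal
group: transport to block coordinates and the consequences of knowing the blocks.
-/

set_option autoImplicit false
set_option linter.unusedSectionVars false
set_option linter.style.haveILetI false

namespace CfsgLib.MaxSub.Extra.Plus

open scoped commutatorElement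
open Matrix Subgroup
open CfsgLib.MaxSub.QuadTwo (glEquiv coe_glEquiv glEquiv_neg mem_map_glEquiv map_normalizer)

variable {F : Type*} [Field F]

section Setting

variable {ι : Type} [Fintype ι] [DecidableEq ι]

/-- An overgroup of the normaliser in the orthogonal group not containing the commutator subgroup. -/
structure Over (R H : Subgroup (GL ι F)) : Prop where
  pre : Pre R
  big : 512 ≤ Nat.card R
  low : normalizer (R : Set (GL ι F)) ⊓ Om ι F ≤ H
  high : H ≤ Og ι F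
  ne : ¬ Om ι F ≤ H

/-- An isomorphism of matrix algebras preserving the form. -/
structure OIso {lam : Type} [Fintype lam] [DecidableEq lam] (Ψ : Matrix ι ι F ≃ₐ[F] Matrix lam lam F) : Prop where
  card : Fintype.card lam = Fintype.card ι
  og : ∀ g, glEquiv Ψ g ∈ Og lam F ↔ g ∈ Og ι F

theorem OIso.om {lam : Type} [Fintype lam] [DecidableEq lam] {Ψ : Matrix ι ι F ≃ₐ[F] Matrix lam lam F}
    (O : OIso Ψ) {g : GL ι F} : glEquiv Ψ g ∈ Om lam F ↔ g ∈ Om ι F := by
  refine ⟨fun h => ?_, fun h => map_Om (glEquiv Ψ).toMonoidHom (fun x hx => (O.og x).2 hx) h⟩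
  have := map_Om (glEquiv Ψ).symm.toMonoidHom (fun x hx => (O.og _).1 (by simpa using hx)) h
  simpa using this

theorem IZ.map {lam : Type} [Fintype lam] [DecidableEq lam] {R : Subgroup (GL ι F)} {z : GL ι F} (h : IZ R z)
    (Ψ : Matrix ι ι F ≃ₐ[F] Matrix lam lam F) : IZ (R.map (glEquiv Ψ).toMonoidHom) (glEquiv Ψ z) :=
  ⟨⟨z, h.1, rfl⟩, by rw [← map_mul, h.2.1, map_one], fun e => h.2.2 (by
    rcases e with e | e
    · exact Or.inl ((glEquiv Ψ).injective (e.trans (map_one _).symm))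
    · exact Or.inr ((glEquiv Ψ).injective (by rw [e, glEquiv_neg, map_one])))⟩

theorem Over.map {lam : Type} [Fintype lam] [DecidableEq lam] {R H : Subgroup (GL ι F)} (O : Over R H)
    {Ψ : Matrix ι ι F ≃ₐ[F] Matrix lam lam F} (hΨ : OIso Ψ) :
    Over (R.map (glEquiv Ψ).toMonoidHom) (H.map (glEquiv Ψ).toMonoidHom) where
  pre := O.pre.map Ψ hΨ.card fun g hg => (hΨ.og g).2 hg
  big := by rw [card_map_equiv]; exact O.big
  low x hx := by
    obtain ⟨y, rfl⟩ := (glEquiv Ψ).surjective x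
    exact mem_map_glEquiv.2 (O.low ⟨(map_normalizer Ψ).1 hx.1, hΨ.om.1 hx.2⟩)
  high := by rintro _ ⟨x, hx, rfl⟩; exact (hΨ.og x).2 (O.high hx)
  ne h := O.ne fun x hx => mem_map_glEquiv.1 (h (hΨ.om.2 hx))

theorem Over.sub {R H : Subgroup (GL ι F)} (O : Over R H) : R ≤ H := fun r hr =>
  O.low ⟨le_normalizer hr, O.pre.le_Om hr⟩

theorem cj_OIso (h2 : (2 : F) ≠ 0) {g : GL ι F} (hg : g ∈ Og ι F) : OIso (cjAlg g) := by
  refine ⟨rfl, fun x => ?_⟩
  rw [glEquiv_cj]
  refine ⟨fun h => ?_, fun h => mul_mem (mul_mem hg h) (inv_mem hg)⟩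
  have := mul_mem (mul_mem (inv_mem hg) h) hg
  rwa [show g⁻¹ * (g * x * g⁻¹) * g = x by group] at this

theorem reindex_OIso {lam : Type} [Fintype lam] [DecidableEq lam] (h2 : (2 : F) ≠ 0) (e : ι ≃ lam) :
    OIso (Matrix.reindexAlgEquiv F F e) := by
  refine ⟨(Fintype.card_congr e).symm, fun x => ⟨fun h => ?_, reindex_Og h2 e⟩⟩
  have := reindex_Og h2 e.symm h
  rwa [show glEquiv (Matrix.reindexAlgEquiv F F e.symm) (glEquiv (Matrix.reindexAlgEquiv F F e) x) = x from
    Units.ext (by simp [Matrix.coe_reindexAlgEquiv, Matrix.reindex_apply])] at this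

theorem OIso.trans {lam mu : Type} [Fintype lam] [DecidableEq lam] [Fintype mu] [DecidableEq mu]
    {Ψ : Matrix ι ι F ≃ₐ[F] Matrix lam lam F} {Φ : Matrix lam lam F ≃ₐ[F] Matrix mu mu F} (h : OIso Ψ) (h' : OIso Φ) :
    OIso (Ψ.trans Φ) := ⟨h'.card.trans h.card, fun g => by rw [glEquiv_trans, h'.og, h.og]⟩

/-- The commutator subgroup is generated by any of its non-central normal subgroups. -/
theorem Om_le_of_normal [Fintype F] (h2 : (2 : F) ≠ 0) (hn : 5 ≤ Fintype.card ι) {K : Subgroup (GL ι F)}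
    (hK : ∀ y ∈ Om ι F, ∀ x ∈ K, y * x * y⁻¹ ∈ K)
    (hne : ∃ e ∈ K, e ∈ Om ι F ∧ ∃ y ∈ Om ι F, e * y ≠ y * e) : Om ι F ≤ K := by
  classical
  let G : Subgroup (Cfsg.isometryGroup F ⇑(dq ι F)) := Cfsg.Omega F ⇑(dq ι F)
  let N : Subgroup G := (K.comap (Cfsg.isometryGroup F ⇑(dq ι F)).subtype).subgroupOf G
  have hN : N.Normal := ⟨fun x hx g => hK _ ⟨g.1, g.2, rfl⟩ _ hx⟩
  haveI hs : IsSimpleGroup (G ⧸ Subgroup.center G) :=
    OmegaSimple.pomega_simple (dq ι F) _ (fun _ => rfl) (dq_nd h2) hn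
  have hperf : ⁅(⊤ : Subgroup G), (⊤ : Subgroup G)⁆ = ⊤ := by
    have hn' : 5 ≤ Module.finrank F (ι → F) := by rwa [Module.finrank_fintype_fun_eq_card]
    have e1 : G.map (SpinorMatrix.isoEquiv (dq ι F)).toMonoidHom = Subgroup.closure (Eichler.Sieg (dq ι F)) := by
      rw [← OmegaSimple.commutator_eq (dq ι F) (dq_nd h2) hn', show G = commutator _ from rfl,
        _root_.commutator_def, _root_.commutator_def, Subgroup.map_commutator,
        Subgroup.map_top_of_surjective _ (SpinorMatrix.isoEquiv (dq ι F)).surjective]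
    have e2 : ⁅G, G⁆ = G := by
      refine Subgroup.map_injective (f := (SpinorMatrix.isoEquiv (dq ι F)).toMonoidHom)
        (SpinorMatrix.isoEquiv (dq ι F)).injective ?_
      show ⁅G, G⁆.map (SpinorMatrix.isoEquiv (dq ι F)).toMonoidHom =
        G.map (SpinorMatrix.isoEquiv (dq ι F)).toMonoidHom
      rw [Subgroup.map_commutator, e1, OmegaSimple.perfect _ (dq_nd h2) hn']
    refine Subgroup.map_injective G.subtype_injective ?_
    rw [Subgroup.map_commutator, ← MonoidHom.range_eq_map, Subgroup.range_subtype, e2]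
  suffices hT : N = ⊤ by
    rintro _ ⟨x, hx, rfl⟩
    exact (hT.ge (Subgroup.mem_top (⟨x, hx⟩ : G)) : _ ∈ N)
  set Z := Subgroup.center G
  have hsup : N ⊔ Z = ⊤ := by
    have hnormal : (N.map (QuotientGroup.mk' Z)).Normal :=
      Normal.map hN _ (QuotientGroup.mk'_surjective Z)
    rcases hs.eq_bot_or_eq_top_of_normal _ hnormal with h | h
    · exfalso
      obtain ⟨_, heK, ⟨e, he, rfl⟩, _, ⟨y, hy, rfl⟩, hey⟩ := hne
      have hmem : QuotientGroup.mk' Z ⟨e, he⟩ ∈ N.map (QuotientGroup.mk' Z) :=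
        Subgroup.mem_map_of_mem _ (show (⟨e, he⟩ : G) ∈ N from heK)
      rw [h, Subgroup.mem_bot] at hmem
      have := Subgroup.mem_center_iff.1 ((QuotientGroup.eq_one_iff _).1 hmem) ⟨y, hy⟩
      exact hey (congrArg (fun u : G => ((u : Cfsg.isometryGroup F ⇑(dq ι F)) : GL ι F)) this.symm)
    · refine eq_top_iff.2 fun x _ => ?_
      obtain ⟨n, hn', e⟩ := Subgroup.mem_map.1 (h.symm ▸ Subgroup.mem_top (QuotientGroup.mk' Z x) :
        QuotientGroup.mk' Z x ∈ N.map (QuotientGroup.mk' Z))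
      rw [show x = n * (n⁻¹ * x) by group]
      exact mul_mem (Subgroup.mem_sup_left hn') (Subgroup.mem_sup_right (QuotientGroup.eq.1 e))
  refine eq_top_iff.2 (hperf ▸ ?_)
  rw [Subgroup.commutator_le]
  intro a _ b _
  obtain ⟨n, hn', c, hc, rfl⟩ := Subgroup.mem_sup_of_normal_left.1 (hsup ▸ Subgroup.mem_top a : a ∈ N ⊔ Z)
  obtain ⟨m, hm, d, hd, rfl⟩ := Subgroup.mem_sup_of_normal_left.1 (hsup ▸ Subgroup.mem_top b : b ∈ N ⊔ Z)
  have hc' : ∀ w, w * c = c * w := Subgroup.mem_center_iff.1 hc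
  have hd' : ∀ w, w * d = d * w := Subgroup.mem_center_iff.1 hd
  have e : ⁅n * c, m * d⁆ = n * m * n⁻¹ * m⁻¹ := by
    rw [commutatorElement_def]
    calc n * c * (m * d) * (n * c)⁻¹ * (m * d)⁻¹ = n * (c * (m * d)) * c⁻¹ * n⁻¹ * d⁻¹ * m⁻¹ := by group
      _ = n * (m * d) * n⁻¹ * d⁻¹ * m⁻¹ := by rw [← hc' (m * d)]; group
      _ = n * m * (d * n⁻¹) * d⁻¹ * m⁻¹ := by group
      _ = _ := by rw [← hd' n⁻¹]; group
  rw [e]
  exact mul_mem (mul_mem (mul_mem hn' hm) (inv_mem hn')) (inv_mem hm)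

theorem plus_back {g z : GL ι F} {A B : Matrix ι ι F}
    (h : A * Extra.plus (g * z * g⁻¹) = B * Extra.plus (g * z * g⁻¹)) :
    (g⁻¹ : GL ι F).1 * A * g.1 * Extra.plus z = (g⁻¹ : GL ι F).1 * B * g.1 * Extra.plus z := by
  have ep : g.1 * Extra.plus z = Extra.plus (g * z * g⁻¹) * g.1 := by
    simp [Extra.plus, Matrix.mul_add, Matrix.add_mul, Matrix.mul_assoc]
  rw [Matrix.mul_assoc _ g.1, ep, ← Matrix.mul_assoc, Matrix.mul_assoc (g⁻¹ : GL ι F).1 A, h, ← Matrix.mul_assoc,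
    Matrix.mul_assoc ((g⁻¹ : GL ι F).1 * B), ← ep, ← Matrix.mul_assoc]

end Setting

section Blocks

variable {κ : Type} [Fintype κ] [DecidableEq κ]

local notation "GL2" => GL (κ ⊕ κ) F
local notation "GL1" => GL κ F
local notation "M1" => Matrix κ κ F

/-- Either the blocks normalise the group of a block, or a block contains the whole commutator subgroup. -/
def Dich (κ : Type) (F : Type*) [Fintype κ] [DecidableEq κ] [Field F] : Prop :=
  ∀ R H : Subgroup (GL (κ ⊕ κ) F), Over R H → Std R →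
    (∀ a b, emb (a, b) ∈ H → a ∈ normalizer (side R : Set (GL κ F))) ∨ (∀ y ∈ Om κ F, emb (y, 1) ∈ H)

/-- The blocks of the centraliser of an involution normalise the group of one block. -/
def Blk (κ : Type) (F : Type*) [Fintype κ] [DecidableEq κ] [Field F] : Prop :=
  ∀ R H : Subgroup (GL (κ ⊕ κ) F), Over R H → Std R →
    ∀ a b, emb (a, b) ∈ H → a ∈ normalizer (side R : Set (GL κ F))

variable [Fintype F] {lam : Type} [Fintype lam] [DecidableEq lam]

theorem Over.transport {ι : Type} [Fintype ι] [DecidableEq ι] {R H : Subgroup (GL ι F)} (O : Over R H)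
    (eι : ι ≃ κ ⊕ κ) (e : κ ≃ lam ⊕ lam) {z : GL ι F} (hz : IZ R z) :
    ∃ Ψ : Matrix ι ι F ≃ₐ[F] Matrix (κ ⊕ κ) (κ ⊕ κ) F, OIso Ψ ∧ glEquiv Ψ z = Z0 ∧
      Std (R.map (glEquiv Ψ).toMonoidHom) := by
  have h2 := O.pre.two
  obtain ⟨w, hw, hwz⟩ := O.pre.exists_iz_anti hz.1 hz.2.2
  set Φ := Matrix.reindexAlgEquiv F F eι
  have hΦ : OIso Φ := reindex_OIso h2 eι
  have O' := O.map hΦ
  obtain ⟨g, hg, h1, h3⟩ := exists_std O'.pre e (IZ.map hz Φ) (IZ.map hw Φ)
    (by rw [← map_mul, hwz, glEquiv_neg, map_mul])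
  have hΨ : OIso (Φ.trans (cjAlg g)) := hΦ.trans (cj_OIso h2 hg)
  refine ⟨Φ.trans (cjAlg g), hΨ, by rw [glEquiv_trans, glEquiv_cj, h1], (O.map hΨ).pre, (O.map hΨ).big,
    ⟨z, hz.1, ?_⟩, ⟨w, hw.1, ?_⟩⟩
  · show glEquiv _ z = _
    rw [glEquiv_trans, glEquiv_cj, h1]
  · show glEquiv _ w = _
    rw [glEquiv_trans, glEquiv_cj, h3]

variable {R H : Subgroup (GL (κ ⊕ κ) F)}

theorem Over.emb_one_mem (O : Over R H) (S : Std R) {e : GL1} (he : e ∈ side R) : emb (e, 1) ∈ H :=
  O.low ⟨S.root_emb he, emb_one_Om S.two (S.side_pre.le_Om he)⟩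

theorem Over.swp_mem (O : Over R H) (S : Std R) : swp ∈ H := O.sub S.hs

theorem Over.diag_mem (O : Over R H) (S : Std R) {a : GL1} (ha : a ∈ Og κ F)
    (haN : a ∈ normalizer (side R : Set GL1)) : emb (a, a) ∈ H := by
  haveI : Nonempty κ := by
    by_contra hne
    rw [not_nonempty_iff] at hne
    exact S.ncard1 (by simp)
  exact O.low ⟨S.diag_norm haN, diag_mem_Om S.two Fintype.card_pos ha⟩

theorem Over.swap_mem (O : Over R H) (S : Std R) {a b : GL1} (h : emb (a, b) ∈ H) : emb (b, a) ∈ H := by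
  have h1 := mul_mem (mul_mem (O.swp_mem S) h) (inv_mem (O.swp_mem S))
  rwa [swp_emb, mul_inv_cancel_right] at h1

omit [Fintype F] in
theorem Std.iz_diag (S : Std R) {c : GL1} (hc : IZ (side R) c) : IZ R (emb (c, c)) :=
  ⟨mem_side.1 hc.1, by rw [emb_mul, hc.2.1, emb_one], fun e => hc.2.2 (by
    rcases e with e | e
    · rw [← emb_one, emb_inj] at e; exact Or.inl e.1
    · rw [← emb_one, ← emb_neg, emb_inj] at e; exact Or.inr e.1)⟩

omit [Fintype F] in
theorem plus_diag (c : GL1) : Extra.plus (emb (c, c)) = fromBlocks (Extra.plus c) 0 0 (Extra.plus c) := by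
  rw [Extra.plus, emb_val, ← fromBlocks_one, fromBlocks_add]
  simp [Extra.plus]

/-- Conjugation by an element centralising `z` agrees with the group on the fixed space of `z`. -/
theorem Over.proj_of {z h r : GL2} {Ψ : Matrix (κ ⊕ κ) (κ ⊕ κ) F ≃ₐ[F] Matrix (κ ⊕ κ) (κ ⊕ κ) F}
    (hΨz : glEquiv Ψ z = Z0) (S : Std (R.map (glEquiv Ψ).toMonoidHom))
    (hblk : ∀ a b, emb (a, b) ∈ H.map (glEquiv Ψ).toMonoidHom →
      a ∈ normalizer (side (R.map (glEquiv Ψ).toMonoidHom) : Set GL1))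
    (hh : h ∈ H) (hhz : h * z = z * h) (hr : r ∈ R) (hrz : r * z = z * r) :
    ∃ d ∈ R, d * z = z * d ∧ Ag z (h * r * h⁻¹) d := by
  have hcomm : ∀ {a : GL2}, a * z = z * a → glEquiv Ψ a * Z0 = Z0 * glEquiv Ψ a := fun {a} e => by
    rw [← hΨz, ← map_mul, e, map_mul]
  obtain ⟨x, t, hxt⟩ := comm_Z0 S.two (hcomm hhz)
  obtain ⟨e, he, hre⟩ := S.cent_cases (r := glEquiv Ψ r) ⟨r, hr, rfl⟩ (hcomm hrz)
  have hxN := hblk x t (hxt ▸ ⟨h, hh, rfl⟩)
  have he' := (Subgroup.mem_normalizer_iff.1 hxN e).1 he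
  obtain ⟨d, hd, hde⟩ := mem_side.1 he'
  refine ⟨d, hd, (glEquiv Ψ).injective ?_, ?_⟩
  · rw [map_mul, map_mul, hΨz, show glEquiv Ψ d = _ from hde, emb_comm_Z0]
  · have e0 : (glEquiv Ψ (h * r * h⁻¹)).1 * Extra.plus (glEquiv Ψ z) =
        (glEquiv Ψ d).1 * Extra.plus (glEquiv Ψ z) := by
      rw [hΨz, show glEquiv Ψ d = _ from hde, map_mul, map_mul, map_inv, hxt]
      rcases hre with e' | e' <;> rw [e', emb_inv, emb_mul, emb_mul, emb_val, emb_val, Extra.plus, Z0_val,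
        ← fromBlocks_one, fromBlocks_add, fromBlocks_multiply, fromBlocks_multiply] <;> simp
    unfold Ag
    refine Ψ.injective ?_
    rw [map_mul, map_mul, show Ψ (Extra.plus z) = Extra.plus (glEquiv Ψ z) by simp [Extra.plus],
      ← coe_glEquiv, ← coe_glEquiv]
    exact e0

/-- An element of one block centralising `c` agrees with the group of the block on the fixed space of `c`. -/
theorem Over.agree_of (O : Over R H) (S : Std R) {c t : GL1} (hc : IZ (side R) c) (ht : emb (t, 1) ∈ H)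
    (htc : t * c = c * t)
    (hproj : ∀ h ∈ H, h * emb (c, c) = emb (c, c) * h → ∀ r ∈ R, r * emb (c, c) = emb (c, c) * r →
      ∃ d ∈ R, d * emb (c, c) = emb (c, c) * d ∧ Ag (emb (c, c)) (h * r * h⁻¹) d) :
    ∃ e ∈ side R, e * c = c * e ∧ (t : M1) * Extra.plus c = (e : M1) * Extra.plus c := by
  have hiz := S.iz_diag hc
  obtain ⟨d, hd, hdz, hag⟩ := hproj _ ht (by rw [emb_mul, emb_mul, one_mul, mul_one, htc]) swp S.hs (swp_emb c c)
  have hval : (emb (t, (1 : GL1)) * swp * (emb (t, (1 : GL1)))⁻¹).1 = fromBlocks (0 : M1) t.1 (t⁻¹).1 0 := by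
    rw [Units.val_mul, Units.val_mul, emb_inv, inv_one, emb_val, emb_val, swp_val, fromBlocks_multiply,
      fromBlocks_multiply]
    simp
  have hne : t.1 * Extra.plus c ≠ 0 := fun e0 => plus_ne_zero hc (by
    have := congrArg ((t⁻¹).1 * ·) e0
    simpa [← Matrix.mul_assoc] using this)
  unfold Ag at hag
  rw [hval, plus_diag] at hag
  rcases S.pre.comm d hd Z0 S.hZ with hc' | hc'
  · exfalso
    obtain ⟨e, -, rfl | rfl⟩ := S.cent_cases hd hc' <;>
    · rw [emb_val, fromBlocks_multiply, fromBlocks_multiply, fromBlocks_inj] at hag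
      exact hne (by simpa using hag.2.1)
  · obtain ⟨e, he, hde | hde⟩ := S.anti_cases hd hc' <;>
    · subst hde
      refine ⟨e, he, ?_, ?_⟩
      · have := congrArg Units.val hdz
        simp only [Units.val_mul, emb_val, swp_val, fromBlocks_multiply, fromBlocks_inj, Matrix.mul_one,
          Matrix.one_mul, Matrix.mul_zero, Matrix.zero_mul, add_zero, zero_add] at this
        exact Units.ext this.2.1
      · rw [Units.val_mul, emb_val, swp_val, fromBlocks_multiply, fromBlocks_multiply, fromBlocks_multiply,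
          fromBlocks_inj] at hag
        simpa using hag.2.1

end Blocks

end CfsgLib.MaxSub.Extra.Plus
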