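import Cfsg.Agent.Lib.MaxSub.Extra.Fusion

/-!
An involution of the normaliser of a symplectic-type two-group centralises two anticommuting elements on an
eigenspace of some non-central involution of the group commuting with it; no hypothesis on the type is needed.
-/

set_option autoImplicit false
set_option linter.unusedSectionVars false
set_option linter.style.haveILetI false

namespace CfsgLib.MaxSub.Extra

open Matrix Subgroup

variable {F : Type*} [Field F] {ι : Type} [Fintype ι] [DecidableEq ι] {R : Subgroup (GL ι F)}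

local notation "M" => Matrix ι ι F

theorem Ext.exists_pairs (X : Ext R) (h256 : 256 ≤ Nat.card R) {z : GL ι F} (hN : z ∈ normalizer (R : Set (GL ι F))) (hzz : z * z = 1) :
    ∃ z₁, IZ R z₁ ∧ z₁ * z = z * z₁ ∧ ∃ g₁ ∈ R, ∃ g₂ ∈ R, g₁ * z₁ = z₁ * g₁ ∧ g₂ * z₁ = z₁ * g₂ ∧
      g₁ * g₂ = -(g₂ * g₁) ∧ (g₁ : M) * z * Extra.plus z₁ = (z : M) * g₁ * Extra.plus z₁ ∧
      (g₂ : M) * z * Extra.plus z₁ = (z : M) * g₂ * Extra.plus z₁ := by
  classical
  haveI := X.fin
  have hzi : z⁻¹ = z := inv_eq_of_mul_eq_one_right hzz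
  -- conjugation by the involution
  set φ : GL ι F →* GL ι F := (MulAut.conj z).toMonoidHom with hφ
  have φ_def : ∀ r, φ r = z * r * z := fun r => by rw [hφ]; simp [hzi]
  have hφR : ∀ {r}, r ∈ R → φ r ∈ R := fun {r} hr => by
    have := (Subgroup.mem_normalizer_iff.1 hN r).1 hr
    rwa [hzi, ← φ_def] at this
  have hφφ : ∀ r, φ (φ r) = r := fun r => by
    rw [φ_def, φ_def, show z * (z * r * z) * z = z * z * r * (z * z) by group, hzz, one_mul, mul_one]
  have hφn : ∀ r, φ (-r) = -φ r := fun r => by rw [φ_def, φ_def, mul_neg, neg_mul]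
  have hfix : ∀ {g}, φ g = g → g * z = z * g := fun {g} e => by
    rw [φ_def] at e
    nth_rw 1 [← e]
    rw [mul_assoc _ z z, hzz, mul_one]
  have hagree : ∀ {g}, g * z = z * g → ∀ w : GL ι F, (g : M) * z * Extra.plus w = (z : M) * g * Extra.plus w :=
    fun {g} e w => by rw [← Units.val_mul, e, Units.val_mul]
  have hanti : ∀ {a b}, a ∈ R → b ∈ R → ¬ a * b = b * a → a * b = -(b * a) := fun {a b} ha hb h =>
    (X.comm a ha b hb).resolve_left h
  let C := R ⊓ centralizer {z}
  have memC : ∀ {c}, c ∈ C ↔ c ∈ R ∧ c * z = z * c := fun {c} => by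
    simp only [C, mem_inf, mem_centralizer_singleton_iff]
  haveI : Finite C := Finite.of_injective _ (inclusion_injective (inf_le_left : C ≤ R))
  let Fb : Subgroup (GL ι F) :=
    { carrier := {r | r ∈ R ∧ PM (φ r) r}
      one_mem' := ⟨one_mem R, by rw [map_one]; exact PM.refl 1⟩
      mul_mem' := fun {a b} ha hb => ⟨mul_mem ha.1 hb.1, by rw [map_mul]; exact ha.2.mul hb.2⟩
      inv_mem' := fun {a} ha => ⟨inv_mem ha.1, by rw [map_inv]; exact ha.2.inv⟩ }
  have memF : ∀ {r}, r ∈ Fb ↔ r ∈ R ∧ PM (φ r) r := fun {r} => Iff.rfl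
  haveI : Finite Fb := Finite.of_injective _ (inclusion_injective (fun r hr => hr.1 : Fb ≤ R))
  have hFC : Nat.card Fb ≤ 2 * Nat.card C := by
    by_cases hno : ∀ r ∈ Fb, r * z = z * r
    · have : Fb ≤ C := fun r hr => memC.2 ⟨hr.1, hno r hr⟩
      have := Nat.card_le_card_of_injective _ (inclusion_injective this)
      omega
    push Not at hno
    obtain ⟨w, hw, hwz⟩ := hno
    have hwφ : φ w = -w := hw.2.resolve_left fun e => hwz (hfix e)
    have hcase : ∀ r : Fb, ¬ (r : GL ι F) * z = z * r → (r : GL ι F) * w ∈ C := fun r hr =>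
      memC.2 ⟨mul_mem r.2.1 hw.1, hfix (by
        rw [map_mul, hwφ, r.2.2.resolve_left fun e => hr (hfix e), neg_mul_neg])⟩
    let ψ : Fb → Bool × C := fun r => if h : (r : GL ι F) * z = z * r then (false, ⟨r, memC.2 ⟨r.2.1, h⟩⟩)
      else (true, ⟨(r : GL ι F) * w, hcase r h⟩)
    have hψ : Function.Injective ψ := fun r s e => by
      by_cases h : (r : GL ι F) * z = z * r <;> by_cases h' : (s : GL ι F) * z = z * s <;>
        simp [ψ, h, h'] at e
      · exact Subtype.ext (Subtype.mk.inj e)
      · exact e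
    have := Nat.card_le_card_of_injective ψ hψ
    rwa [Nat.card_prod, show Nat.card Bool = 2 by simp] at this
  have hsign : ∀ {a b c}, a ∈ R → b ∈ R → c ∈ R → a * c = c * a → b * c = c * b → (a * b) * c = c * (a * b) :=
    fun {a b c} _ _ _ h1 h3 => by rw [mul_assoc, h3, ← mul_assoc, h1, mul_assoc]
  let X0 : Subgroup (GL ι F) :=
    { carrier := {r | r ∈ R ∧ φ r * r = r * φ r}
      one_mem' := ⟨one_mem R, by rw [map_one]⟩
      mul_mem' := fun {a b} ha hb => by
        refine ⟨mul_mem ha.1 hb.1, ?_⟩
        show φ (a * b) * (a * b) = a * b * φ (a * b)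
        rw [map_mul]
        rcases X.comm (φ b) (hφR hb.1) a ha.1 with e | e
        · have e' : φ a * b = b * φ a := by
            have := congrArg φ e
            rw [map_mul, map_mul, hφφ] at this
            exact this.symm
          calc φ a * φ b * (a * b) = φ a * (φ b * a) * b := by group
            _ = φ a * a * (φ b * b) := by rw [e]; group
            _ = a * φ a * (b * φ b) := by rw [ha.2, hb.2]
            _ = a * (φ a * b) * φ b := by group
            _ = _ := by rw [e']; group
        · have e' : φ a * b = -(b * φ a) := by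
            have := congrArg φ e
            rw [map_mul, hφn, map_mul, hφφ] at this
            rw [this, neg_neg]
          calc φ a * φ b * (a * b) = φ a * (φ b * a) * b := by group
            _ = -(φ a * a * (φ b * b)) := by rw [e, mul_neg, neg_mul]; congr 1; group
            _ = -(a * φ a * (b * φ b)) := by rw [ha.2, hb.2]
            _ = -(a * (φ a * b) * φ b) := by congr 1; group
            _ = _ := by rw [e', mul_neg, neg_mul, neg_neg]; group
      inv_mem' := fun {a} ha => by
        refine ⟨inv_mem ha.1, ?_⟩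
        show φ a⁻¹ * a⁻¹ = a⁻¹ * φ a⁻¹
        rw [map_inv, ← _root_.mul_inv_rev, ← _root_.mul_inv_rev, ha.2] }
  have memX : ∀ {r}, r ∈ X0 ↔ r ∈ R ∧ φ r * r = r * φ r := fun {r} => Iff.rfl
  by_cases hgood : ∃ r ∈ X0, r ∉ Fb ∧ ∃ c ∈ C, c * r = -(r * c)
  · obtain ⟨r, hr, hrF, c, hc, hcr⟩ := hgood
    obtain ⟨hrR, hrφ⟩ := memX.1 hr
    obtain ⟨hcR, hcz⟩ := memC.1 hc
    obtain ⟨x, hx⟩ : ∃ x, x = r * (φ r)⁻¹ := ⟨_, rfl⟩
    have hcomm : Commute r (φ r)⁻¹ := (show Commute r (φ r) from hrφ.symm).inv_right
    have hsqr : φ r * φ r = r * r := by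
      rcases X.sq r hrR with e | e <;> rw [← map_mul, e] <;> simp [hφn]
    have hxx : x * x = 1 := by
      calc x * x = r * ((φ r)⁻¹ * r) * (φ r)⁻¹ := by rw [hx]; group
        _ = r * r * (φ r * φ r)⁻¹ := by rw [← hcomm.eq]; group
        _ = 1 := by rw [hsqr, mul_inv_cancel]
    have hxn : ¬ PM x 1 := fun e => hrF (memF.2 ⟨hrR, by
      have := e.mul (PM.refl (φ r))
      rw [hx, inv_mul_cancel_right, one_mul] at this
      exact this.symm⟩)
    have hxz : x * z = z * x := hfix (by
      rw [hx, map_mul, map_inv, hφφ]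
      calc φ r * r⁻¹ = (r * (φ r)⁻¹)⁻¹ := by group
        _ = r * (φ r)⁻¹ := by rw [← hx]; exact inv_eq_of_mul_eq_one_right hxx)
    have hcφ : φ c = c := by rw [φ_def, ← hcz, mul_assoc, hzz, mul_one]
    have hcφr : c * φ r = -(φ r * c) := by
      have := congrArg φ hcr
      rwa [map_mul, hφn, map_mul, hcφ] at this
    have hcx : c * x = x * c := by
      have h5 : c * (φ r)⁻¹ = -((φ r)⁻¹ * c) := by
        calc c * (φ r)⁻¹ = (φ r)⁻¹ * (φ r * c) * (φ r)⁻¹ := by group
          _ = _ := by
            rw [show φ r * c = -(c * φ r) by rw [hcφr, neg_neg], mul_neg, neg_mul]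
            congr 1
            group
      calc c * x = c * r * (φ r)⁻¹ := by rw [hx, mul_assoc]
        _ = -(r * (c * (φ r)⁻¹)) := by rw [hcr, neg_mul, mul_assoc]
        _ = x * c := by rw [h5, mul_neg, neg_neg, hx, mul_assoc]
    have hrx : r * x = x * r := by rw [hx, mul_assoc r (φ r)⁻¹ r, ← hcomm.eq]
    refine ⟨x, ⟨hx ▸ mul_mem hrR (inv_mem (hφR hrR)), hxx, hxn⟩, hxz, r, hrR, c, hcR, hrx, hcx, ?_, ?_,
      hagree hcz x⟩
    · rw [hcr, neg_neg]
    · have e1 : (x : M) * Extra.plus x = Extra.plus x := by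
        simp [Extra.plus, Matrix.mul_add, show (x : M) * (x : M) = 1 from congrArg Units.val hxx, add_comm]
      have e2 : z * r = r * z * x := by
        have h6 : φ r = r * x := by
          rw [hrx, hx, mul_assoc r, ← hcomm.eq, ← mul_assoc]
          rw [show r * r * (φ r)⁻¹ = φ r * φ r * (φ r)⁻¹ by rw [hsqr], mul_inv_cancel_right]
        calc z * r = φ r * z := by rw [φ_def, mul_assoc _ z z, hzz, mul_one]
          _ = _ := by rw [h6, mul_assoc, hxz, mul_assoc]
      rw [← Units.val_mul z r, e2, Units.val_mul, Units.val_mul, Matrix.mul_assoc ((r : M) * (z : M)), e1]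
  push Not at hgood
  -- an index-two subgroup commuting with the centraliser, or inside `Fb`
  obtain ⟨hX2, hdis⟩ : Nat.card R ≤ 2 * Nat.card X0 ∧ (X0 ≤ Fb ∨ ∀ r ∈ X0, ∀ c ∈ C, c * r = r * c) := by
    constructor
    · haveI : Finite X0 := Finite.of_injective _ (inclusion_injective (fun r hr => hr.1 : X0 ≤ R))
      by_cases hall : ∀ r ∈ R, φ r * r = r * φ r
      · have : R ≤ X0 := fun r hr => memX.2 ⟨hr, hall r hr⟩
        have := Nat.card_le_card_of_injective _ (inclusion_injective this)
        omega
      push Not at hall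
      obtain ⟨w, hw, hww⟩ := hall
      have hbad : ∀ r : R, ¬ φ (r : GL ι F) * r = r * φ r → (r : GL ι F) * w ∈ X0 := fun r hr => by
        have a1 := hanti (hφR r.2) r.2 hr
        have a2 := hanti (hφR hw) hw hww
        refine memX.2 ⟨mul_mem r.2 hw, ?_⟩
        rw [map_mul]
        rcases X.comm (φ w) (hφR hw) r r.2 with e | e
        · have e' : φ (r : GL ι F) * w = w * φ r := by
            have := congrArg φ e
            rw [map_mul, map_mul, hφφ] at this
            exact this.symm
          calc φ (r : GL ι F) * φ w * (r * w) = φ (r : GL ι F) * (φ w * r) * w := by group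
            _ = φ (r : GL ι F) * r * (φ w * w) := by rw [e]; group
            _ = r * φ r * (w * φ w) := by rw [a1, a2, neg_mul_neg]
            _ = r * (φ r * w) * φ w := by group
            _ = _ := by rw [e']; group
        · have e' : φ (r : GL ι F) * w = -(w * φ r) := by
            have := congrArg φ e
            rw [map_mul, hφn, map_mul, hφφ] at this
            rw [this, neg_neg]
          calc φ (r : GL ι F) * φ w * (r * w) = φ (r : GL ι F) * (φ w * r) * w := by group
            _ = -(φ (r : GL ι F) * r * (φ w * w)) := by rw [e, mul_neg, neg_mul]; congr 1; group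
            _ = -(r * φ r * (w * φ w)) := by rw [a1, a2, neg_mul_neg]
            _ = -(r * (φ r * w) * φ w) := by congr 1; group
            _ = _ := by rw [e', mul_neg, neg_mul, neg_neg]; group
      let ψ : R → Bool × X0 := fun r => if h : φ (r : GL ι F) * r = r * φ r then (false, ⟨r, memX.2 ⟨r.2, h⟩⟩)
        else (true, ⟨(r : GL ι F) * w, hbad r h⟩)
      have hψ : Function.Injective ψ := fun r s e => by
        by_cases h : φ (r : GL ι F) * r = r * φ r <;> by_cases h' : φ (s : GL ι F) * s = s * φ s <;>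
          simp [ψ, h, h'] at e
        · exact Subtype.ext (Subtype.mk.inj e)
        · exact e
      have := Nat.card_le_card_of_injective ψ hψ
      rwa [Nat.card_prod, show Nat.card Bool = 2 by simp] at this
    · by_contra hcon
      push Not at hcon
      obtain ⟨hnF, s, hs, c, hc, hsc⟩ := hcon
      obtain ⟨r, hr, hrF⟩ := SetLike.not_le_iff_exists.1 hnF
      have hsc' : c * s = -(s * c) := hanti (memC.1 hc).1 (memX.1 hs).1 hsc
      have hsF : s ∈ Fb := by
        by_contra h
        exact hgood s hs h c hc hsc'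
      have hrc : c * r = r * c := (X.comm c (memC.1 hc).1 r (memX.1 hr).1).resolve_right (hgood r hr hrF c hc)
      refine hgood (r * s) (mul_mem hr hs) (fun h => hrF ((Subgroup.mul_mem_cancel_right _ hsF).1 h)) c hc ?_
      rw [← mul_assoc, hrc, mul_assoc, hsc', mul_neg, ← mul_assoc]
  have hR := X.order
  haveI : Finite X0 := Finite.of_injective _ (inclusion_injective (fun r hr => hr.1 : X0 ≤ R))
  rcases hdis with hXF | hXC
  · -- the centraliser is large, so not abelian
    have h4 : Nat.card R ≤ 4 * Nat.card C := by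
      have := Nat.card_le_card_of_injective _ (inclusion_injective hXF)
      omega
    obtain ⟨g₁, hg₁, g₂, hg₂, hne⟩ : ∃ g₁ ∈ C, ∃ g₂ ∈ C, ¬ g₁ * g₂ = g₂ * g₁ := by
      by_contra! hab
      let E : Subgroup (GL ι F) :=
        { carrier := {c | c ∈ C ∧ c * c = 1}
          one_mem' := ⟨one_mem C, one_mul 1⟩
          mul_mem' := fun {a b} ha hb => ⟨mul_mem ha.1 hb.1, by
            calc a * b * (a * b) = a * (b * a) * b := by group
              _ = a * a * (b * b) := by rw [← hab a ha.1 b hb.1]; group
              _ = 1 := by rw [ha.2, hb.2, one_mul]⟩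
          inv_mem' := fun {a} ha => ⟨inv_mem ha.1, by rw [← _root_.mul_inv_rev, ha.2, inv_one]⟩ }
      have hE := X.elem E (fun c hc => (memC.1 hc.1).1) fun c hc => hc.2
      haveI : Finite E := Finite.of_injective _ (inclusion_injective (fun c hc => (memC.1 hc.1).1 : E ≤ R))
      by_cases hall : ∀ c ∈ C, c * c = 1
      · have : C ≤ E := fun c hc => ⟨hc, hall c hc⟩
        have := Nat.card_le_card_of_injective _ (inclusion_injective this)
        omega
      push Not at hall
      obtain ⟨w, hw, hw2⟩ := hall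
      have hbad : ∀ c : C, ¬ (c : GL ι F) * c = 1 → (c : GL ι F) * w ∈ E := fun c hc => ⟨mul_mem c.2 hw, by
        calc (c : GL ι F) * w * (c * w) = c * (w * c) * w := by group
          _ = c * c * (w * w) := by rw [← hab c c.2 w hw]; group
          _ = 1 := by rw [X.sq_neg (memC.1 c.2).1 hc, X.sq_neg (memC.1 hw).1 hw2, neg_mul_neg, one_mul]⟩
      let ψ : C → Bool × E := fun c => if h : (c : GL ι F) * c = 1 then (false, ⟨c, c.2, h⟩)
        else (true, ⟨(c : GL ι F) * w, hbad c h⟩)
      have hψ : Function.Injective ψ := fun r s e => by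
        by_cases h : (r : GL ι F) * r = 1 <;> by_cases h' : (s : GL ι F) * s = 1 <;> simp [ψ, h, h'] at e
        · exact Subtype.ext (Subtype.mk.inj e)
        · exact e
      have := Nat.card_le_card_of_injective ψ hψ
      rw [Nat.card_prod, show Nat.card Bool = 2 by simp] at this
      omega
    obtain ⟨hg₁R, hg₁z⟩ := memC.1 hg₁
    obtain ⟨hg₂R, hg₂z⟩ := memC.1 hg₂
    have hCR : C ≤ R := inf_le_left
    obtain ⟨z₁, ⟨⟨hz₁C, h1⟩, h3⟩, hz₁⟩ := X.exists_iz
      (inf_le_left.trans (inf_le_left.trans hCR) : C ⊓ centralizer {g₁} ⊓ centralizer {g₂} ≤ R) (by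
        have := X.half hCR hg₁R
        have := X.half (inf_le_left.trans hCR : C ⊓ centralizer {g₁} ≤ R) hg₂R
        omega)
    exact ⟨z₁, hz₁, (memC.1 hz₁C).2, g₁, hg₁R, g₂, hg₂R, (mem_centralizer_singleton_iff.1 h1).symm,
      (mem_centralizer_singleton_iff.1 h3).symm, hanti hg₁R hg₂R hne, hagree hg₁z z₁, hagree hg₂z z₁⟩
  · -- the centraliser is small, so the group is
    exfalso
    have hC4 : Nat.card C ≤ 4 := by
      by_cases hall : ∀ c ∈ C, PM c 1
      · have hmem : ∀ c : C, (c : GL ι F) ∈ ([1, -1] : List (GL ι F)).toFinset := fun c => by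
          rw [List.mem_toFinset]
          rcases hall c c.2 with e | e <;> rw [e] <;> simp
        have := Nat.card_le_card_of_injective (fun c : C => (⟨c, hmem c⟩ : ([1, -1] : List (GL ι F)).toFinset))
          fun x y e => Subtype.ext (congrArg (fun u : ([1, -1] : List (GL ι F)).toFinset => (u : GL ι F)) e)
        rw [Nat.card_eq_finsetCard] at this
        exact this.trans ((List.toFinset_card_le _).trans (by simp))
      push Not at hall
      obtain ⟨c₀, hc₀, hc₀n⟩ := hall
      obtain ⟨y, hy, hyc⟩ := X.anti (memC.1 hc₀).1 hc₀n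
      have hyX : y ∉ X0 := fun h => X.ne_neg (c₀ * y) (by
        nth_rw 2 [hXC y h c₀ hc₀]
        rw [hyc, neg_neg])
      have hcov : ∀ x ∈ R, x ∈ X0 ∨ x * y ∈ X0 := fun x hx => by
        by_contra hh
        push Not at hh
        obtain ⟨h1, h3⟩ := hh
        have hy2 : y * y ∈ X0 := memX.2 ⟨mul_mem hy hy, by
          rcases X.sq y hy with e2 | e2 <;> rw [e2] <;> simp [hφn]⟩
        have h4 : y⁻¹ * x ∉ X0 := fun h => by
          have e3 : x * y = (y * y) * (y⁻¹ * x) ∨ x * y = -((y * y) * (y⁻¹ * x)) := by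
            rw [mul_assoc, mul_inv_cancel_left]
            exact X.comm x hx y hy
          rcases e3 with e3 | e3 <;> rw [e3] at h3
          · exact h3 (mul_mem hy2 h)
          · rw [← neg_one_mul] at h3
            exact h3 (mul_mem (memX.2 ⟨X.neg, by simp [hφn]⟩) (mul_mem hy2 h))
        -- three cosets of an index-two subgroup
        let T : X0 ⊕ X0 ⊕ X0 → R := Sum.elim (fun a => ⟨a.1, a.2.1⟩)
          (Sum.elim (fun a => ⟨y * a.1, mul_mem hy a.2.1⟩) (fun a => ⟨x * a.1, mul_mem hx a.2.1⟩))
        have hbad : ∀ u v : GL ι F, v⁻¹ * u ∉ X0 → ∀ a b : X0, u * (a : GL ι F) ≠ v * (b : GL ι F) :=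
          fun u v huv a b e => huv (by
            rw [show v⁻¹ * u = (b : GL ι F) * (a : GL ι F)⁻¹ by
              rw [eq_mul_inv_iff_mul_eq, mul_assoc, e, inv_mul_cancel_left]]
            exact mul_mem b.2 (inv_mem a.2))
        have hy1 : y⁻¹ ∉ X0 := fun h => hyX (by simpa using inv_mem h)
        have hx1 : x⁻¹ ∉ X0 := fun h => h1 (by simpa using inv_mem h)
        have h4' : x⁻¹ * y ∉ X0 := fun h => h4 (by simpa using inv_mem h)
        have hinj : Function.Injective T := by
          rintro (a | a | a) (b | b | b) e <;> have e' := congrArg Subtype.val e <;> simp [T] at e'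
          · rw [e']
          · exact absurd e' (by simpa using hbad 1 y (by simpa using hy1) a b)
          · exact absurd e' (by simpa using hbad 1 x (by simpa using hx1) a b)
          · exact absurd e'.symm (by simpa using hbad 1 y (by simpa using hy1) b a)
          · rw [e']
          · exact absurd e' (hbad y x h4' a b)
          · exact absurd e'.symm (by simpa using hbad 1 x (by simpa using hx1) b a)
          · exact absurd e' (hbad x y h4 a b)
          · rw [e']
        have := Nat.card_le_card_of_injective _ hinj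
        rw [Nat.card_sum, Nat.card_sum] at this
        omega
      have hcen : ∀ c ∈ C, c * y = y * c → PM c 1 := fun c hc h => X.central c (memC.1 hc).1 fun x hx => by
        rcases hcov x hx with h' | h'
        · exact hXC x h' c hc
        · have e := hXC _ h' c hc
          rw [← mul_assoc, mul_assoc x y, ← h, ← mul_assoc] at e
          exact mul_right_cancel e
      have hmem : ∀ c : C, (c : GL ι F) ∈ ([1, -1, c₀, -c₀] : List (GL ι F)).toFinset := fun c => by
        rw [List.mem_toFinset]
        rcases X.comm c (memC.1 c.2).1 y hy with e | e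
        · rcases hcen c c.2 e with e' | e' <;> rw [e'] <;> simp
        · have h5 := hcen ((c : GL ι F) * c₀⁻¹) (mul_mem c.2 (inv_mem hc₀)) (by
            have h6 : c₀⁻¹ * y = -(y * c₀⁻¹) := by
              calc c₀⁻¹ * y = c₀⁻¹ * (y * c₀) * c₀⁻¹ := by group
                _ = _ := by rw [hyc, mul_neg, neg_mul, ← mul_assoc, inv_mul_cancel, one_mul]
            rw [mul_assoc, h6, mul_neg, ← mul_assoc, e, neg_mul, neg_neg, mul_assoc])
          have h7 := h5.mul (PM.refl c₀)
          rw [inv_mul_cancel_right, one_mul] at h7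
          rcases h7 with e' | e' <;> rw [e'] <;> simp
      have := Nat.card_le_card_of_injective
        (fun c : C => (⟨c, hmem c⟩ : ([1, -1, c₀, -c₀] : List (GL ι F)).toFinset))
        fun x y e => Subtype.ext (congrArg (fun u : ([1, -1, c₀, -c₀] : List (GL ι F)).toFinset => (u : GL ι F)) e)
      rw [Nat.card_eq_finsetCard] at this
      exact this.trans ((List.toFinset_card_le _).trans (by simp))
    let τ : GL ι F → GL ι F := fun r => r * (φ r)⁻¹
    have hτ : ∀ r : R, τ r ∈ Fb := fun r => memF.2 ⟨mul_mem r.2 (inv_mem (hφR r.2)), by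
      show PM (φ ((r : GL ι F) * (φ r)⁻¹)) (r * (φ r)⁻¹)
      rw [map_mul, map_inv, hφφ]
      have h5 : PM ((r : GL ι F) * (φ r)⁻¹)⁻¹ (r * (φ r)⁻¹) := by
        have h6 := (X.sq _ (mul_mem r.2 (inv_mem (hφR r.2)))).mul
          (PM.refl ((r : GL ι F) * (φ r)⁻¹)⁻¹)
        rw [mul_inv_cancel_right, one_mul] at h6
        exact h6.symm
      rwa [_root_.mul_inv_rev, inv_inv] at h5⟩
    have hle := X.card_le_fibre z (fun r => (⟨τ r, hτ r⟩ : Fb)) fun r s e => by
      have e' : τ r = τ s := congrArg Subtype.val e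
      have hτz : ∀ u : GL ι F, τ u = u * z * u⁻¹ * z := fun u => by
        show u * (φ u)⁻¹ = _
        rw [φ_def, _root_.mul_inv_rev, _root_.mul_inv_rev, hzi]
        group
      rw [hτz, hτz] at e'
      exact mul_right_cancel e'
    change Nat.card R ≤ Nat.card C * Nat.card Fb at hle
    have := Nat.mul_le_mul_left (Nat.card C) hFC
    nlinarith

end CfsgLib.MaxSub.Extra
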