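import Cfsg.Agent.Lib.MaxSub.Extra.Plus.Orth
import Cfsg.Agent.Lib.MaxSub.Extra.Fusion

/-!
An absolutely irreducible group `2^(1+2k)` of plus type of orthogonal matrices, `k ≥ 3`: centralisers, agreement
on eigenspaces, the elements acting as an element of the group on one eigenspace, the commutator subgroup.
-/

set_option autoImplicit false
set_option linter.unusedSectionVars false
set_option linter.style.haveILetI false

namespace CfsgLib.MaxSub.Extra.Plus

open Matrix Subgroup

variable {F : Type*} [Field F] {ι : Type} [Fintype ι] [DecidableEq ι]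

local notation "M" => Matrix ι ι F

/-- A symplectic-type group of plus type in the orthogonal group. -/
structure Pre (R : Subgroup (GL ι F)) : Prop where
  two : (2 : F) ≠ 0
  ncard : (Fintype.card ι : F) ≠ 0
  fin : Finite R
  neg : -1 ∈ R
  le : R ≤ Og ι F
  comm : ∀ x ∈ R, ∀ y ∈ R, x * y = y * x ∨ x * y = -(y * x)
  sq : ∀ x ∈ R, PM (x * x) 1
  irr : ∀ A : M, (∀ s ∈ R, A * (s : M) = (s : M) * A) → ∃ c : F, A = c • 1
  order : 128 ≤ Nat.card R
  plus : ∃ A ≤ R, (∀ x ∈ A, x * x = 1) ∧ 2 * Nat.card R ≤ Nat.card A ^ 2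

/-- Half the sum of the two projections, the second one followed by `e`. -/
def rootM (c e : GL ι F) : M := (2 : F)⁻¹ • (Extra.plus c + (e : M) * Extra.minus c)

open scoped Classical in
/-- The element acting as one on the fixed space of `c` and as `e` on the negated space. -/
noncomputable def root (c e : GL ι F) : GL ι F := if h : IsUnit (rootM c e) then h.unit else 1

section Root

theorem plus_sq {c : GL ι F} (hc : c * c = 1) :
    Extra.plus c * Extra.plus c = (2 : F) • Extra.plus c ∧ Extra.minus c * Extra.minus c = (2 : F) • Extra.minus c := by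
  have e : (c : M) * c = 1 := congrArg Units.val hc
  simp [Extra.plus, Extra.minus, Matrix.mul_add, Matrix.add_mul, Matrix.mul_sub, Matrix.sub_mul, e, two_smul]
  abel_nf
  trivial

variable (h2 : (2 : F) ≠ 0) {c e e' : GL ι F} (hc : c * c = 1) (he : e * c = c * e) (he' : e' * c = c * e')
include h2 hc

theorem rootM_plus (e : GL ι F) : rootM c e * Extra.plus c = Extra.plus c := by
  rw [rootM, Matrix.smul_mul, Matrix.add_mul, (plus_sq hc).1, Matrix.mul_assoc, (minus_plus hc).1, Matrix.mul_zero,
    add_zero, smul_smul, inv_mul_cancel₀ h2, one_smul]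

theorem rootM_minus (e : GL ι F) : rootM c e * Extra.minus c = (e : M) * Extra.minus c := by
  rw [rootM, Matrix.smul_mul, Matrix.add_mul, (minus_plus hc).2, Matrix.mul_assoc, (plus_sq hc).2, zero_add,
    Matrix.mul_smul, smul_smul, inv_mul_cancel₀ h2, one_smul]

theorem rootM_one : rootM c 1 = 1 := by
  rw [rootM, Units.val_one, Matrix.one_mul, show Extra.plus c + Extra.minus c = (2 : F) • (1 : M) by
    simp [Extra.plus, Extra.minus, two_smul], smul_smul, inv_mul_cancel₀ h2, one_smul]

omit hc in
theorem ext_ag {A B : M} (h1 : A * Extra.plus c = B * Extra.plus c) (h3 : A * Extra.minus c = B * Extra.minus c) :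
    A = B := by
  have e : A * (Extra.plus c + Extra.minus c) = B * (Extra.plus c + Extra.minus c) := by
    rw [Matrix.mul_add, Matrix.mul_add, h1, h3]
  rw [show Extra.plus c + Extra.minus c = (2 : F) • (1 : M) by simp [Extra.plus, Extra.minus, two_smul],
    Matrix.mul_smul, Matrix.mul_smul, Matrix.mul_one, Matrix.mul_one] at e
  exact smul_right_injective _ h2 e

include he'

theorem rootM_mul (e : GL ι F) : rootM c e * rootM c e' = rootM c (e * e') := by
  refine ext_ag h2 (c := c) ?_ ?_
  · rw [Matrix.mul_assoc, rootM_plus h2 hc, rootM_plus h2 hc, rootM_plus h2 hc]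
  · rw [Matrix.mul_assoc, rootM_minus h2 hc, (plus_comm he').2, ← Matrix.mul_assoc, rootM_minus h2 hc,
      rootM_minus h2 hc, Units.val_mul, Matrix.mul_assoc, ← (plus_comm he').2, ← Matrix.mul_assoc]

theorem root_val : (root c e' : M) = rootM c e' := by
  have hi : e'⁻¹ * c = c * e'⁻¹ := (Commute.inv_left (show Commute e' c from he')).eq
  have h1 : rootM c e' * rootM c e'⁻¹ = 1 := by rw [rootM_mul h2 hc hi, mul_inv_cancel, rootM_one h2 hc]
  have h3 : rootM c e'⁻¹ * rootM c e' = 1 := by rw [rootM_mul h2 hc he', inv_mul_cancel, rootM_one h2 hc]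
  have h : IsUnit (rootM c e') := ⟨⟨_, _, h1, h3⟩, rfl⟩
  rw [root, dif_pos h]
  exact h.unit_spec

theorem root_mul (hee : e * c = c * e) : root c e * root c e' = root c (e * e') := by
  refine Units.ext ?_
  rw [Units.val_mul, root_val h2 hc hee, root_val h2 hc he', rootM_mul h2 hc he',
    root_val h2 hc (by rw [mul_assoc, he', ← mul_assoc, hee, mul_assoc])]

theorem root_comm : root c e' * c = c * root c e' := by
  refine Units.ext ?_
  have hcc : (c : M) * c = 1 := congrArg Units.val hc
  have h : (c : M) * e' = e' * c := congrArg Units.val he'.symm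
  have h1 : Extra.plus c * (c : M) = Extra.plus c ∧ (c : M) * Extra.plus c = Extra.plus c := by
    simp [Extra.plus, Matrix.mul_add, Matrix.add_mul, hcc, add_comm]
  have h3 : Extra.minus c * (c : M) = -Extra.minus c ∧ (c : M) * Extra.minus c = -Extra.minus c := by
    simp [Extra.minus, Matrix.mul_sub, Matrix.sub_mul, hcc]
  rw [Units.val_mul, Units.val_mul, root_val h2 hc he', rootM, Matrix.smul_mul, Matrix.mul_smul, Matrix.add_mul,
    Matrix.mul_add, h1.1, h1.2, Matrix.mul_assoc (e' : M), h3.1, ← Matrix.mul_assoc (c : M), h,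
    Matrix.mul_assoc (e' : M) (c : M), h3.2]

theorem root_inv : (root c e')⁻¹ = root c e'⁻¹ := by
  refine inv_eq_of_mul_eq_one_right (Units.ext ?_)
  have hi : e'⁻¹ * c = c * e'⁻¹ := (Commute.inv_left (show Commute e' c from he')).eq
  rw [Units.val_mul, root_val h2 hc he', root_val h2 hc hi, rootM_mul h2 hc hi, mul_inv_cancel, rootM_one h2 hc,
    Units.val_one]

theorem root_neg_mul : root (-c) e' * root c e' = e' := by
  have hm : e' * -c = -c * e' := by rw [mul_neg, neg_mul, he']
  have hcn : -c * -c = 1 := by rw [neg_mul_neg, hc]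
  refine Units.ext (ext_ag h2 (c := c) ?_ ?_)
  · rw [Units.val_mul, Matrix.mul_assoc, root_val h2 hc he', rootM_plus h2 hc, root_val h2 hcn hm,
      show Extra.plus c = Extra.minus (-c) by simp [Extra.plus, Extra.minus, sub_eq_add_neg], rootM_minus h2 hcn]
  · rw [Units.val_mul, Matrix.mul_assoc, root_val h2 hc he', rootM_minus h2 hc, (plus_comm he').2,
      ← Matrix.mul_assoc, root_val h2 hcn hm, show Extra.minus c = Extra.plus (-c) from (plus_neg c).symm,
      rootM_plus h2 hcn]

theorem root_conj (g : GL ι F) : g * root c e' * g⁻¹ = root (g * c * g⁻¹) (g * e' * g⁻¹) := by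
  have hc2 : g * c * g⁻¹ * (g * c * g⁻¹) = 1 := by
    rw [show g * c * g⁻¹ * (g * c * g⁻¹) = g * (c * c) * g⁻¹ by group, hc, mul_one, mul_inv_cancel]
  have he2 : g * e' * g⁻¹ * (g * c * g⁻¹) = g * c * g⁻¹ * (g * e' * g⁻¹) := by
    rw [show g * e' * g⁻¹ * (g * c * g⁻¹) = g * (e' * c) * g⁻¹ by group, he']
    group
  refine Units.ext ?_
  rw [root_val h2 hc2 he2, Units.val_mul, Units.val_mul, root_val h2 hc he', rootM, rootM, Matrix.mul_smul,
    Matrix.smul_mul]
  congr 1
  simp [Extra.plus, Extra.minus, Matrix.mul_add, Matrix.add_mul, Matrix.mul_sub, Matrix.sub_mul, Matrix.mul_assoc]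

end Root

theorem root_one (h2 : (2 : F) ≠ 0) {c : GL ι F} (hc : c * c = 1) : root c (1 : GL ι F) = 1 :=
  Units.ext (by rw [root_val h2 hc (by simp), rootM_one h2 hc, Units.val_one])

theorem neg_inv' (x : GL ι F) : (-x)⁻¹ = -x⁻¹ :=
  inv_eq_of_mul_eq_one_right (by rw [neg_mul_neg, mul_inv_cancel])

namespace Pre

variable {R : Subgroup (GL ι F)} (X : Pre R)
include X

theorem nonempty : Nonempty ι := by
  by_contra h
  rw [not_nonempty_iff] at h
  exact X.ncard (by simp)

theorem ne_neg (g : GL ι F) : g ≠ -g := fun h => by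
  haveI := X.nonempty
  refine g.ne_zero ?_
  have e : (g : M) = -(g : M) := congrArg Units.val h
  have : (2 : F) • (g : M) = 0 := by rw [two_smul]; exact add_eq_zero_iff_eq_neg.2 e
  exact (smul_eq_zero.1 this).resolve_left X.two

theorem one_ne_neg : (1 : GL ι F) ≠ -1 := X.ne_neg 1

theorem mem_pm {x y : GL ι F} (h : PM x y) (hy : y ∈ R) : x ∈ R := h.mem X.neg hy

theorem central {x : GL ι F} (hx : x ∈ R) (h : ∀ y ∈ R, x * y = y * x) : PM x 1 := by
  obtain ⟨c, e⟩ := X.irr x fun s hs => congrArg Units.val (h s hs)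
  haveI := X.nonempty
  have h1 := congrFun (congrFun ((mem_Og X.two).1 (X.le hx)) (Classical.arbitrary ι)) (Classical.arbitrary ι)
  rw [e] at h1
  simp at h1
  rcases mul_self_eq_one_iff.1 h1 with h3 | h3
  · exact Or.inl (Units.ext (by rw [e, h3, one_smul, Units.val_one]))
  · exact Or.inr (Units.ext (by rw [e, h3, neg_one_smul, Units.val_neg, Units.val_one]))

theorem anti {x : GL ι F} (hx : x ∈ R) (hn : ¬ PM x 1) : ∃ r ∈ R, r * x = -(x * r) := by
  by_contra! hh
  exact hn (X.central hx fun r hr => ((X.comm r hr x hx).resolve_right (hh r hr)).symm)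

omit X in
theorem anti_not_pm (h2 : ∀ g : GL ι F, g ≠ -g) {r x : GL ι F} (h : r * x = -(x * r)) : ¬ PM x 1 := fun e => by
  rcases e with rfl | rfl <;> simp at h <;> first | exact h2 _ h | exact h2 _ h.symm

theorem not_pm {r x : GL ι F} (h : r * x = -(x * r)) : ¬ PM x 1 := anti_not_pm X.ne_neg h

theorem sq_neg {x : GL ι F} (hx : x ∈ R) (h : x * x ≠ 1) : x * x = -1 := (X.sq x hx).resolve_left h

omit X in
theorem anti_anti {a b x : GL ι F} (ha : a * x = -(x * a)) (hb : b * x = -(x * b)) : a * b * x = x * (a * b) := by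
  rw [mul_assoc, hb, mul_neg, ← mul_assoc, ha, neg_mul, neg_neg, mul_assoc]

omit X in
theorem comm_anti {a b x : GL ι F} (ha : a * x = x * a) (hb : b * x = -(x * b)) : a * b * x = -(x * (a * b)) := by
  rw [mul_assoc, hb, mul_neg, ← mul_assoc, ha, mul_assoc]

omit X in
theorem anti_comm {a b x : GL ι F} (ha : a * x = -(x * a)) (hb : b * x = x * b) : a * b * x = -(x * (a * b)) := by
  rw [mul_assoc, hb, ← mul_assoc, ha, neg_mul, mul_assoc]

omit X in
theorem comm_comm {a b x : GL ι F} (ha : a * x = x * a) (hb : b * x = x * b) : a * b * x = x * (a * b) := by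
  rw [mul_assoc, hb, ← mul_assoc, ha, mul_assoc]

omit X in
theorem anti_symm {a b : GL ι F} (h : a * b = -(b * a)) : b * a = -(a * b) := by rw [h, neg_neg]

theorem half {C : Subgroup (GL ι F)} (hC : C ≤ R) {a : GL ι F} (ha : a ∈ R) :
    Nat.card C ≤ 2 * Nat.card ↥(C ⊓ centralizer {a}) := by
  classical
  haveI := X.fin
  haveI : Finite C := Finite.of_injective _ (inclusion_injective hC)
  haveI : Finite ↥(C ⊓ centralizer {a}) :=
    Finite.of_injective _ (inclusion_injective (inf_le_left : C ⊓ centralizer {a} ≤ C))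
  by_cases hall : ∀ r ∈ C, r * a = a * r
  · rw [show C ⊓ centralizer {a} = C from inf_eq_left.2 fun r hr => mem_centralizer_singleton_iff.2 (hall r hr)]
    omega
  push Not at hall
  obtain ⟨w, hw, hwa⟩ := hall
  have hw' : w * a = -(a * w) := (X.comm w (hC hw) a ha).resolve_left hwa
  let φ : C → Bool × ↥(C ⊓ centralizer {a}) := fun r =>
    if h : (r : GL ι F) * a = a * r then (false, ⟨r, r.2, mem_centralizer_singleton_iff.2 h⟩)
    else (true, ⟨(r : GL ι F) * w, mul_mem r.2 hw, mem_centralizer_singleton_iff.2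
      (anti_anti ((X.comm r (hC r.2) a ha).resolve_left h) hw')⟩)
  have hφ : Function.Injective φ := fun r r' e => by
    by_cases h : (r : GL ι F) * a = a * r <;> by_cases h' : (r' : GL ι F) * a = a * r' <;>
      simp [φ, h, h'] at e
    · exact Subtype.ext (Subtype.mk.inj e)
    · exact Subtype.ext (mul_right_cancel (Subtype.mk.inj e))
  have := Nat.card_le_card_of_injective φ hφ
  rwa [Nat.card_prod, show Nat.card Bool = 2 by simp] at this

theorem trace0 {x : GL ι F} (hx : x ∈ R) (hn : ¬ PM x 1) : (x : M).trace = 0 := by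
  obtain ⟨r, -, hr⟩ := X.anti hx hn
  have h1 : ((r : M) * x * (r⁻¹ : GL ι F).1).trace = (x : M).trace := by
    rw [Matrix.trace_mul_comm, ← Matrix.mul_assoc, Units.inv_mul, Matrix.one_mul]
  rw [show (r : M) * x = -((x : M) * r) from congrArg Units.val hr, Matrix.neg_mul, Matrix.mul_assoc, Units.mul_inv,
    Matrix.mul_one, Matrix.trace_neg] at h1
  exact mul_left_cancel₀ X.two (by rw [mul_zero]; linear_combination -h1)

theorem cent_all {c q : GL ι F} (hc : IZ R c) (hq : q ∈ R) (h : ∀ r ∈ R, r * c = c * r → r * q = q * r) :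
    PM q 1 ∨ PM q c := by
  obtain ⟨r₀, hr₀, hr₀c⟩ := X.anti hc.1 hc.2.2
  obtain ⟨q', hq', hr₀q, hqq, hq'c⟩ : ∃ q', q' ∈ R ∧ r₀ * q' = q' * r₀ ∧ (q = q' ∨ q = q' * c) ∧
      ∀ r ∈ R, r * c = c * r → r * q' = q' * r := by
    rcases X.comm r₀ hr₀ q hq with e | e
    · exact ⟨q, hq, e, Or.inl rfl, h⟩
    · exact ⟨q * c, mul_mem hq hc.1, (anti_anti (anti_symm e) (anti_symm hr₀c)).symm,
        Or.inr (by rw [mul_assoc, hc.2.1, mul_one]),
        fun r hr hrc => (comm_comm (h r hr hrc).symm hrc.symm).symm⟩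
  have hcen := X.central hq' fun y hy => by
    rcases X.comm y hy c hc.1 with e | e
    · exact (hq'c y hy e).symm
    · have e2 := hq'c (y * r₀) (mul_mem hy hr₀) (anti_anti e hr₀c)
      rw [mul_assoc, hr₀q, ← mul_assoc, ← mul_assoc] at e2
      exact (mul_right_cancel e2).symm
  rcases hqq with rfl | rfl
  · exact Or.inl hcen
  · exact Or.inr (by have := hcen.mul (PM.refl c); rwa [one_mul] at this)

/-- An element commuting with `c` and anticommuting with `q`. -/
theorem exists_anti_cent {c q : GL ι F} (hc : IZ R c) (hq : q ∈ R) (h1 : ¬ PM q 1) (h2 : ¬ PM q c) :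
    ∃ r ∈ R, r * c = c * r ∧ r * q = -(q * r) := by
  by_contra! hh
  rcases X.cent_all hc hq fun r hr hrc => (X.comm r hr q hq).resolve_right (hh r hr hrc) with e | e
  exacts [h1 e, h2 e]

theorem cent_all2 {c d q : GL ι F} (hc : IZ R c) (hd : IZ R d) (hn : ¬ PM d c) (hq : q ∈ R)
    (h : ∀ r ∈ R, r * c = c * r → r * d = d * r → r * q = q * r) :
    PM q 1 ∨ PM q c ∨ PM q d ∨ PM q (c * d) := by
  obtain ⟨r₁, hr₁, hr₁c, hr₁d⟩ := X.exists_anti_cent hc hd.1 hd.2.2 hn
  obtain ⟨q', hq', hqq, hr₁q, hcomm⟩ : ∃ q', q' ∈ R ∧ (q = q' ∨ q = q' * d) ∧ r₁ * q' = q' * r₁ ∧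
      ∀ r ∈ R, r * c = c * r → r * d = d * r → r * q' = q' * r := by
    rcases X.comm r₁ hr₁ q hq with e | e
    · exact ⟨q, hq, Or.inl rfl, e, h⟩
    · exact ⟨q * d, mul_mem hq hd.1, Or.inr (by rw [mul_assoc, hd.2.1, mul_one]),
        (anti_anti (anti_symm e) (anti_symm hr₁d)).symm,
        fun r hr hrc hrd => (comm_comm (h r hr hrc hrd).symm hrd.symm).symm⟩
  have hall : ∀ r ∈ R, r * c = c * r → r * q' = q' * r := fun r hr hrc => by
    rcases X.comm r hr d hd.1 with e | e
    · exact hcomm r hr hrc e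
    · have e2 := hcomm (r * r₁) (mul_mem hr hr₁) (comm_comm hrc hr₁c) (anti_anti e hr₁d)
      rw [mul_assoc, hr₁q, ← mul_assoc, ← mul_assoc] at e2
      exact mul_right_cancel e2
  rcases X.cent_all hc hq' hall with e | e <;> rcases hqq with rfl | rfl
  · exact Or.inl e
  · exact Or.inr (Or.inr (Or.inl (by have := e.mul (PM.refl d); rwa [one_mul] at this)))
  · exact Or.inr (Or.inl e)
  · exact Or.inr (Or.inr (Or.inr (e.mul (PM.refl d))))

theorem kill {r g : GL ι F} {P : M} {δ : F} (hδ : δ ≠ 0) (hrg : r * g = -(g * r))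
    (hrP : (r : M) * P = P * r) (h : (g : M) * P = δ • P) : P = 0 := by
  have e1 : (r : M) * g * P = δ • ((r : M) * P) := by rw [Matrix.mul_assoc, h, Matrix.mul_smul]
  have e2 : (g : M) * r * P = δ • ((r : M) * P) := by
    rw [Matrix.mul_assoc, hrP, ← Matrix.mul_assoc, h, Matrix.smul_mul]
  rw [show (r : M) * g = -((g : M) * r) from congrArg Units.val hrg, Matrix.neg_mul, e2] at e1
  have h4 : ((2 : F) * δ) • ((r : M) * P) = 0 := by
    rw [mul_smul, two_smul]; nth_rw 1 [← e1]; exact neg_add_cancel _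
  have h5 := (smul_eq_zero.1 h4).resolve_left (mul_ne_zero X.two hδ)
  have h6 := congrArg (fun y => (r⁻¹ : GL ι F).1 * y) h5
  simpa [← Matrix.mul_assoc] using h6

theorem agree1 {c g : GL ι F} (hc : IZ R c) (hg : g ∈ R) {δ : F} (hδ : δ ≠ 0)
    (h : (g : M) * Extra.plus c = δ • Extra.plus c) : PM g 1 ∨ PM g c :=
  X.cent_all hc hg fun r hr hrc => (X.comm r hr g hg).resolve_right fun e =>
    plus_ne_zero hc (X.kill hδ e (plus_comm hrc).1 h)

theorem plus2_ne {c d : GL ι F} (hc : IZ R c) (hd : IZ R d) (hn : ¬ PM d c) :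
    Extra.plus c * Extra.plus d ≠ 0 := fun h => by
  have e := congrArg Matrix.trace h
  have hcd : ¬ PM (c * d) 1 := fun e => hn (by
    have := (PM.refl c).mul e
    rwa [← mul_assoc, hc.2.1, one_mul, mul_one] at this)
  simp only [Extra.plus, Matrix.mul_add, Matrix.add_mul, Matrix.one_mul, Matrix.mul_one, Matrix.trace_add,
    Matrix.trace_one, Matrix.trace_zero, ← Units.val_mul, X.trace0 hc.1 hc.2.2, X.trace0 hd.1 hd.2.2,
    X.trace0 (mul_mem hc.1 hd.1) hcd, add_zero] at e
  exact X.ncard e

theorem agree2 {c d g : GL ι F} (hc : IZ R c) (hd : IZ R d) (hn : ¬ PM d c) (hg : g ∈ R) {δ : F} (hδ : δ ≠ 0)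
    (h : (g : M) * (Extra.plus c * Extra.plus d) = δ • (Extra.plus c * Extra.plus d)) :
    PM g 1 ∨ PM g c ∨ PM g d ∨ PM g (c * d) :=
  X.cent_all2 hc hd hn hg fun r hr hrc hrd => (X.comm r hr g hg).resolve_right fun e =>
    X.plus2_ne hc hd hn (X.kill hδ e (by
      rw [← Matrix.mul_assoc, (plus_comm hrc).1, Matrix.mul_assoc, (plus_comm hrd).1, ← Matrix.mul_assoc]) h)

theorem cent_two_sq {e r : GL ι F} (he : e ∈ R) (hr : r ∈ R) (hre : r * e = -(e * r)) :
    ∃ k ∈ R, k * e = e * k ∧ k * r = r * k ∧ k * k ≠ 1 := by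
  by_contra! hh
  let C := R ⊓ centralizer {e} ⊓ centralizer {r}
  have memC : ∀ {k}, k ∈ C ↔ k ∈ R ∧ k * e = e * k ∧ k * r = r * k := fun {k} => by
    simp only [C, mem_inf, mem_centralizer_singleton_iff, and_assoc]
  have habel : ∀ x ∈ C, ∀ y ∈ C, x * y = y * x := fun x hx y hy => by
    have hi : ∀ w ∈ C, w⁻¹ = w := fun w hw =>
      inv_eq_of_mul_eq_one_right (hh w (memC.1 hw).1 (memC.1 hw).2.1 (memC.1 hw).2.2)
    rw [← hi _ (mul_mem hx hy), _root_.mul_inv_rev, hi _ hx, hi _ hy]
  have hsmall : ∀ x ∈ C, PM x 1 := fun x hx => X.central (memC.1 hx).1 fun y hy => by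
    obtain ⟨hxR, hxe, hxr⟩ := memC.1 hx
    obtain ⟨y', hy', hye, hyy⟩ : ∃ y', y' ∈ R ∧ y' * e = e * y' ∧ (y = y' ∨ y = y' * r⁻¹) := by
      rcases X.comm y hy e he with e1 | e1
      · exact ⟨y, hy, e1, Or.inl rfl⟩
      · exact ⟨y * r, mul_mem hy hr, anti_anti e1 hre, Or.inr (by rw [mul_inv_cancel_right])⟩
    obtain ⟨y'', hy'', hyy'⟩ : ∃ y'', y'' ∈ C ∧ (y' = y'' ∨ y' = y'' * e⁻¹) := by
      rcases X.comm y' hy' r hr with e1 | e1
      · exact ⟨y', memC.2 ⟨hy', hye, e1⟩, Or.inl rfl⟩
      · exact ⟨y' * e, memC.2 ⟨mul_mem hy' he, comm_comm hye rfl, anti_anti e1 (anti_symm hre)⟩,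
          Or.inr (by rw [mul_inv_cancel_right])⟩
    have k1 : x * y'' = y'' * x := habel x hx y'' hy''
    have k2 : x * r⁻¹ = r⁻¹ * x := (Commute.inv_right (show Commute x r from hxr)).eq
    have k3 : x * e⁻¹ = e⁻¹ * x := (Commute.inv_right (show Commute x e from hxe)).eq
    rcases hyy with rfl | rfl <;> rcases hyy' with rfl | rfl
    · exact k1
    · exact Commute.mul_right k1 k3
    · exact Commute.mul_right k1 k2
    · exact Commute.mul_right (Commute.mul_right k1 k3) k2
  haveI := X.fin
  have hle : Nat.card C ≤ 2 := by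
    classical
    let φ : C → Bool := fun x => decide ((x : GL ι F) = 1)
    refine (Nat.card_le_card_of_injective φ fun x y h => Subtype.ext ?_).trans (by simp)
    have h' : (x : GL ι F) = 1 ↔ (y : GL ι F) = 1 := decide_eq_decide.1 h
    rcases hsmall x x.2 with hx | hx <;> rcases hsmall y y.2 with hy | hy
    · rw [hx, hy]
    · exact absurd ((h'.1 hx).symm.trans hy) X.one_ne_neg
    · exact absurd ((h'.2 hy).symm.trans hx) X.one_ne_neg
    · rw [hx, hy]
  have h1 := X.half le_rfl he
  have h3 := X.half (inf_le_left : R ⊓ centralizer {e} ≤ R) hr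
  have := X.order
  change Nat.card ↥(R ⊓ centralizer {e}) ≤ 2 * Nat.card C at h3
  omega

theorem exists_iz_anti {e : GL ι F} (he : e ∈ R) (hn : ¬ PM e 1) : ∃ w, IZ R w ∧ w * e = -(e * w) := by
  obtain ⟨g, hg, hge⟩ := X.anti he hn
  by_cases hg2 : g * g = 1
  · exact ⟨g, ⟨hg, hg2, X.not_pm (anti_symm hge)⟩, hge⟩
  obtain ⟨k, hk, hke, hkg, hk2⟩ := X.cent_two_sq he hg hge
  have h3 : g * k * e = -(e * (g * k)) := anti_comm hge hke
  refine ⟨g * k, ⟨mul_mem hg hk, ?_, X.not_pm (anti_symm h3)⟩, h3⟩
  rw [show g * k * (g * k) = g * (k * g) * k by group, hkg, show g * (g * k) * k = g * g * (k * k) by group,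
    X.sq_neg hg hg2, X.sq_neg hk hk2, neg_mul_neg, one_mul]

/-- The elementary abelian group has an element commuting with two given ones and outside their span. -/
theorem exists_in (c q : GL ι F) (hc : c ∈ R) (hq : q ∈ R) :
    ∃ A ≤ R, (∀ x ∈ A, x * x = 1) ∧ ∃ a ∈ A, IZ R a ∧ a * c = c * a ∧ a * q = q * a ∧
      ¬ PM a c ∧ ¬ PM a q ∧ ¬ PM a (c * q) := by
  classical
  obtain ⟨A, hAR, hA2, hA⟩ := X.plus
  refine ⟨A, hAR, hA2, ?_⟩
  haveI := X.fin
  haveI : Finite A := Finite.of_injective _ (inclusion_injective hAR)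
  have habel : ∀ x ∈ A, ∀ y ∈ A, x * y = y * x := fun x hx y hy => by
    have hi : ∀ w ∈ A, w⁻¹ = w := fun w hw => inv_eq_of_mul_eq_one_right (hA2 w hw)
    rw [← hi _ (mul_mem hx hy), _root_.mul_inv_rev, hi _ hx, hi _ hy]
  have h16 : 16 ≤ Nat.card A := by
    by_contra h
    have := X.order
    have : Nat.card A ^ 2 ≤ 15 ^ 2 := Nat.pow_le_pow_left (by omega) 2
    omega
  let C := A ⊓ centralizer {c} ⊓ centralizer {q}
  have memC : ∀ {a}, a ∈ C ↔ a ∈ A ∧ a * c = c * a ∧ a * q = q * a := fun {a} => by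
    simp only [C, mem_inf, mem_centralizer_singleton_iff, and_assoc]
  by_contra! hh
  let L : List (GL ι F) := [1, -1, c, -c, q, -q, c * q, -(c * q)]
  have hS : ∀ x ∈ C, PM x 1 ∨ PM x c ∨ PM x q ∨ PM x (c * q) := fun x hx => by
    obtain ⟨hxA, h1, h3⟩ := memC.1 hx
    by_cases h4 : PM x 1
    · exact Or.inl h4
    by_cases h5 : PM x c
    · exact Or.inr (Or.inl h5)
    by_cases h6 : PM x q
    · exact Or.inr (Or.inr (Or.inl h6))
    exact Or.inr (Or.inr (Or.inr (hh x hxA ⟨hAR hxA, hA2 x hxA, h4⟩ h1 h3 h5 h6)))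
  have hmem : ∀ x : C, (x : GL ι F) ∈ L.toFinset := fun x => by
    rw [List.mem_toFinset]
    rcases hS x x.2 with e | e | e | e <;> rcases e with e | e <;> rw [e] <;> simp [L]
  haveI : Finite C := Finite.of_injective _ (inclusion_injective ((inf_le_left.trans inf_le_left : C ≤ A).trans hAR))
  have hinj : Function.Injective fun x : C => (⟨x, hmem x⟩ : L.toFinset) :=
    fun x y e => Subtype.ext (congrArg (fun u : L.toFinset => (u : GL ι F)) e)
  have hC8 : Nat.card C ≤ 8 := by
    have := Nat.card_le_card_of_injective _ hinj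
    rw [Nat.card_eq_finsetCard] at this
    exact this.trans (List.toFinset_card_le L)
  have h1 := X.half hAR hc
  have h3 := X.half (inf_le_left.trans hAR : A ⊓ centralizer {c} ≤ R) hq
  change Nat.card ↥(A ⊓ centralizer {c}) ≤ 2 * Nat.card C at h3
  obtain ⟨w, hw, hwn⟩ : ∃ w ∈ C, ¬ PM w 1 := by
    by_contra! hall
    have : Nat.card C ≤ 2 := by
      let φ : C → Bool := fun x => decide ((x : GL ι F) = 1)
      refine (Nat.card_le_card_of_injective φ fun x y h => Subtype.ext ?_).trans (by simp)
      have h' : (x : GL ι F) = 1 ↔ (y : GL ι F) = 1 := decide_eq_decide.1 h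
      rcases hall x x.2 with hx | hx <;> rcases hall y y.2 with hy | hy
      · rw [hx, hy]
      · exact absurd ((h'.1 hx).symm.trans hy) X.one_ne_neg
      · exact absurd ((h'.2 hy).symm.trans hx) X.one_ne_neg
      · rw [hx, hy]
    omega
  have hwA := (memC.1 hw).1
  have hpm : ∀ {x y z : GL ι F}, PM x y → z * x = x * z → z * y = y * z := fun {x y z} e hz => by
    rcases e with rfl | rfl
    · exact hz
    · simpa [mul_neg, neg_mul] using hz
  -- one centraliser is superfluous
  have hC_ge : A ⊓ centralizer {c} ≤ C ∨ A ⊓ centralizer {q} ≤ C := by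
    rcases hS w hw with e | e | e | e
    · exact absurd e hwn
    · exact Or.inr fun a ha => memC.2 ⟨ha.1, hpm e (habel a ha.1 w hwA), mem_centralizer_singleton_iff.1 ha.2⟩
    · exact Or.inl fun a ha => memC.2 ⟨ha.1, mem_centralizer_singleton_iff.1 ha.2, hpm e (habel a ha.1 w hwA)⟩
    · refine Or.inl fun a ha => memC.2 ⟨ha.1, mem_centralizer_singleton_iff.1 ha.2, ?_⟩
      have h5 : a * (c * q) = c * q * a := hpm e (habel a ha.1 w hwA)
      rw [← mul_assoc, mem_centralizer_singleton_iff.1 ha.2, mul_assoc, mul_assoc] at h5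
      exact mul_left_cancel h5
  haveI : Finite ↥(A ⊓ centralizer {c}) := Finite.of_injective _ (inclusion_injective (inf_le_left.trans hAR))
  have hC8' : 8 ≤ Nat.card C := by
    rcases hC_ge with h | h
    · have := Nat.card_le_card_of_injective _ (inclusion_injective h)
      omega
    · have := Nat.card_le_card_of_injective _ (inclusion_injective h)
      have := X.half hAR hq
      omega
  have hmemC : ∀ y : GL ι F, y ∈ L.toFinset → y ∈ C := fun y hy => by
    haveI := Fintype.ofFinite C
    have hcard : Fintype.card C = Fintype.card L.toFinset := by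
      rw [Fintype.card_coe, ← Nat.card_eq_fintype_card]
      have := List.toFinset_card_le L
      have hL : L.length = 8 := rfl
      have h9 := Nat.card_le_card_of_injective _ hinj
      rw [Nat.card_eq_finsetCard] at h9
      omega
    obtain ⟨x, hx⟩ := ((Fintype.bijective_iff_injective_and_card _).2 ⟨hinj, hcard⟩).2 ⟨y, hy⟩
    rw [show y = (x : GL ι F) from (congrArg (fun u : L.toFinset => (u : GL ι F)) hx).symm]
    exact x.2
  have hcA := (memC.1 (hmemC c (by simp [L]))).1
  have hqA := (memC.1 (hmemC q (by simp [L]))).1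
  have : A ≤ C := fun a ha => memC.2 ⟨ha, habel a ha c hcA, habel a ha q hqA⟩
  have := Nat.card_le_card_of_injective _ (inclusion_injective this)
  omega

/-- An element commuting with the centraliser of a list of elements lies in the group they generate. -/
theorem bicentral (L : List (GL ι F)) (hL : ∀ l ∈ L, l ∈ R) :
    ∀ x ∈ R, (∀ r ∈ R, (∀ l ∈ L, r * l = l * r) → r * x = x * r) →
      x ∈ closure (insert (-1) {l | l ∈ L}) := by
  induction L with
  | nil =>
    intro x hx h
    rcases X.central hx fun y hy => (h y hy (by simp)).symm with rfl | rfl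
    · exact one_mem _
    · exact subset_closure (Set.mem_insert _ _)
  | cons l L ih =>
    intro x hx h
    have hl := hL l List.mem_cons_self
    have hL' := fun m hm => hL m (List.mem_cons_of_mem _ hm)
    have hmono : closure (insert (-1) {m | m ∈ L}) ≤ closure (insert (-1 : GL ι F) {m | m ∈ l :: L}) :=
      closure_mono (Set.insert_subset_insert fun m hm => List.mem_cons_of_mem _ hm)
    by_cases hall : ∀ r ∈ R, (∀ m ∈ L, r * m = m * r) → r * l = l * r
    · exact hmono (ih hL' x hx fun r hr hrL => h r hr fun m hm => by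
        rcases List.mem_cons.1 hm with rfl | hm
        exacts [hall r hr hrL, hrL m hm])
    push Not at hall
    obtain ⟨y, hy, hyL, hyl⟩ := hall
    have hyl' := (X.comm y hy l hl).resolve_left hyl
    have hsplit : ∀ x' ∈ R, y * x' = x' * y → (∀ r ∈ R, (∀ m ∈ l :: L, r * m = m * r) → r * x' = x' * r) →
        x' ∈ closure (insert (-1 : GL ι F) {m | m ∈ l :: L}) := fun x' hx' hyx' h' =>
      hmono (ih hL' x' hx' fun r hr hrL => by
        rcases X.comm r hr l hl with e | e
        · exact h' r hr fun m hm => by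
            rcases List.mem_cons.1 hm with rfl | hm
            exacts [e, hrL m hm]
        · have e2 := h' (r * y) (mul_mem hr hy) fun m hm => by
            rcases List.mem_cons.1 hm with rfl | hm
            exacts [anti_anti e hyl', comm_comm (hrL m hm) (hyL m hm)]
          rw [mul_assoc, hyx', ← mul_assoc, ← mul_assoc] at e2
          exact mul_right_cancel e2)
    rcases X.comm y hy x hx with e | e
    · exact hsplit x hx e h
    · have h3 := hsplit (x * l) (mul_mem hx hl) (anti_anti (anti_symm e) (anti_symm hyl')).symm fun r hr hrm =>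
        (comm_comm (h r hr hrm).symm (hrm l List.mem_cons_self).symm).symm
      have h4 := mul_mem h3 (inv_mem (subset_closure (Set.mem_insert_of_mem _ List.mem_cons_self) :
        l ∈ closure (insert (-1 : GL ι F) {m | m ∈ l :: L})))
      rwa [mul_inv_cancel_right] at h4

theorem elem_sq {C : Subgroup (GL ι F)} (hC : C ≤ R) (h2 : ∀ x ∈ C, x * x = 1) :
    Nat.card C ^ 2 ≤ 2 * Nat.card R := by
  classical
  haveI := X.fin
  haveI : Finite C := Finite.of_injective _ (inclusion_injective hC)
  have habel : ∀ x ∈ C, ∀ y ∈ C, x * y = y * x := fun x hx y hy => by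
    have hi : ∀ w ∈ C, w⁻¹ = w := fun w hw => inv_eq_of_mul_eq_one_right (h2 w hw)
    rw [← hi _ (mul_mem hx hy), _root_.mul_inv_rev, hi _ hx, hi _ hy]
  let G : List (GL ι F) → Subgroup (GL ι F) := fun L => closure (insert (-1) {l | l ∈ L})
  let K : List (GL ι F) → Subgroup (GL ι F) := fun L => R ⊓ centralizer {l | l ∈ L}
  have memK : ∀ {L r}, r ∈ K L ↔ r ∈ R ∧ ∀ l ∈ L, r * l = l * r := fun {L r} => by
    simp only [K, mem_inf, mem_centralizer_iff, Set.mem_setOf_eq, eq_comm]
  have hGR : ∀ L, (∀ l ∈ L, l ∈ C) → G L ≤ R := fun L hL => (closure_le _).2 (Set.insert_subset X.neg fun l hl =>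
    hC (hL l hl))
  have key : ∀ L : List (GL ι F), (∀ l ∈ L, l ∈ C) → Nat.card (G L) * Nat.card (K L) ≤ 2 * Nat.card R := by
    intro L hL
    induction L with
    | nil =>
      have hG : Nat.card (G []) ≤ 2 := by
        have hpm : ∀ x ∈ G [], x = 1 ∨ x = -1 := fun x hx => by
          induction hx using closure_induction with
          | mem y hy =>
            rcases hy with rfl | hy
            exacts [Or.inr rfl, absurd hy (by simp)]
          | one => exact Or.inl rfl
          | mul a b _ _ ha hb => rcases ha with rfl | rfl <;> rcases hb with rfl | rfl <;> simp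
          | inv a _ ha => rcases ha with rfl | rfl <;> simp
        let φ : G [] → Bool := fun x => decide ((x : GL ι F) = 1)
        refine (Nat.card_le_card_of_injective φ fun x y h => Subtype.ext ?_).trans (by simp)
        have h' : (x : GL ι F) = 1 ↔ (y : GL ι F) = 1 := decide_eq_decide.1 h
        rcases hpm x x.2 with hx | hx <;> rcases hpm y y.2 with hy | hy
        · rw [hx, hy]
        · exact absurd ((h'.1 hx).symm.trans hy) X.one_ne_neg
        · exact absurd ((h'.2 hy).symm.trans hx) X.one_ne_neg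
        · rw [hx, hy]
      exact Nat.mul_le_mul hG (Nat.card_le_card_of_injective _ (inclusion_injective inf_le_left))
    | cons l L ih =>
      have hlC := hL l List.mem_cons_self
      have hL' := fun m hm => hL m (List.mem_cons_of_mem _ hm)
      haveI : Finite (G L) := Finite.of_injective _ (inclusion_injective (hGR L hL'))
      haveI : Finite (G (l :: L)) := Finite.of_injective _ (inclusion_injective (hGR _ hL))
      haveI : Finite (K L) := Finite.of_injective _ (inclusion_injective (inf_le_left : K L ≤ R))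
      haveI : Finite (K (l :: L)) := Finite.of_injective _ (inclusion_injective (inf_le_left : K (l :: L) ≤ R))
      have hKle : K (l :: L) ≤ K L := fun r hr =>
        memK.2 ⟨(memK.1 hr).1, fun m hm => (memK.1 hr).2 m (List.mem_cons_of_mem _ hm)⟩
      by_cases hl : l ∈ G L
      · have hle : G (l :: L) ≤ G L := (closure_le _).2 (Set.insert_subset
          (subset_closure (Set.mem_insert _ _)) fun m hm => by
            rcases List.mem_cons.1 hm with rfl | hm
            exacts [hl, subset_closure (Set.mem_insert_of_mem _ hm)])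
        exact le_trans (Nat.mul_le_mul (Nat.card_le_card_of_injective _ (inclusion_injective hle))
          (Nat.card_le_card_of_injective _ (inclusion_injective hKle))) (ih hL')
      obtain ⟨y, hy, hyl⟩ : ∃ y ∈ K L, y * l = -(l * y) := by
        by_contra! hno
        exact hl (X.bicentral L (fun m hm => hC (hL' m hm)) l (hC hlC) fun r hr hrL =>
          (X.comm r hr l (hC hlC)).resolve_right (hno r (memK.2 ⟨hr, hrL⟩)))
      have hll : l * l = 1 := h2 l hlC
      have hlG : ∀ x ∈ G L, x * l = l * x := fun x hx => by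
        induction hx using closure_induction with
        | mem z hz =>
          rcases hz with rfl | hz
          exacts [by simp, habel z (hL' z hz) l hlC]
        | one => simp
        | mul a b _ _ ha hb => exact comm_comm ha hb
        | inv a _ ha => exact (Commute.inv_left (show Commute a l from ha)).eq
      have hG : Nat.card (G (l :: L)) ≤ 2 * Nat.card (G L) := by
        have hT : ∀ b, b * l ∈ G L → b * l = l * b := fun b hb => by
          have h5 := comm_comm (hlG _ hb) (rfl : l * l = l * l)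
          rwa [mul_assoc b l l, hll, mul_one] at h5
        let T : Subgroup (GL ι F) :=
          { carrier := {x | x ∈ G L ∨ x * l ∈ G L}
            one_mem' := Or.inl (one_mem _)
            mul_mem' := fun {a b} ha hb => by
              rcases ha with ha | ha <;> rcases hb with hb | hb
              · exact Or.inl (mul_mem ha hb)
              · exact Or.inr (by rw [mul_assoc]; exact mul_mem ha hb)
              · exact Or.inr (by rw [mul_assoc, hlG b hb, ← mul_assoc]; exact mul_mem ha hb)
              · refine Or.inl ?_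
                have := mul_mem ha hb
                rwa [show a * l * (b * l) = a * (l * b) * l by group, ← hT b hb, ← mul_assoc a b l, mul_assoc _ l l,
                  hll, mul_one] at this
            inv_mem' := fun {a} ha => by
              rcases ha with ha | ha
              · exact Or.inl (inv_mem ha)
              · refine Or.inr ?_
                have h5 := inv_mem ha
                rw [hT a ha, _root_.mul_inv_rev, inv_eq_of_mul_eq_one_right hll] at h5
                exact h5 }
        have hle : G (l :: L) ≤ T := (closure_le _).2 (Set.insert_subset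
          (Or.inl (subset_closure (Set.mem_insert _ _))) fun m hm => by
            rcases List.mem_cons.1 hm with rfl | hm
            · exact Or.inr (by rw [hll]; exact one_mem _)
            · exact Or.inl (subset_closure (Set.mem_insert_of_mem _ hm)))
        let φ : G (l :: L) → Bool × G L := fun x => if h : (x : GL ι F) ∈ G L then (false, ⟨x, h⟩)
          else (true, ⟨(x : GL ι F) * l, (hle x.2).resolve_left h⟩)
        have hφ : Function.Injective φ := fun x y e => by
          by_cases h : (x : GL ι F) ∈ G L <;> by_cases h' : (y : GL ι F) ∈ G L <;> simp [φ, h, h'] at e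
          · exact e
          · exact e
        have := Nat.card_le_card_of_injective φ hφ
        rwa [Nat.card_prod, show Nat.card Bool = 2 by simp] at this
      have hK : 2 * Nat.card (K (l :: L)) ≤ Nat.card (K L) := by
        let ψ : Bool × K (l :: L) → K L := fun x => ⟨if x.1 then (x.2 : GL ι F) * y else x.2, by
          split_ifs
          exacts [mul_mem (hKle x.2.2) hy, hKle x.2.2]⟩
        have hψ : Function.Injective ψ := fun x x' e => by
          obtain ⟨i, a⟩ := x
          obtain ⟨i', a'⟩ := x'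
          have e' : (if i then (a : GL ι F) * y else a) = if i' then (a' : GL ι F) * y else a' :=
            congrArg Subtype.val e
          have hal : ∀ u : K (l :: L), (u : GL ι F) * l = l * u := fun u => (memK.1 u.2).2 l List.mem_cons_self
          have hbad : ∀ u v : K (l :: L), (u : GL ι F) * y ≠ v := fun u v h => by
            have h1 : (u : GL ι F) * y * l = -(l * ((u : GL ι F) * y)) := comm_anti (hal u) hyl
            rw [h, hal v] at h1
            exact X.ne_neg _ h1
          cases i <;> cases i' <;> simp at e'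
          · exact Prod.ext rfl e'
          · exact absurd e'.symm (hbad a' a)
          · exact absurd e' (hbad a a')
          · exact Prod.ext rfl e'
        have := Nat.card_le_card_of_injective ψ hψ
        rwa [Nat.card_prod, show Nat.card Bool = 2 by simp] at this
      calc Nat.card (G (l :: L)) * Nat.card (K (l :: L)) ≤ 2 * Nat.card (G L) * Nat.card (K (l :: L)) :=
            Nat.mul_le_mul_right _ hG
        _ = Nat.card (G L) * (2 * Nat.card (K (l :: L))) := by ring
        _ ≤ Nat.card (G L) * Nat.card (K L) := Nat.mul_le_mul_left _ hK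
        _ ≤ _ := ih hL'
  obtain ⟨L, hmem⟩ : ∃ L : List (GL ι F), ∀ x, x ∈ L ↔ x ∈ C := by
    haveI := Fintype.ofFinite C
    exact ⟨(Finset.univ : Finset C).toList.map Subtype.val, fun x => by simp⟩
  have hCG : C ≤ G L := fun x hx => subset_closure (Set.mem_insert_of_mem _ ((hmem x).2 hx))
  have hCK : C ≤ K L := fun x hx => memK.2 ⟨hC hx, fun l hl => habel x hx l ((hmem l).1 hl)⟩
  haveI : Finite (G L) := Finite.of_injective _ (inclusion_injective (hGR L fun l hl => (hmem l).1 hl))
  haveI : Finite (K L) := Finite.of_injective _ (inclusion_injective (inf_le_left : K L ≤ R))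
  rw [pow_two]
  exact le_trans (Nat.mul_le_mul (Nat.card_le_card_of_injective _ (inclusion_injective hCG))
    (Nat.card_le_card_of_injective _ (inclusion_injective hCK))) (key L fun l hl => (hmem l).1 hl)

theorem ext (h512 : 512 ≤ Nat.card R) : Ext R := by
  refine ⟨X.two, X.ncard, X.fin, X.neg, X.comm, X.sq, fun x hx => X.central hx, X.irr, fun C hC h2 => ?_, X.order⟩
  have := X.elem_sq hC h2
  nlinarith

theorem root_norm {c e : GL ι F} (hc : IZ R c) (he : e ∈ R) (hec : e * c = c * e) :
    root c e ∈ normalizer (R : Set (GL ι F)) := by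
  haveI := X.fin
  have h2 := X.two
  have hei : e⁻¹ * c = c * e⁻¹ := (Commute.inv_left (show Commute e c from hec)).eq
  have key : ∀ r ∈ R, root c e * r * (root c e)⁻¹ ∈ R := fun r hr => by
    rw [root_inv h2 hc.2.1 hec,
      show root c e * r * root c e⁻¹ = root c e * (r * root c e⁻¹ * r⁻¹) * r by group, root_conj h2 hc.2.1 hei]
    refine mul_mem ?_ hr
    have hconj : ∀ {x}, x ∈ R → r * x * r⁻¹ = x ∨ r * x * r⁻¹ = -x := fun {x} hx => by
      rcases X.comm r hr x hx with e1 | e1
      · exact Or.inl (by rw [e1, mul_inv_cancel_right])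
      · exact Or.inr (by rw [e1, neg_mul, mul_inv_cancel_right])
    have hs : ∀ f, f = e⁻¹ ∨ f = -e⁻¹ → f * c = c * f ∧ PM (e * f) 1 := fun f hf => by
      rcases hf with rfl | rfl
      · exact ⟨hei, Or.inl (mul_inv_cancel e)⟩
      · exact ⟨by rw [neg_mul, hei, mul_neg], Or.inr (by rw [mul_neg, mul_inv_cancel])⟩
    have hroot : ∀ {f}, PM f 1 → root c f ∈ R := fun {f} hf => by
      rcases hf with rfl | rfl
      · rw [root_one h2 hc.2.1]; exact one_mem R
      · have hn : (-1 : GL ι F) * c = c * -1 := by simp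
        rw [show root c (-1 : GL ι F) = c from ?_]
        · exact hc.1
        refine Units.ext (ext_ag h2 (c := c) ?_ ?_) <;> rw [root_val h2 hc.2.1 hn]
        · rw [rootM_plus h2 hc.2.1]
          simp [Extra.plus, Matrix.mul_add, show (c : M) * c = 1 from congrArg Units.val hc.2.1, add_comm]
        · rw [rootM_minus h2 hc.2.1]
          simp [Extra.minus, Matrix.mul_sub, show (c : M) * c = 1 from congrArg Units.val hc.2.1]
    obtain ⟨hfc, hef⟩ := hs (r * e⁻¹ * r⁻¹) (hconj (inv_mem he))
    rcases hconj hc.1 with e1 | e1 <;> rw [e1]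
    · rw [root_mul h2 hc.2.1 hfc hec]
      exact hroot hef
    · obtain ⟨f, hf⟩ : ∃ f, f = r * e⁻¹ * r⁻¹ := ⟨_, rfl⟩
      rw [← hf] at hfc hef ⊢
      have hfi : f⁻¹ * c = c * f⁻¹ := (Commute.inv_left (show Commute f c from hfc)).eq
      have hfR : f ∈ R := hf ▸ mul_mem (mul_mem hr (inv_mem he)) (inv_mem hr)
      have hcomm : root c e * f = f * root c e := by
        have hef' : (f : M) * e = e * f := by
          refine congrArg Units.val (?_ : f * e = e * f)
          rcases hconj (inv_mem he) with e2 | e2 <;> rw [hf, e2] <;> simp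
        refine Units.ext ?_
        rw [Units.val_mul, Units.val_mul, root_val h2 hc.2.1 hec, rootM, Matrix.smul_mul, Matrix.mul_smul,
          Matrix.add_mul, Matrix.mul_add, Matrix.mul_assoc (e : M), ← (plus_comm hfc).2, ← Matrix.mul_assoc,
          ← Matrix.mul_assoc, hef', (plus_comm hfc).1]
      rw [show root (-c) f = f * (root c f)⁻¹ from eq_mul_inv_of_mul_eq (root_neg_mul h2 hc.2.1 hfc),
        root_inv h2 hc.2.1 hfc, ← mul_assoc, hcomm, mul_assoc, root_mul h2 hc.2.1 hfi hec]
      refine mul_mem hfR (hroot ?_)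
      -- the two exponents differ by a sign
      rcases hconj (inv_mem he) with e2 | e2 <;> rw [hf, e2]
      · rw [inv_inv]; exact X.sq e he
      · rw [neg_inv', inv_inv, mul_neg]; exact (PM.negl _).trans (X.sq e he)
  set φ := (MulAut.conj (root c e)).toMonoidHom with hφ
  have hmap : R.map φ = R := Subgroup.eq_of_le_of_card_ge (by rintro _ ⟨x, hx, rfl⟩; exact key x hx)
    (le_of_eq (Nat.card_congr (R.equivMapOfInjective φ (MulAut.conj (root c e)).injective).toEquiv))
  rw [Subgroup.mem_normalizer_iff]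
  refine fun x => ⟨fun hx => key x hx, fun hx => ?_⟩
  obtain ⟨x', hx', e'⟩ := (SetLike.ext_iff.1 hmap (root c e * x * (root c e)⁻¹)).2 hx
  rwa [← (MulAut.conj (root c e)).injective e']

theorem root_mem {c e : GL ι F} (hc : IZ R c) (he : e ∈ R) (hec : e * c = c * e) : root c e ∈ Og ι F := by
  have h2 := X.two
  rw [mem_Og h2, root_val h2 hc.2.1 hec]
  have hs : (c : M)ᵀ = c := symm_of_sq h2 (X.le hc.1) hc.2.1
  have hp : (Extra.plus c)ᵀ = Extra.plus c := by rw [Extra.plus, transpose_add, hs, transpose_one]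
  have hm : (Extra.minus c)ᵀ = Extra.minus c := by rw [Extra.minus, transpose_sub, hs, transpose_one]
  have het : (e : M)ᵀ * e = 1 := (mem_Og h2).1 (X.le he)
  refine ext_ag h2 (c := c) ?_ ?_
  · rw [Matrix.mul_assoc, rootM_plus h2 hc.2.1, Matrix.one_mul, rootM, transpose_smul, transpose_add,
      transpose_mul, hp, hm, Matrix.smul_mul, Matrix.add_mul, (plus_sq hc.2.1).1,
      show Extra.minus c * (e : M)ᵀ * Extra.plus c = 0 from ?_, add_zero, smul_smul, inv_mul_cancel₀ h2, one_smul]
    rw [← inv_eq_transpose h2 (X.le he), Matrix.mul_assoc,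
      (plus_comm (Commute.inv_left (show Commute e c from hec)).eq).1, ← Matrix.mul_assoc, (minus_plus hc.2.1).1,
      Matrix.zero_mul]
  · rw [Matrix.mul_assoc, rootM_minus h2 hc.2.1, Matrix.one_mul, rootM, transpose_smul, transpose_add,
      transpose_mul, hp, hm, Matrix.smul_mul, Matrix.add_mul, ← Matrix.mul_assoc, ← Matrix.mul_assoc,
      ← (plus_comm hec).1, Matrix.mul_assoc (e : M), (minus_plus hc.2.1).2, Matrix.mul_zero, zero_add,
      Matrix.mul_assoc (Extra.minus c), het, Matrix.mul_one, (plus_sq hc.2.1).2, smul_smul, inv_mul_cancel₀ h2,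
      one_smul]

omit X in
theorem root_neg_one (h2 : (2 : F) ≠ 0) {a : GL ι F} (haa : a * a = 1) : root a (-1) = a := by
  refine Units.ext (ext_ag h2 (c := a) ?_ ?_) <;> rw [root_val h2 haa (by simp)]
  · rw [rootM_plus h2 haa]
    simp [Extra.plus, Matrix.mul_add, show (a : M) * a = 1 from congrArg Units.val haa, add_comm]
  · rw [rootM_minus h2 haa]
    simp [Extra.minus, Matrix.mul_sub, show (a : M) * a = 1 from congrArg Units.val haa]

/-- The element `root a b` multiplies an element anticommuting with `b` by `a`. -/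
theorem root_shift {a b r : GL ι F} (ha : IZ R a) (hba : b * a = a * b) (hra : r * a = a * r)
    (hrb : r * b = -(b * r)) : root a b * r * (root a b)⁻¹ = a * r := by
  have h2 := X.two
  have hbi : b⁻¹ * a = a * b⁻¹ := (Commute.inv_left (show Commute b a from hba)).eq
  have hrb' : r * b⁻¹ * r⁻¹ = -b⁻¹ := by
    rw [← conj_inv, hrb, neg_mul, mul_inv_cancel_right, neg_inv']
  rw [root_inv h2 ha.2.1 hba, show root a b * r * root a b⁻¹ = root a b * (r * root a b⁻¹ * r⁻¹) * r by group,
    root_conj h2 ha.2.1 hbi, show r * a * r⁻¹ = a by rw [hra, mul_inv_cancel_right], hrb',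
    root_mul h2 ha.2.1 (by rw [neg_mul, hbi, mul_neg]) hba, mul_neg, mul_inv_cancel, root_neg_one h2 ha.2.1]

theorem iz_Om {a : GL ι F} (ha : IZ R a) : a ∈ Om ι F := by
  obtain ⟨A, -, -, b, -, hb, hba, -, hbn, -, -⟩ := X.exists_in a a ha.1 ha.1
  obtain ⟨r, hr, hra, hrb⟩ := X.exists_anti_cent ha hb.1 hb.2.2 hbn
  have h := comm_mem_Om (X.root_mem ha hb.1 hba) (X.le hr)
  rwa [X.root_shift ha hba hra hrb, mul_inv_cancel_right] at h

/-- The group lies in the commutator subgroup. -/
theorem le_Om : R ≤ Om ι F := fun e he => by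
  have hn1 : (-1 : GL ι F) ∈ Om ι F := by
    obtain ⟨A, -, -, b, -, hb, -⟩ := X.exists_in 1 1 (one_mem R) (one_mem R)
    obtain ⟨r, hr, hrb⟩ := X.anti hb.1 hb.2.2
    have h := comm_mem_Om (X.le hr) (X.le hb.1)
    rwa [hrb, neg_mul, neg_mul, mul_inv_cancel_right, mul_inv_cancel] at h
  by_cases hn : PM e 1
  · exact hn.mem hn1 (one_mem _)
  obtain ⟨w, hw, hwe⟩ := X.exists_iz_anti he hn
  by_cases he2 : e * e = 1
  · exact X.iz_Om ⟨he, he2, hn⟩
  have hiz : IZ R (e * w) := ⟨mul_mem he hw.1, by
    rw [show e * w * (e * w) = e * (w * e) * w by group, hwe, mul_neg, neg_mul,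
      show e * (e * w) * w = e * e * (w * w) by group, hw.2.1, mul_one, X.sq_neg he he2, neg_neg],
    fun h1 => he2 (by
      have h3 := h1.mul (PM.refl w)
      rw [mul_assoc, hw.2.1, mul_one, one_mul] at h3
      rw [h3.sq, hw.2.1])⟩
  have := mul_mem (X.iz_Om hiz) (X.iz_Om hw)
  rwa [mul_assoc, hw.2.1, mul_one] at this

/-- The elements trivial on one eigenspace and acting as an involution on the other are commutators. -/
theorem root_iz_Om {c a : GL ι F} (hc : IZ R c) (ha : IZ R a) (hac : a * c = c * a) (hacn : ¬ PM a c) :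
    root c a ∈ Om ι F := by
  have h2 := X.two
  obtain ⟨_, -, -, b, -, hb, hbc1, hba, hbc, hba', hbca⟩ := X.exists_in c a hc.1 ha.1
  obtain ⟨e, he, hec, hea, heb⟩ : ∃ r ∈ R, r * c = c * r ∧ r * a = a * r ∧ r * b = -(b * r) := by
    by_contra! hh
    rcases X.cent_all2 hc ha hacn hb.1 fun r hr h1 h3 =>
      (X.comm r hr b hb.1).resolve_right (hh r hr h1 h3) with h | h | h | h
    exacts [hb.2.2 h, hbc h, hba' h, hbca h]
  have hT := X.root_mem ha hb.1 hba
  have hs := X.root_mem hc he hec
  have hTc : c * root a b * c⁻¹ = root a b := by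
    rw [root_conj h2 ha.2.1 hba, show c * a * c⁻¹ = a by rw [← hac, mul_inv_cancel_right],
      show c * b * c⁻¹ = b by rw [← hbc1, mul_inv_cancel_right]]
  have hTc' : root a b * c * (root a b)⁻¹ = c :=
    mul_inv_eq_iff_eq_mul.2 (mul_inv_eq_iff_eq_mul.1 hTc).symm
  have hei : e⁻¹ * c = c * e⁻¹ := (Commute.inv_left (show Commute e c from hec)).eq
  have h := comm_mem_Om hT hs
  rw [show root a b * root c e * (root a b)⁻¹ * (root c e)⁻¹ = root a b * root c e * (root a b)⁻¹ * (root c e)⁻¹
      from rfl, root_conj h2 hc.2.1 hec, hTc', X.root_shift ha hba hea heb, root_inv h2 hc.2.1 hec,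
    root_mul h2 hc.2.1 hei (comm_comm hac hec), mul_inv_cancel_right] at h
  exact h

/-- A commutator acting as a non-trivial element of the group on one eigenspace only. -/
theorem exists_out {c : GL ι F} (hc : IZ R c) : ∃ y, y ∈ Om ι F ∧ y * c = c * y ∧ y ∉ R := by
  have h2 := X.two
  obtain ⟨_, -, -, a, -, ha, hac, -, hacn, -, -⟩ := X.exists_in c c hc.1 hc.1
  refine ⟨root c a, X.root_iz_Om hc ha hac hacn, root_comm h2 hc.2.1 hac, fun hy => ?_⟩
  have hp : (root c a : M) * Extra.plus c = (1 : F) • Extra.plus c := by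
    rw [root_val h2 hc.2.1 hac, rootM_plus h2 hc.2.1, one_smul]
  have hm : (root c a : M) * Extra.minus c = (a : M) * Extra.minus c := by
    rw [root_val h2 hc.2.1 hac, rootM_minus h2 hc.2.1]
  have hcm : (c : M) * Extra.minus c = -Extra.minus c := by
    simp [Extra.minus, Matrix.mul_sub, show (c : M) * c = 1 from congrArg Units.val hc.2.1]
  obtain ⟨δ, hδ, hδe⟩ : ∃ δ : F, δ ≠ 0 ∧ (a : M) * Extra.plus (-c) = δ • Extra.plus (-c) := by
    rw [plus_neg]
    rcases X.agree1 hc hy one_ne_zero hp with h1 | h1 <;> rcases h1 with h1 | h1 <;> rw [h1] at hm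
    · exact ⟨1, one_ne_zero, by rw [one_smul, ← hm, Units.val_one, Matrix.one_mul]⟩
    · exact ⟨-1, neg_ne_zero.2 one_ne_zero, by
        rw [neg_one_smul, ← hm, Units.val_neg, Units.val_one, Matrix.neg_mul, Matrix.one_mul]⟩
    · exact ⟨-1, neg_ne_zero.2 one_ne_zero, by rw [neg_one_smul, ← hm, hcm]⟩
    · exact ⟨1, one_ne_zero, by rw [one_smul, ← hm, Units.val_neg, Matrix.neg_mul, hcm, neg_neg]⟩
  rcases X.agree1 (c := -c) ⟨X.mem_pm (PM.negl c) hc.1, by rw [neg_mul_neg, hc.2.1],
    fun h1 => hc.2.2 ((PM.negl c).symm.trans h1)⟩ ha.1 hδ hδe with h1 | h1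
  · exact ha.2.2 h1
  · exact hacn (h1.trans (PM.negl c))

theorem root_Om (h512 : 512 ≤ Nat.card R) {c g : GL ι F} (hc : IZ R c) (hg : g ∈ R) (hgc : g * c = c * g) :
    root c g ∈ Om ι F := by
  have h2 := X.two
  have hinv : ∀ a ∈ R, a * a = 1 → a * c = c * a → root c a ∈ Om ι F := fun a ha haa hac => by
    have hcself : root c c = root c (-1) := by
      refine Units.ext ?_
      rw [root_val h2 hc.2.1 rfl, root_val h2 hc.2.1 (by simp), rootM, rootM]
      congr 2
      simp [Extra.minus, Matrix.mul_sub, show (c : M) * c = 1 from congrArg Units.val hc.2.1]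
    by_cases h1 : PM a 1
    · rcases h1 with rfl | rfl
      · rw [root_one h2 hc.2.1]; exact one_mem _
      · rw [root_neg_one h2 hc.2.1]; exact X.iz_Om hc
    by_cases h3 : PM a c
    · rcases h3 with rfl | rfl
      · rw [hcself, root_neg_one h2 hc.2.1]; exact X.iz_Om hc
      · rw [show root c (-c) = root c (-1) * root c c by
          rw [root_mul h2 hc.2.1 rfl (by simp), neg_one_mul], hcself, root_neg_one h2 hc.2.1, hc.2.1]
        exact one_mem _
    exact X.root_iz_Om hc ⟨ha, haa, h1⟩ hac h3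
  by_cases hgg : g * g = 1
  · exact hinv g hg hgg hgc
  have hg2 := X.sq_neg hg hgg
  have hn : ¬ PM g 1 := fun e => hgg (by rw [e.sq, one_mul])
  have hn' : ¬ PM g c := fun e => hgg (by rw [e.sq, hc.2.1])
  obtain ⟨q, hq, hqc, hqg⟩ := (X.ext h512).exists_iz_anti_cent hc hg hgc hn hn'
  have hqg2 : q * g * (q * g) = 1 := by
    rw [show q * g * (q * g) = q * (g * q) * g by group, anti_symm hqg, mul_neg, neg_mul,
      show q * (q * g) * g = q * q * (g * g) by group, hq.2.1, hg2, one_mul, neg_neg]
  have := mul_mem (hinv q hq.1 hq.2.1 hqc) (hinv (q * g) (mul_mem hq.1 hg) hqg2 (comm_comm hqc hgc))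
  rwa [root_mul h2 hc.2.1 (comm_comm hqc hgc) hqc, ← mul_assoc, hq.2.1, one_mul] at this

theorem root_cases {a b r : GL ι F} (ha : IZ R a) (hb : b ∈ R) (hba : b * a = a * b) (hr : r ∈ R) :
    PM (root a b * r * (root a b)⁻¹) r ∨ PM (root a b * r * (root a b)⁻¹) (a * r) ∨
      PM (root a b * r * (root a b)⁻¹) (b * r) ∨ PM (root a b * r * (root a b)⁻¹) (a * b * r) := by
  have h2 := X.two
  have hbi : b⁻¹ * a = a * b⁻¹ := (Commute.inv_left (show Commute b a from hba)).eq
  have hconj : ∀ {x}, x ∈ R → PM (r * x * r⁻¹) x := fun {x} hx => by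
    rcases X.comm r hr x hx with e | e
    · exact Or.inl (by rw [e, mul_inv_cancel_right])
    · exact Or.inr (by rw [e, neg_mul, mul_inv_cancel_right])
  obtain ⟨f, hf⟩ : ∃ f, f = r * b⁻¹ * r⁻¹ := ⟨_, rfl⟩
  have hfb : PM f b⁻¹ := hf ▸ hconj (inv_mem hb)
  have hfa : f * a = a * f := by
    rcases hfb with rfl | rfl
    exacts [hbi, by rw [neg_mul, hbi, mul_neg]]
  have hroot : ∀ {x}, PM x 1 → root a x = 1 ∨ root a x = a := fun {x} hx => by
    rcases hx with rfl | rfl
    exacts [Or.inl (root_one h2 ha.2.1), Or.inr (root_neg_one h2 ha.2.1)]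
  have e0 : root a b * r * (root a b)⁻¹ = root a b * root (r * a * r⁻¹) f * r := by
    rw [hf, ← root_conj h2 ha.2.1 hbi, ← root_inv h2 ha.2.1 hba]; group
  rw [e0]
  rcases hconj ha.1 with e1 | e1 <;> rw [e1]
  · rw [root_mul h2 ha.2.1 hfa hba]
    rcases hroot (x := b * f) (by have := (PM.refl b).mul hfb; rwa [mul_inv_cancel] at this) with e | e <;> rw [e]
    · exact Or.inl (by rw [one_mul]; exact PM.refl r)
    · exact Or.inr (Or.inl (PM.refl _))
  · have hfi : f⁻¹ * a = a * f⁻¹ := (Commute.inv_left (show Commute f a from hfa)).eq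
    have hfc : root a b * f = f * root a b := by
      have e : f * b = b * f := by rcases hfb with rfl | rfl <;> simp
      have e3 := root_conj h2 ha.2.1 hba f
      rw [show f * a * f⁻¹ = a by rw [hfa, mul_inv_cancel_right], show f * b * f⁻¹ = b by
        rw [e, mul_inv_cancel_right]] at e3
      exact (mul_inv_eq_iff_eq_mul.1 e3).symm
    rw [show root (-a) f = f * (root a f)⁻¹ from eq_mul_inv_of_mul_eq (root_neg_mul h2 ha.2.1 hfa),
      root_inv h2 ha.2.1 hfa, ← mul_assoc, hfc, mul_assoc f, root_mul h2 ha.2.1 hfi hba]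
    have hfb' : PM f b := by
      have h5 := (X.sq b hb).mul (PM.refl b⁻¹)
      rw [mul_inv_cancel_right, one_mul] at h5
      exact hfb.trans h5.symm
    have hbf : PM (b * f⁻¹) 1 := by
      have h5 := (PM.refl b).mul hfb.inv
      rw [inv_inv] at h5
      exact h5.trans (X.sq b hb)
    rcases hroot hbf with e | e <;> rw [e]
    · exact Or.inr (Or.inr (Or.inl (by rw [mul_one]; exact hfb'.mul (PM.refl r))))
    · refine Or.inr (Or.inr (Or.inr ?_))
      rw [← hba]
      exact (hfb'.mul (PM.refl a)).mul (PM.refl r)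

/-- A commutator commuting with `c` and agreeing on its fixed space with no element of the group. -/
theorem exists_far {c : GL ι F} (hc : IZ R c) :
    ∃ y, y ∈ Om ι F ∧ y * c = c * y ∧ ∀ e ∈ R, e * c = c * e → (y : M) * Extra.plus c ≠ (e : M) * Extra.plus c := by
  have h2 := X.two
  obtain ⟨_, -, -, a, -, ha, hac, -, hacn, -, -⟩ := X.exists_in c c hc.1 hc.1
  obtain ⟨_, -, -, b, -, hb, hbc, hba, hbcn, hban, hbca⟩ := X.exists_in c a hc.1 ha.1
  refine ⟨root a b, X.root_iz_Om ha hb hba hban, ?_, fun e he hec hye => ?_⟩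
  · have e1 := root_conj h2 ha.2.1 hba c
    rw [show c * a * c⁻¹ = a by rw [← hac, mul_inv_cancel_right],
      show c * b * c⁻¹ = b by rw [← hbc, mul_inv_cancel_right]] at e1
    exact (mul_inv_eq_iff_eq_mul.1 e1).symm
  have hac' : Extra.plus c * Extra.plus a = Extra.plus a * Extra.plus c := by
    have e1 : (a : M) * c = c * a := congrArg Units.val hac
    simp [Extra.plus, Matrix.mul_add, Matrix.add_mul, e1]
    abel
  have hacm : Extra.plus c * Extra.minus a = Extra.minus a * Extra.plus c := by
    have e1 : (a : M) * c = c * a := congrArg Units.val hac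
    simp [Extra.plus, Extra.minus, Matrix.mul_add, Matrix.add_mul, Matrix.mul_sub, Matrix.sub_mul, e1]
    abel
  have h1 : (e : M) * (Extra.plus c * Extra.plus a) = (1 : F) • (Extra.plus c * Extra.plus a) := by
    rw [← Matrix.mul_assoc, ← hye, Matrix.mul_assoc, hac', ← Matrix.mul_assoc, root_val h2 ha.2.1 hba,
      rootM_plus h2 ha.2.1, one_smul]
  have h3 : (e : M) * (Extra.plus c * Extra.minus a) = (b : M) * (Extra.plus c * Extra.minus a) := by
    rw [← Matrix.mul_assoc, ← hye, Matrix.mul_assoc, hacm, ← Matrix.mul_assoc, root_val h2 ha.2.1 hba,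
      rootM_minus h2 ha.2.1, Matrix.mul_assoc]
  have hcp : (c : M) * (Extra.plus c * Extra.minus a) = Extra.plus c * Extra.minus a := by
    rw [← Matrix.mul_assoc]
    simp [Extra.plus, Matrix.mul_add, show (c : M) * c = 1 from congrArg Units.val hc.2.1, add_comm]
  have ham : (a : M) * (Extra.plus c * Extra.minus a) = -(Extra.plus c * Extra.minus a) := by
    rw [hacm, ← Matrix.mul_assoc, ← Matrix.neg_mul]
    congr 1
    simp [Extra.minus, Matrix.mul_sub, show (a : M) * a = 1 from congrArg Units.val ha.2.1]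
  obtain ⟨δ, hδ, hδe⟩ : ∃ δ : F, δ ≠ 0 ∧ (e : M) * (Extra.plus c * Extra.minus a) =
      δ • (Extra.plus c * Extra.minus a) := by
    rcases X.agree2 hc ha hacn he one_ne_zero h1 with h | h | h | h <;> rcases h with h | h <;> rw [h] <;>
      first
      | (refine ⟨1, one_ne_zero, ?_⟩; simp [Matrix.mul_assoc, hcp, ham]; done)
      | (refine ⟨-1, neg_ne_zero.2 one_ne_zero, ?_⟩; simp [Matrix.mul_assoc, hcp, ham])
  rw [h3] at hδe
  have hna : IZ R (-a) := ⟨X.mem_pm (PM.negl a) ha.1, by rw [neg_mul_neg, ha.2.1],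
    fun h => ha.2.2 ((PM.negl a).symm.trans h)⟩
  rw [← plus_neg] at hδe
  rcases X.agree2 hc hna (fun h => hacn ((PM.negl a).symm.trans h)) hb.1 hδ hδe with h | h | h | h
  · exact hb.2.2 h
  · exact hbcn h
  · exact hban (h.trans (PM.negl a))
  · exact hbca (h.trans (by rw [mul_neg]; exact PM.negl _))

end Pre

end CfsgLib.MaxSub.Extra.Plus
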