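import Cfsg.Agent.Lib.MaxSub.Extra.Plus.Model

/-!
A group `2^(1+2k)` of plus type containing the standard pair of involutions, and the group of one block.
-/

set_option autoImplicit false
set_option linter.unusedSectionVars false
set_option linter.style.haveILetI false

namespace CfsgLib.MaxSub.Extra.Plus

open Matrix Subgroup
open CfsgLib.MaxSub.QuadTwo (glEquiv coe_glEquiv glEquiv_neg mem_map_glEquiv map_normalizer)

variable {F : Type*} [Field F]

/-- A finite group mapped into itself by a conjugation is normalised. -/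
theorem norm_of_conj_mem {G : Type*} [Group G] {R : Subgroup G} [Finite R] {g : G}
    (h : ∀ r ∈ R, g * r * g⁻¹ ∈ R) : g ∈ normalizer (R : Set G) := by
  set φ := (MulAut.conj g).toMonoidHom with hφ
  have hmap : R.map φ = R := Subgroup.eq_of_le_of_card_ge (by rintro _ ⟨x, hx, rfl⟩; exact h x hx)
    (le_of_eq (Nat.card_congr (R.equivMapOfInjective φ (MulAut.conj g).injective).toEquiv))
  rw [Subgroup.mem_normalizer_iff]
  refine fun x => ⟨fun hx => h x hx, fun hx => ?_⟩
  obtain ⟨x', hx', e⟩ := (SetLike.ext_iff.1 hmap (g * x * g⁻¹)).2 hx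
  rwa [← (MulAut.conj g).injective e]

variable {κ : Type} [Fintype κ] [DecidableEq κ]

local notation "GL2" => GL (κ ⊕ κ) F
local notation "GL1" => GL κ F

/-- The diagonal embedding. -/
def diag : GL1 →* GL2 := emb.comp (MonoidHom.prod (MonoidHom.id _) (MonoidHom.id _))

/-- The group in one block. -/
def side (R : Subgroup (GL (κ ⊕ κ) F)) : Subgroup (GL κ F) := R.comap diag

theorem mem_side {R : Subgroup GL2} {e : GL1} : e ∈ side R ↔ emb (e, e) ∈ R := Iff.rfl

/-- The group contains the standard pair of involutions. -/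
structure Std (R : Subgroup (GL (κ ⊕ κ) F)) : Prop where
  pre : Pre R
  big : 512 ≤ Nat.card R
  hZ : Z0 ∈ R
  hs : swp ∈ R

namespace Std

variable {R : Subgroup (GL (κ ⊕ κ) F)} (S : Std R)
include S

theorem two : (2 : F) ≠ 0 := S.pre.two

theorem ncard1 : (Fintype.card κ : F) ≠ 0 := fun h => S.pre.ncard (by
  rw [Fintype.card_sum, Nat.cast_add, h, add_zero])

theorem ne_neg1 (a : GL1) : a ≠ -a := fun h => by
  haveI : Nonempty κ := by
    by_contra hne
    rw [not_nonempty_iff] at hne
    exact S.ncard1 (by simp)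
  refine a.ne_zero ?_
  have e : (a : Matrix κ κ F) = -(a : Matrix κ κ F) := congrArg Units.val h
  have : (2 : F) • (a : Matrix κ κ F) = 0 := by rw [two_smul]; exact add_eq_zero_iff_eq_neg.2 e
  exact (smul_eq_zero.1 this).resolve_left S.two

theorem iz_Z0 : IZ R (Z0 : GL2) := ⟨S.hZ, Z0_sq, S.pre.not_pm swp_Z0⟩

theorem iz_swp : IZ R (swp : GL2) := ⟨S.hs, swp_sq, S.pre.not_pm (Pre.anti_symm swp_Z0)⟩

theorem emb_neg_right {e : GL1} (he : e ∈ side R) : emb (e, -e) ∈ R := by
  have := mul_mem (mem_side.1 he) S.hZ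
  rwa [Z0, emb_mul, mul_one, mul_neg_one] at this

theorem cent_cases {r : GL2} (hr : r ∈ R) (hrz : r * Z0 = Z0 * r) :
    ∃ e ∈ side R, r = emb (e, e) ∨ r = emb (e, -e) := by
  obtain ⟨a, b, rfl⟩ := comm_Z0 S.two hrz
  rcases S.pre.comm _ hr swp S.hs with e | e
  · rw [swp_emb, mul_left_inj, emb_inj] at e
    obtain rfl := e.1
    exact ⟨_, mem_side.2 hr, Or.inl rfl⟩
  · rw [swp_emb, ← neg_mul, mul_left_inj, ← emb_neg, emb_inj] at e
    obtain rfl := e.2
    refine ⟨a, mem_side.2 ?_, Or.inr rfl⟩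
    have := mul_mem hr S.hZ
    rwa [Z0, emb_mul, mul_one, neg_mul_neg, mul_one] at this

theorem anti_cases {r : GL2} (hr : r ∈ R) (hrz : r * Z0 = -(Z0 * r)) :
    ∃ e ∈ side R, r = emb (e, e) * swp ∨ r = emb (e, -e) * swp := by
  obtain ⟨e, he, h⟩ := S.cent_cases (mul_mem hr S.hs) (Pre.anti_anti hrz swp_Z0)
  refine ⟨e, he, ?_⟩
  have hr' : r = r * swp * swp := by rw [mul_assoc, swp_sq, mul_one]
  rcases h with h | h
  · exact Or.inl (hr'.trans (by rw [h]))
  · exact Or.inr (hr'.trans (by rw [h]))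

theorem induct {p : GL2 → Prop} (hdiag : ∀ e ∈ side R, p (emb (e, e))) (hz : p Z0) (hs : p swp)
    (hm : ∀ a b, p a → p b → p (a * b)) {r : GL2} (hr : r ∈ R) : p r := by
  have hneg : ∀ e ∈ side R, p (emb (e, -e)) := fun e he => by
    have := hm _ _ (hdiag e he) hz
    rwa [Z0, emb_mul, mul_one, mul_neg_one] at this
  rcases S.pre.comm r hr Z0 S.hZ with e | e
  · obtain ⟨a, ha, rfl | rfl⟩ := S.cent_cases hr e
    exacts [hdiag a ha, hneg a ha]
  · obtain ⟨a, ha, rfl | rfl⟩ := S.anti_cases hr e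
    exacts [hm _ _ (hdiag a ha) hs, hm _ _ (hneg a ha) hs]

theorem mem_norm {g : GL2} (hdiag : ∀ e ∈ side R, g * emb (e, e) * g⁻¹ ∈ R) (hz : g * Z0 * g⁻¹ ∈ R)
    (hs : g * swp * g⁻¹ ∈ R) : g ∈ normalizer (R : Set GL2) := by
  haveI := S.pre.fin
  refine norm_of_conj_mem fun r hr => S.induct (p := fun r => g * r * g⁻¹ ∈ R) hdiag hz hs (fun a b ha hb => ?_) hr
  show g * (a * b) * g⁻¹ ∈ R
  rw [show g * (a * b) * g⁻¹ = (g * a * g⁻¹) * (g * b * g⁻¹) by group]
  exact mul_mem ha hb

theorem side_le : side R ≤ Og κ F := fun _ he => ((emb_mem_Og S.two).1 (S.pre.le (mem_side.1 he))).1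

theorem side_neg : -1 ∈ side R := by
  rw [mem_side, emb_neg, emb_one]
  exact S.pre.neg

theorem side_comm {a b : GL1} (ha : a ∈ side R) (hb : b ∈ side R) : a * b = b * a ∨ a * b = -(b * a) := by
  rcases S.pre.comm _ (mem_side.1 ha) _ (mem_side.1 hb) with e | e
  · rw [emb_mul, emb_mul, emb_inj] at e; exact Or.inl e.1
  · rw [emb_mul, emb_mul, ← emb_neg, emb_inj] at e; exact Or.inr e.1

theorem side_sq {a : GL1} (ha : a ∈ side R) : PM (a * a) 1 := by
  rcases S.pre.sq _ (mem_side.1 ha) with e | e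
  · rw [emb_mul, ← emb_one, emb_inj] at e; exact Or.inl e.1
  · rw [emb_mul, ← emb_one, ← emb_neg, emb_inj] at e; exact Or.inr e.1

theorem side_finite : Finite (side R) := by
  haveI := S.pre.fin
  exact Finite.of_injective (fun e : side R => (⟨emb (e.1, e.1), e.2⟩ : R))
    fun a b h => Subtype.ext (emb_inj.1 (congrArg Subtype.val h)).1

theorem side_card : Nat.card (side R) * 4 = Nat.card R := by
  classical
  haveI := S.side_finite
  let ψ : side R × Bool × Bool → R := fun x =>
    ⟨emb (x.1.1, x.1.1) * (if x.2.1 then Z0 else 1) * (if x.2.2 then swp else 1),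
      mul_mem (mul_mem (mem_side.1 x.1.2) (by split_ifs <;> first | exact S.hZ | exact one_mem R))
        (by split_ifs <;> first | exact S.hs | exact one_mem R)⟩
  have neq : ∀ {u v : GL1}, u.1 = v.1 → u.1 = -v.1 → False := fun {u v} e e' =>
    S.ne_neg1 v (Units.ext (by rw [Units.val_neg]; exact e.symm.trans e'))
  haveI : Nonempty κ := by
    by_contra hne
    rw [not_nonempty_iff] at hne
    exact S.ncard1 (by simp)
  have hbij : Function.Bijective ψ := by
    constructor
    · intro x y h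
      obtain ⟨a, i, j⟩ := x
      obtain ⟨b, i', j'⟩ := y
      have hv := congrArg (fun r : R => r.1.1) h
      cases i <;> cases i' <;> cases j <;> cases j' <;>
        simp only [ψ, Bool.false_eq_true, if_false, if_true, mul_one, Units.val_mul, emb_val, Z0_val, swp_val,
          fromBlocks_multiply, Matrix.mul_one, Matrix.mul_zero, Matrix.zero_mul, Matrix.mul_neg, add_zero, zero_add,
          neg_zero, fromBlocks_inj] at hv
      all_goals first
        | exact Prod.ext (Subtype.ext (Units.ext hv.1)) rfl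
        | exact Prod.ext (Subtype.ext (Units.ext hv.2.1)) rfl
        | exact absurd hv.1 a.1.ne_zero
        | exact absurd hv.1.symm b.1.ne_zero
        | exact (neq hv.1 hv.2.2.2).elim
        | exact (neq hv.2.1 hv.2.2.1).elim
        | exact (neq hv.1.symm hv.2.2.2.symm).elim
        | exact (neq hv.2.1.symm hv.2.2.1.symm).elim
    · intro r
      rcases S.pre.comm r r.2 Z0 S.hZ with e | e
      · obtain ⟨a, ha, h | h⟩ := S.cent_cases r.2 e
        · exact ⟨(⟨a, ha⟩, false, false), Subtype.ext (by simp [ψ, h])⟩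
        · exact ⟨(⟨a, ha⟩, true, false), Subtype.ext (by simp [ψ, h, Z0, emb_mul])⟩
      · obtain ⟨a, ha, h | h⟩ := S.anti_cases r.2 e
        · exact ⟨(⟨a, ha⟩, false, true), Subtype.ext (by simp [ψ, h])⟩
        · exact ⟨(⟨a, ha⟩, true, true), Subtype.ext (by simp [ψ, h, Z0, emb_mul])⟩
  have := Nat.card_congr (Equiv.ofBijective ψ hbij)
  rw [Nat.card_prod, Nat.card_prod, show Nat.card Bool = 2 by simp] at this
  omega

theorem side_irr (A : Matrix κ κ F) (hA : ∀ e ∈ side R, A * (e : Matrix κ κ F) = (e : Matrix κ κ F) * A) :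
    ∃ c : F, A = c • 1 := by
  obtain ⟨c, hc⟩ := S.pre.irr (fromBlocks A 0 0 A) fun r hr =>
    S.induct (p := fun r => fromBlocks A 0 0 A * r.1 = r.1 * fromBlocks A 0 0 A)
      (fun e he => by simp [emb_val, fromBlocks_multiply, hA e he]) (by simp [Z0_val, fromBlocks_multiply])
      (by simp [swp_val, fromBlocks_multiply])
      (fun a b ha hb => by
        show fromBlocks A 0 0 A * (a * b).1 = (a * b).1 * fromBlocks A 0 0 A
        rw [Units.val_mul, ← Matrix.mul_assoc, ha, Matrix.mul_assoc, hb, ← Matrix.mul_assoc]) hr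
  refine ⟨c, ?_⟩
  rw [← fromBlocks_one, fromBlocks_smul, fromBlocks_inj] at hc
  exact hc.1

/-- The group of one block has plus type again. -/
theorem side_pre : Pre (side R) := by
  classical
  haveI := S.pre.fin
  refine ⟨S.two, S.ncard1, S.side_finite, S.side_neg, S.side_le, fun x hx y hy => S.side_comm hx hy,
    fun x hx => S.side_sq hx, S.side_irr, by have := S.side_card; have := S.big; omega, ?_⟩
  obtain ⟨A, hAR, hA2, hA⟩ := S.pre.plus
  haveI : Finite A := Finite.of_injective _ (inclusion_injective hAR)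
  have habel : ∀ x ∈ A, ∀ y ∈ A, x * y = y * x := fun x hx y hy => by
    have hi : ∀ w ∈ A, w⁻¹ = w := fun w hw => inv_eq_of_mul_eq_one_right (hA2 w hw)
    rw [← hi _ (mul_mem hx hy), _root_.mul_inv_rev, hi _ hx, hi _ hy]
  -- adjoin the first involution
  obtain ⟨A', hA'R, hA'2, hA'c, hA'card⟩ : ∃ A' ≤ R, (∀ x ∈ A', x * x = 1) ∧
      (∀ x ∈ A', x * Z0 = Z0 * x) ∧ Nat.card A ≤ Nat.card A' := by
    by_cases hzA : Z0 ∈ A
    · exact ⟨A, hAR, hA2, fun x hx => habel x hx _ hzA, le_rfl⟩
    set A1 := A ⊓ centralizer {(Z0 : GL2)} with hA1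
    have m1 : ∀ {x}, x ∈ A1 ↔ x ∈ A ∧ x * Z0 = Z0 * x := fun {x} => by
      simp only [hA1, mem_inf, mem_centralizer_singleton_iff]
    let A' : Subgroup GL2 :=
      { carrier := {x | x * Z0 = Z0 * x ∧ (x ∈ A1 ∨ x * Z0 ∈ A1)}
        one_mem' := ⟨by simp, Or.inl (one_mem _)⟩
        mul_mem' := fun {a b} ⟨ha', ha⟩ ⟨hb', hb⟩ => by
          refine ⟨Pre.comm_comm ha' hb', ?_⟩
          rcases ha with ha | ha <;> rcases hb with hb | hb
          · exact Or.inl (mul_mem ha hb)
          · exact Or.inr (by rw [mul_assoc]; exact mul_mem ha hb)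
          · exact Or.inr (by rw [mul_assoc, hb', ← mul_assoc]; exact mul_mem ha hb)
          · refine Or.inl ?_
            have := mul_mem ha hb
            rwa [show a * Z0 * (b * Z0) = a * (Z0 * b) * Z0 by group, ← hb', ← mul_assoc a b, mul_assoc _ Z0 Z0,
              Z0_sq, mul_one] at this
        inv_mem' := fun {a} ⟨ha', ha⟩ => by
          refine ⟨(Commute.inv_left (show Commute a Z0 from ha')).eq, ?_⟩
          rcases ha with ha | ha
          · exact Or.inl (inv_mem ha)
          · refine Or.inr ?_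
            have h5 := inv_mem ha
            rw [ha', _root_.mul_inv_rev, inv_eq_of_mul_eq_one_right (Z0_sq (F := F) (κ := κ))] at h5
            exact h5 }
    have memA' : ∀ {x}, x ∈ A' ↔ x * Z0 = Z0 * x ∧ (x ∈ A1 ∨ x * Z0 ∈ A1) := fun {x} => Iff.rfl
    have hle : A' ≤ R := fun x hx => by
      rcases (memA'.1 hx).2 with h | h
      · exact hAR (m1.1 h).1
      · have := mul_mem (hAR (m1.1 h).1) S.hZ
        rwa [mul_assoc, Z0_sq, mul_one] at this
    refine ⟨A', hle, fun x hx => ?_, fun x hx => (memA'.1 hx).1, ?_⟩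
    · obtain ⟨hxz, h | h⟩ := memA'.1 hx
      · exact hA2 x (m1.1 h).1
      · have := hA2 _ (m1.1 h).1
        rwa [show x * Z0 * (x * Z0) = x * (Z0 * x) * Z0 by group, ← hxz, ← mul_assoc x x, mul_assoc _ Z0 Z0, Z0_sq,
          mul_one] at this
    have h1 : Nat.card A ≤ 2 * Nat.card A1 := S.pre.half hAR S.hZ
    haveI : Finite A' := Finite.of_injective _ (inclusion_injective hle)
    let φ : Bool × A1 → A' := fun x => ⟨if x.1 then (x.2 : GL2) * Z0 else x.2, by
      have hc := (m1.1 x.2.2).2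
      split_ifs
      · exact memA'.2 ⟨Pre.comm_comm hc rfl, Or.inr (by rw [mul_assoc, Z0_sq, mul_one]; exact x.2.2)⟩
      · exact memA'.2 ⟨hc, Or.inl x.2.2⟩⟩
    have hφ : Function.Injective φ := fun x x' e => by
      obtain ⟨i, a⟩ := x
      obtain ⟨i', a'⟩ := x'
      have e' : ((φ (i, a) : A') : GL2) = (φ (i', a') : A') := congrArg Subtype.val e
      have hbad : ∀ u v : A1, (u : GL2) * Z0 ≠ (v : GL2) := fun u v h => hzA (by
        have : (Z0 : GL2) = (u : GL2)⁻¹ * v := by rw [← h, inv_mul_cancel_left]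
        rw [this]
        exact mul_mem (inv_mem (m1.1 u.2).1) (m1.1 v.2).1)
      cases i <;> cases i' <;> simp [φ] at e'
      · exact Prod.ext rfl e'
      · exact absurd e'.symm (hbad a' a)
      · exact absurd e' (hbad a a')
      · exact Prod.ext rfl e'
    have := Nat.card_le_card_of_injective φ hφ
    rw [Nat.card_prod, show Nat.card Bool = 2 by simp] at this
    omega
  haveI : Finite A' := Finite.of_injective _ (inclusion_injective hA'R)
  have hB : Nat.card A' ≤ 2 * Nat.card ↥(A' ⊓ centralizer {(swp : GL2)}) := S.pre.half hA'R S.hs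
  set B := A' ⊓ centralizer {(swp : GL2)} with hBdef
  haveI : Finite B := Finite.of_injective _ (inclusion_injective (inf_le_left : B ≤ A'))
  have hB' : ∀ b ∈ B, ∃ e ∈ side R, b = emb (e, e) := fun b hb => by
    obtain ⟨e, he, h | h⟩ := S.cent_cases (hA'R hb.1) (hA'c b hb.1)
    · exact ⟨e, he, h⟩
    · exfalso
      have := mem_centralizer_singleton_iff.1 hb.2
      rw [h, swp_emb, mul_left_inj, emb_inj] at this
      exact S.ne_neg1 e this.1
  refine ⟨B.comap diag, fun e he => mem_side.2 (hA'R he.1), fun e he => ?_, ?_⟩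
  · have := hA'2 _ he.1
    rw [diag] at this
    simp only [MonoidHom.comp_apply, MonoidHom.prod_apply, MonoidHom.id_apply, emb_mul] at this
    rw [← emb_one, emb_inj] at this
    exact this.1
  haveI : Finite (B.comap diag) := Finite.of_injective (fun e => (⟨diag e.1, e.2⟩ : B))
    fun a b h => Subtype.ext (emb_inj.1 (congrArg Subtype.val h)).1
  have hle : Nat.card B ≤ Nat.card (B.comap diag) := by
    choose f hf hf' using hB'
    refine Nat.card_le_card_of_injective
      (fun b : B => (⟨f b b.2, show diag (f b b.2) ∈ B from (hf' b b.2) ▸ b.2⟩ : B.comap diag)) fun a b h => ?_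
    have h' : f a a.2 = f b b.2 := congrArg Subtype.val h
    exact Subtype.ext ((hf' a a.2).trans (by rw [h']; exact (hf' b b.2).symm))
  have := S.side_card
  nlinarith

theorem diag_norm {s : GL1} (hs : s ∈ normalizer (side R : Set GL1)) : emb (s, s) ∈ normalizer (R : Set GL2) := by
  refine S.mem_norm (fun e he => ?_) ?_ ?_
  · rw [emb_mul, emb_inv, emb_mul]
    exact mem_side.1 ((Subgroup.mem_normalizer_iff.1 hs e).1 he)
  · rw [emb_comm_Z0, mul_inv_cancel_right]; exact S.hZ
  · rw [← swp_emb, mul_inv_cancel_right]; exact S.hs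

theorem root_emb {e : GL1} (he : e ∈ side R) : emb (e, 1) ∈ normalizer (R : Set GL2) := by
  refine S.mem_norm (fun a ha => ?_) ?_ ?_
  · rw [emb_mul, emb_inv, emb_mul]
    rcases S.side_comm he ha with h | h <;> rw [h]
    · simpa using mem_side.1 ha
    · rw [neg_mul, mul_inv_cancel_right, inv_one, one_mul, mul_one, ← neg_neg (emb (-a, a)), ← emb_neg, neg_neg,
        ← neg_one_mul]
      exact mul_mem S.pre.neg (S.emb_neg_right ha)
  · rw [emb_comm_Z0, mul_inv_cancel_right]; exact S.hZ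
  · rw [mul_assoc, emb_inv, swp_emb, ← mul_assoc, emb_mul, inv_one, mul_one, one_mul]
    refine mul_mem ?_ S.hs
    rcases S.side_sq he with h | h
    · rw [show e⁻¹ = e from inv_eq_of_mul_eq_one_right h]; exact mem_side.1 he
    · rw [show e⁻¹ = -e from inv_eq_of_mul_eq_one_right (by rw [mul_neg, h, neg_neg])]
      exact S.emb_neg_right he

theorem side_norm {a b : GL1} (h : emb (a, b) ∈ normalizer (R : Set GL2)) : a ∈ normalizer (side R : Set GL1) := by
  haveI := S.side_finite
  refine norm_of_conj_mem fun e he => ?_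
  have hm : emb (a * e * a⁻¹, b * e * b⁻¹) ∈ R := by
    have := (Subgroup.mem_normalizer_iff.1 h _).1 (mem_side.1 he)
    rwa [emb_mul, emb_inv, emb_mul] at this
  obtain ⟨d, hd, h' | h'⟩ := S.cent_cases hm (emb_comm_Z0 _ _) <;>
  · rw [(emb_inj.1 h').1]; exact hd

/-- Elements of one block normalising the group lie in the group of the block. -/
theorem side_of_norm {y : GL1} (h : emb (y, 1) ∈ normalizer (R : Set GL2)) : y ∈ side R := by
  have h1 := mul_mem ((Subgroup.mem_normalizer_iff.1 h _).1 S.hs) S.hs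
  rw [mul_assoc (emb (y, 1)), emb_inv, swp_emb, ← mul_assoc, mul_assoc _ swp swp, swp_sq, mul_one, emb_mul,
    inv_one, mul_one, one_mul] at h1
  obtain ⟨d, hd, h' | h'⟩ := S.cent_cases h1 (emb_comm_Z0 _ _) <;>
  · rw [(emb_inj.1 h').1]; exact hd

end Std

theorem card_map_equiv {G H : Type*} [Group G] [Group H] (e : G ≃* H) (R : Subgroup G) :
    Nat.card (R.map e.toMonoidHom) = Nat.card R :=
  (Nat.card_congr (R.equivMapOfInjective e.toMonoidHom e.injective).toEquiv).symm

/-- Transport along an isomorphism of matrix algebras preserving the form. -/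
theorem Pre.map {ι lam : Type} [Fintype ι] [DecidableEq ι] [Fintype lam] [DecidableEq lam] {R : Subgroup (GL ι F)}
    (X : Pre R) (Ψ : Matrix ι ι F ≃ₐ[F] Matrix lam lam F) (hc : Fintype.card lam = Fintype.card ι)
    (hΨ : ∀ g ∈ Og ι F, glEquiv Ψ g ∈ Og lam F) : Pre (R.map (glEquiv Ψ).toMonoidHom) where
  two := X.two
  ncard := hc ▸ X.ncard
  fin := by
    haveI := X.fin
    exact Finite.of_equiv _ (R.equivMapOfInjective _ (glEquiv Ψ).injective).toEquiv
  neg := ⟨-1, X.neg, by simp [glEquiv_neg]⟩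
  le := by rintro _ ⟨x, hx, rfl⟩; exact hΨ x (X.le hx)
  comm := by
    rintro _ ⟨x, hx, rfl⟩ _ ⟨y, hy, rfl⟩
    rcases X.comm x hx y hy with e | e
    · exact Or.inl (by simp only [MulEquiv.coe_toMonoidHom, ← map_mul, e])
    · exact Or.inr (by simp only [MulEquiv.coe_toMonoidHom, ← map_mul, e, glEquiv_neg])
  sq := by
    rintro _ ⟨x, hx, rfl⟩
    rcases X.sq x hx with e | e
    · exact Or.inl (by simp only [MulEquiv.coe_toMonoidHom, ← map_mul, e, map_one])
    · exact Or.inr (by simp only [MulEquiv.coe_toMonoidHom, ← map_mul, e, glEquiv_neg, map_one])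
  irr A hA := by
    obtain ⟨c, hc⟩ := X.irr (Ψ.symm A) fun s hs => Ψ.injective (by
      rw [map_mul, map_mul, AlgEquiv.apply_symm_apply]
      exact hA (glEquiv Ψ s) ⟨s, hs, rfl⟩)
    refine ⟨c, ?_⟩
    rw [← Ψ.apply_symm_apply A, hc, map_smul, map_one]
  order := by
    rw [card_map_equiv]
    exact X.order
  plus := by
    obtain ⟨A, hA, hA2, hAc⟩ := X.plus
    refine ⟨A.map (glEquiv Ψ).toMonoidHom, Subgroup.map_mono hA, ?_, ?_⟩
    · rintro _ ⟨x, hx, rfl⟩
      simp only [MulEquiv.coe_toMonoidHom, ← map_mul, hA2 x hx, map_one]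
    · rwa [card_map_equiv, card_map_equiv]

/-- Conjugation as an isomorphism of matrix algebras. -/
def cjAlg {ι : Type} [Fintype ι] [DecidableEq ι] (g : GL ι F) : Matrix ι ι F ≃ₐ[F] Matrix ι ι F where
  toFun A := g.1 * A * (g⁻¹).1
  invFun A := (g⁻¹).1 * A * g.1
  left_inv A := by simp [Matrix.mul_assoc]
  right_inv A := by simp [Matrix.mul_assoc]
  map_mul' A B := by simp [Matrix.mul_assoc]
  map_add' A B := by simp [Matrix.mul_add, Matrix.add_mul]
  commutes' c := by
    show g.1 * algebraMap F (Matrix ι ι F) c * (g⁻¹).1 = _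
    rw [← Algebra.commutes c g.1, Matrix.mul_assoc, Units.mul_inv, Matrix.mul_one]

theorem glEquiv_cj {ι : Type} [Fintype ι] [DecidableEq ι] (g x : GL ι F) :
    glEquiv (cjAlg g) x = g * x * g⁻¹ := Units.ext rfl

theorem glEquiv_trans {ι lam mu : Type} [Fintype ι] [DecidableEq ι] [Fintype lam] [DecidableEq lam] [Fintype mu]
    [DecidableEq mu] (Ψ : Matrix ι ι F ≃ₐ[F] Matrix lam lam F) (Φ : Matrix lam lam F ≃ₐ[F] Matrix mu mu F)
    (g : GL ι F) : glEquiv (Ψ.trans Φ) g = glEquiv Φ (glEquiv Ψ g) := Units.ext rfl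

theorem reindex_Og {ι lam : Type} [Fintype ι] [DecidableEq ι] [Fintype lam] [DecidableEq lam] (h2 : (2 : F) ≠ 0)
    (e : ι ≃ lam) {g : GL ι F} (hg : g ∈ Og ι F) : glEquiv (Matrix.reindexAlgEquiv F F e) g ∈ Og lam F := by
  rw [mem_Og h2] at hg ⊢
  rw [coe_glEquiv, Matrix.coe_reindexAlgEquiv, Matrix.reindex_apply, transpose_submatrix,
    Matrix.submatrix_mul_equiv, hg, Matrix.submatrix_one_equiv]

end CfsgLib.MaxSub.Extra.Plus
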