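import Cfsg.Agent.Lib.MaxSub.Extra.Plus.Full
import Cfsg.Agent.Lib.MaxSub.Extra.Plus.Pair
import Cfsg.Agent.Lib.MaxSub.Extra.Unique

/-!
From the blocks to the whole: an overgroup of the normaliser is contained in it.
-/

set_option autoImplicit false
set_option linter.unusedSectionVars false
set_option linter.style.haveILetI false
set_option maxHeartbeats 800000

namespace CfsgLib.MaxSub.Extra.Plus

open Matrix Subgroup
open CfsgLib.MaxSub.QuadTwo (glEquiv coe_glEquiv glEquiv_neg mem_map_glEquiv map_normalizer)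

variable {F : Type*} [Field F] [Fintype F] {κ : Type} [Fintype κ] [DecidableEq κ]
  {lam : Type} [Fintype lam] [DecidableEq lam]

theorem Dich.blk (hD : Dich κ F) (e : κ ≃ lam ⊕ lam) (hκ : 4 ≤ Fintype.card κ) : Blk κ F := fun R H O S =>
  (hD R H O S).resolve_right fun h => full_absurd (fun _ hc _ hg hgz hfix => full_next hD e (by omega) O S h hc hg hgz hfix) hκ O S h

omit [Fintype F] in
theorem iz_neg {ι : Type} [Fintype ι] [DecidableEq ι] {R : Subgroup (GL ι F)} (X : Pre R) {z : GL ι F}
    (h : IZ R z) : IZ R (-z) :=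
  ⟨X.mem_pm (PM.negl z) h.1, by rw [neg_mul_neg, h.2.1], fun e => h.2.2 ((PM.negl z).symm.trans e)⟩

section Blocks

variable {R H : Subgroup (GL (κ ⊕ κ) F)}

theorem Over.proj (hB : Blk κ F) (e : κ ≃ lam ⊕ lam) (O : Over R H) {z h r : GL (κ ⊕ κ) F} (hz : IZ R z)
    (hh : h ∈ H) (hhz : h * z = z * h) (hr : r ∈ R) (hrz : r * z = z * r) :
    ∃ d ∈ R, d * z = z * d ∧ Ag z (h * r * h⁻¹) d := by
  obtain ⟨Ψ, hΨ, hΨz, S'⟩ := O.transport (Equiv.refl _) e hz
  exact Over.proj_of hΨz S' (hB _ _ (O.map hΨ) S') hh hhz hr hrz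

/-- The kernel of the projection to the second block is the group of the first. -/
theorem Over.kernel (hB : Blk κ F) (e : κ ≃ lam ⊕ lam) (O : Over R H) (S : Std R) {y : GL κ F}
    (hy : emb (y, 1) ∈ H) : y ∈ side R := by
  have X := S.side_pre
  have h2 := S.two
  have key : H.comap (emb.comp (MonoidHom.inl (GL κ F) (GL κ F))) ≤ side R := by
    refine X.kernel (fun g hg => O.emb_one_mem S hg) (fun y hy => hB R H O S y 1 hy)
      (fun c g hc hg hgc y hy => ?_) fun t ht c hc htc => ?_
    · have hd := O.diag_mem S (X.root_mem hc hg hgc) (X.root_norm hc hg hgc)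
      show emb (_, (1 : GL κ F)) ∈ H
      have := mul_mem (mul_mem hd (show emb (y, (1 : GL κ F)) ∈ H from hy)) (inv_mem hd)
      rwa [emb_mul, emb_inv, emb_mul, mul_one, mul_inv_cancel] at this
    · have hag : ∀ {c t : GL κ F}, IZ (side R) c → emb (t, (1 : GL κ F)) ∈ H → t * c = c * t →
          ∃ g ∈ side R, g * c = c * g ∧ (t : Matrix κ κ F) * Extra.plus c = (g : Matrix κ κ F) * Extra.plus c :=
        fun hc ht htc => O.agree_of S hc ht htc fun h hh hhz r hr hrz =>
          Over.proj hB e O (S.iz_diag hc) hh hhz hr hrz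
      obtain ⟨g, hg, hgc, hgt⟩ := hag hc ht htc
      obtain ⟨q, hq, hqc, hqt⟩ := hag (iz_neg X hc) ht (by rw [mul_neg, neg_mul, htc])
      rw [plus_neg] at hqt
      have hqc' : q * c = c * q := by rw [mul_neg, neg_mul] at hqc; exact neg_injective hqc
      obtain ⟨t', ht'⟩ : ∃ t', t' = g⁻¹ * t := ⟨_, rfl⟩
      obtain ⟨Q, hQd⟩ : ∃ Q, Q = g⁻¹ * q := ⟨_, rfl⟩
      have hgi : g⁻¹ * c = c * g⁻¹ := (Commute.inv_left (show Commute g c from hgc)).eq
      have hQ : Q ∈ side R := hQd ▸ mul_mem (inv_mem hg) hq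
      have hQc : Q * c = c * Q := by rw [hQd]; exact Pre.comm_comm hgi hqc'
      have ht'c : t' * c = c * t' := by rw [ht']; exact Pre.comm_comm hgi htc
      have hp : t'.1 * Extra.plus c = Extra.plus c := by
        rw [ht', Units.val_mul, Matrix.mul_assoc, hgt, ← Matrix.mul_assoc, Units.inv_mul, Matrix.one_mul]
      have hm : t'.1 * Extra.minus c = Q.1 * Extra.minus c := by
        rw [ht', hQd, Units.val_mul, Units.val_mul, Matrix.mul_assoc, hqt, Matrix.mul_assoc]
      have hcp : c.1 * Extra.plus c = Extra.plus c := by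
        simp [Extra.plus, Matrix.mul_add, show c.1 * c.1 = 1 from congrArg Units.val hc.2.1, add_comm]
      have hcm : c.1 * Extra.minus c = -Extra.minus c := by
        simp [Extra.minus, Matrix.mul_sub, show c.1 * c.1 = 1 from congrArg Units.val hc.2.1]
      suffices h : t' ∈ side R by
        have := mul_mem hg h
        rwa [ht', mul_inv_cancel_left] at this
      have done1 : ∀ x ∈ side R, x.1 * Extra.plus c = Extra.plus c → x.1 * Extra.minus c = Q.1 * Extra.minus c →
          t' ∈ side R := fun x hx h1 h3 => by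
        rwa [show t' = x from Units.ext (ext_ag h2 (c := c) (hp.trans h1.symm) (hm.trans h3.symm))]
      by_cases hQ1 : PM Q 1
      · rcases hQ1 with rfl | rfl
        · exact done1 1 (one_mem _) (by simp) rfl
        · exact done1 c hc.1 hcp (by rw [hcm]; simp)
      by_cases hQ2 : PM Q c
      · rcases hQ2 with rfl | rfl
        · exact done1 Q hc.1 hcp rfl
        · exact done1 1 (one_mem _) (by simp) (by rw [Units.val_neg, Matrix.neg_mul, hcm]; simp)
      exfalso
      obtain ⟨_, -, -, d, -, hd, hdc, hdQ, hdcn, hdQn, hdcQ⟩ := X.exists_in c Q hc.1 hQ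
      have ht'd : t' * d = d * t' := by
        refine Units.ext (ext_ag h2 (c := c) ?_ ?_)
        · rw [Units.val_mul, Units.val_mul, Matrix.mul_assoc, (plus_comm hdc).1, ← Matrix.mul_assoc, hp,
            Matrix.mul_assoc, hp, ← (plus_comm hdc).1]
        · rw [Units.val_mul, Units.val_mul, Matrix.mul_assoc, (plus_comm hdc).2, ← Matrix.mul_assoc, hm,
            Matrix.mul_assoc, ← (plus_comm hdc).2, ← Matrix.mul_assoc,
            show Q.1 * d.1 = d.1 * Q.1 from congrArg Units.val hdQ.symm, Matrix.mul_assoc, ← hm, ← Matrix.mul_assoc]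
      have ht'K : emb (t', (1 : GL κ F)) ∈ H := by
        rw [ht']
        have := mul_mem (O.emb_one_mem S (inv_mem hg)) (show emb (t, (1 : GL κ F)) ∈ H from ht)
        rwa [emb_mul, mul_one] at this
      obtain ⟨u, hu, hud, hut⟩ := hag hd ht'K ht'd
      have hdp : d.1 * Extra.plus d = Extra.plus d := by
        simp [Extra.plus, Matrix.mul_add, show d.1 * d.1 = 1 from congrArg Units.val hd.2.1, add_comm]
      have hcd : Extra.plus c * Extra.plus d = Extra.plus d * Extra.plus c := by
        have e : c.1 * d.1 = d.1 * c.1 := congrArg Units.val hdc.symm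
        simp [Extra.plus, Matrix.mul_add, Matrix.add_mul, e]; abel
      have hmd : Extra.minus c * Extra.plus d = Extra.plus d * Extra.minus c := by
        have e : c.1 * d.1 = d.1 * c.1 := congrArg Units.val hdc.symm
        simp [Extra.plus, Extra.minus, Matrix.mul_add, Matrix.add_mul, Matrix.mul_sub, Matrix.sub_mul, e]; abel
      have h1 : u.1 * (Extra.plus d * Extra.plus c) = (1 : F) • (Extra.plus d * Extra.plus c) := by
        rw [one_smul, ← Matrix.mul_assoc, ← hut, Matrix.mul_assoc, ← hcd, ← Matrix.mul_assoc, hp]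
      have h3 : Q.1 * (Extra.plus d * Extra.minus c) = u.1 * (Extra.plus d * Extra.minus c) := by
        conv_rhs => rw [← Matrix.mul_assoc, ← hut, Matrix.mul_assoc, ← hmd, ← Matrix.mul_assoc, hm, Matrix.mul_assoc]
        rw [hmd]
      have hdP : d.1 * (Extra.plus d * Extra.minus c) = Extra.plus d * Extra.minus c := by
        rw [← Matrix.mul_assoc, hdp]
      have hcP : c.1 * (Extra.plus d * Extra.minus c) = -(Extra.plus d * Extra.minus c) := by
        rw [← hmd, ← Matrix.mul_assoc, hcm, Matrix.neg_mul]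
      obtain ⟨δ, hδ, hδQ⟩ : ∃ δ : F, δ ≠ 0 ∧ Q.1 * (Extra.plus d * Extra.minus c) =
          δ • (Extra.plus d * Extra.minus c) := by
        rw [h3]
        rcases X.agree2 hd hc (fun e' => hdcn e'.symm) hu one_ne_zero h1 with h | h | h | h <;>
          rcases h with h | h <;> rw [h] <;>
          first
          | (refine ⟨1, one_ne_zero, ?_⟩; simp [Matrix.mul_assoc, hdP, hcP]; done)
          | (refine ⟨-1, neg_ne_zero.2 one_ne_zero, ?_⟩; simp [Matrix.mul_assoc, hdP, hcP]; done)
      rw [← plus_neg] at hδQ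
      rcases X.agree2 hd (iz_neg X hc) (fun h => hdcn ((PM.negl c).symm.trans h).symm) hQ hδ hδQ with h | h | h | h
      · exact hQ1 h
      · exact hdQn h.symm
      · exact hQ2 (h.trans (PM.negl c))
      · refine hdcQ ?_
        have h5 := (PM.refl c).mul (h.trans (show PM (d * -c) (d * c) by rw [mul_neg]; exact PM.negl _))
        rw [hdc, ← mul_assoc, hc.2.1, one_mul] at h5
        exact h5.symm
  exact key hy

/-- The centraliser of `Z0` in the overgroup normalises the group. -/
theorem Over.cent0 (hB : Blk κ F) (e : κ ≃ lam ⊕ lam) (O : Over R H) (S : Std R) {a b : GL κ F}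
    (h : emb (a, b) ∈ H) : emb (a, b) ∈ normalizer (R : Set (GL (κ ⊕ κ) F)) := by
  have h2 := S.two
  have ha := hB R H O S a b h
  have haO := ((emb_mem_Og h2).1 (O.high h)).1
  have hd := O.diag_mem S haO ha
  have h1 := mul_mem (inv_mem hd) h
  rw [emb_inv, emb_mul, inv_mul_cancel] at h1
  have hk := O.kernel hB e S (O.swap_mem S h1)
  have hs : (swp : GL (κ ⊕ κ) F) ∈ normalizer (R : Set (GL (κ ⊕ κ) F)) := le_normalizer S.hs
  have h3 := mul_mem (mul_mem hs (S.root_emb hk)) (inv_mem hs)
  rw [swp_emb, mul_inv_cancel_right] at h3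
  have h4 := mul_mem (S.diag_norm ha) h3
  rwa [emb_mul, mul_one, mul_inv_cancel_left] at h4

end Blocks

/-- An overgroup of the normaliser not containing the commutator subgroup normalises the group. -/
theorem Over.le_norm {ι : Type} [Fintype ι] [DecidableEq ι] {R H : Subgroup (GL ι F)} (hD : Dich κ F)
    (e : κ ≃ lam ⊕ lam) (hκ : 4 ≤ Fintype.card κ) (eι : ι ≃ κ ⊕ κ) (O : Over R H) :
    H ≤ normalizer (R : Set (GL ι F)) := by
  have hB := hD.blk e hκ
  have X := O.pre.ext O.big
  have h2 := O.pre.two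
  have L : Loc0 R H := by
    refine ⟨O.sub, fun z hz h hh hhz => ?_, fun z hz g hg hgz => ?_⟩
    · obtain ⟨Ψ, hΨ, hΨz, S⟩ := O.transport eι e hz
      obtain ⟨a, b, hab⟩ := comm_Z0 h2 (g := glEquiv Ψ h) (by rw [← hΨz, ← map_mul, hhz, map_mul])
      have := (O.map hΨ).cent0 hB e S (hab ▸ ⟨h, hh, rfl⟩ : emb (a, b) ∈ H.map (glEquiv Ψ).toMonoidHom)
      rw [← hab] at this
      exact (map_normalizer Ψ).1 this
    · have hgz' : g * -z = -z * g := by rw [mul_neg, neg_mul, hgz]
      have hnz := iz_neg O.pre hz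
      refine ⟨root (-z) g, O.low ⟨O.pre.root_norm hnz hg hgz', O.pre.root_Om O.big hnz hg hgz'⟩, ?_, ?_, ?_⟩
      · have := root_comm h2 hnz.2.1 hgz'
        rw [mul_neg, neg_mul] at this
        exact neg_injective this
      · have := rootM_minus h2 hnz.2.1 (c := -z) g
        rwa [show Extra.minus (-z) = Extra.plus z by rw [← plus_neg, neg_neg], ← root_val h2 hnz.2.1 hgz'] at this
      · have := rootM_plus h2 hnz.2.1 (c := -z) g
        rwa [plus_neg, ← root_val h2 hnz.2.1 hgz'] at this
  refine (L.ufix X fun z' _ hN hzz _ _ => X.exists_pairs ?_ hN hzz).le_normalizer X O.sub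
  have := O.big
  omega

end CfsgLib.MaxSub.Extra.Plus
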