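import Cfsg.Agent.Lib.MaxSub.Extra.Plus.Std
import Cfsg.Agent.Lib.MaxSub.Extra.Quad.Main
import Cfsg.Agent.Lib.MaxSub.Extra.Gen.Expand

/-!
The centraliser of an orthogonal `J` with `J² = -1` as matrices over a field with a square root of `-1`.
-/

set_option autoImplicit false
set_option linter.unusedSectionVars false
set_option linter.style.haveILetI false

namespace CfsgLib.MaxSub.Extra.Plus

open Matrix Subgroup
open CfsgLib.PauliFour (sc coe_sc sc_injective sc_comm)
open CfsgLib.MaxSub.QuadTwo (tau tauM IQ Scal Anti Sym)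

variable {F : Type*} [Field F] {κ : Type} [Fintype κ] [DecidableEq κ] {K : Type*} [Field K]

local notation "GL2" => GL (κ ⊕ κ) F
local notation "GL1" => GL κ F
local notation "M2" => Matrix (κ ⊕ κ) (κ ⊕ κ) F

/-- The standard element of square `-1`. -/
def JJ : GL2 := Z0 * swp

theorem JJ_val : (JJ : GL2).1 = fromBlocks (0 : Matrix κ κ F) 1 (-1) 0 := by
  rw [JJ, Units.val_mul, Z0_val, swp_val, fromBlocks_multiply]; simp

theorem JJ_sq : JJ * JJ = (-1 : GL2) := Units.ext (by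
  rw [Units.val_mul, JJ_val, fromBlocks_multiply, Units.val_neg, Units.val_one, ← fromBlocks_one, fromBlocks_neg]
  simp)

theorem emb_comm_JJ (a : GL1) : emb (a, a) * JJ = JJ * emb (a, a) := Units.ext (by
  rw [Units.val_mul, Units.val_mul, JJ_val, emb_val, fromBlocks_multiply, fromBlocks_multiply]; simp)

/-- The blocks of a matrix commuting with `JJ`. -/
theorem blocks_of_comm {X : M2} (h : X * (JJ : GL2).1 = (JJ : GL2).1 * X) :
    X.toBlocks₂₁ = -X.toBlocks₁₂ ∧ X.toBlocks₂₂ = X.toBlocks₁₁ := by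
  rw [JJ_val, ← fromBlocks_toBlocks X, fromBlocks_multiply, fromBlocks_multiply, fromBlocks_inj] at h
  simp at h
  obtain ⟨h1, h3, -, -⟩ := h
  exact ⟨h1.symm, h3.symm⟩

/-- A matrix commuting with `JJ`, over the bigger field. -/
def thM (φ : F →+* K) (u : Kˣ) (X : M2) : Matrix κ κ K :=
  X.toBlocks₁₁.map φ + (u : K) • X.toBlocks₁₂.map φ

variable (φ : F →+* K) (u : Kˣ)

theorem thM_mul (hu : (u : K) * u = -1) (X : M2) {Y : M2} (hY : Y * (JJ : GL2).1 = (JJ : GL2).1 * Y) :
    thM φ u (X * Y) = thM φ u X * thM φ u Y := by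
  obtain ⟨h1, h3⟩ := blocks_of_comm hY
  nth_rw 1 [← fromBlocks_toBlocks X, ← fromBlocks_toBlocks Y]
  rw [h1, h3, fromBlocks_multiply]
  simp only [thM, toBlocks_fromBlocks₁₁, toBlocks_fromBlocks₁₂, Matrix.mul_neg, Matrix.map_add φ (map_add φ),
    Matrix.map_neg φ (map_neg φ), Matrix.map_mul, Matrix.add_mul, Matrix.mul_add, Matrix.smul_mul, Matrix.mul_smul,
    smul_smul, hu, neg_one_smul, smul_add]
  abel

theorem thM_one : thM φ u (1 : M2) = 1 := by
  rw [thM, ← fromBlocks_one, toBlocks_fromBlocks₁₁, toBlocks_fromBlocks₁₂]; simp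

open scoped Classical in
/-- An element commuting with `JJ`, over the bigger field. -/
noncomputable def th (g : GL2) : GL κ K :=
  if h : IsUnit (thM φ u g.1) then h.unit else 1

variable {φ u}

theorem th_val (hu : (u : K) * u = -1) {g : GL2} (hg : g * JJ = JJ * g) : (th φ u g).1 = thM φ u g.1 := by
  have hgi : g⁻¹ * JJ = JJ * g⁻¹ := (Commute.inv_left (show Commute g JJ from hg)).eq
  have e1 : thM φ u g.1 * thM φ u (g⁻¹).1 = 1 := by
    rw [← thM_mul φ u hu _ (congrArg Units.val hgi), Units.mul_inv, thM_one]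
  have h : IsUnit (thM φ u g.1) := by
    refine (Matrix.isUnit_iff_isUnit_det _).2 (IsUnit.of_mul_eq_one ((thM φ u (g⁻¹).1).det) ?_)
    rw [← Matrix.det_mul, e1, Matrix.det_one]
  rw [th, dif_pos h, IsUnit.unit_spec]

theorem th_mul (hu : (u : K) * u = -1) {g g' : GL2} (hg : g * JJ = JJ * g) (hg' : g' * JJ = JJ * g') :
    th φ u (g * g') = th φ u g * th φ u g' := Units.ext (by
  rw [Units.val_mul, th_val hu hg, th_val hu hg', th_val hu (Pre.comm_comm hg hg'), Units.val_mul,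
    thM_mul φ u hu _ (congrArg Units.val hg')])

theorem th_one (hu : (u : K) * u = -1) : th φ u (1 : GL2) = 1 := Units.ext (by
  rw [th_val hu (by simp), Units.val_one, thM_one, Units.val_one])

theorem th_inv (hu : (u : K) * u = -1) {g : GL2} (hg : g * JJ = JJ * g) : th φ u g⁻¹ = (th φ u g)⁻¹ := by
  refine eq_inv_of_mul_eq_one_left ?_
  rw [← th_mul hu (Commute.inv_left (show Commute g JJ from hg)).eq hg, inv_mul_cancel, th_one hu]

theorem th_neg (hu : (u : K) * u = -1) {g : GL2} (hg : g * JJ = JJ * g) : th φ u (-g) = -th φ u g := Units.ext (by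
  rw [Units.val_neg, th_val hu hg, th_val hu (by rw [neg_mul, mul_neg, hg]), Units.val_neg]
  simp only [thM, toBlocks₁₁, toBlocks₁₂]
  ext i j
  simp
  ring)

theorem th_diag (hu : (u : K) * u = -1) (a : GL1) :
    th φ u (emb (a, a)) = Matrix.GeneralLinearGroup.map φ a := Units.ext (by
  rw [th_val hu (emb_comm_JJ a), thM, emb_val, toBlocks_fromBlocks₁₁, toBlocks_fromBlocks₁₂]
  simp)

theorem th_JJ (hu : (u : K) * u = -1) : th φ u (JJ : GL2) = sc u := Units.ext (by
  rw [th_val hu rfl, thM, JJ_val, toBlocks_fromBlocks₁₁, toBlocks_fromBlocks₁₂, coe_sc]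
  simp)

/-- The conjugate of an orthogonal element is the inverse transpose. -/
theorem th_conj (h2 : (2 : F) ≠ 0) (hu : (u : K) * u = -1) {g : GL2} (hg : g * JJ = JJ * g) (hgO : g ∈ Og (κ ⊕ κ) F) :
    (th φ u g⁻¹).1 = (g.1.toBlocks₁₁.map φ - (u : K) • g.1.toBlocks₁₂.map φ)ᵀ := by
  rw [th_val hu (Commute.inv_left (show Commute g JJ from hg)).eq, inv_eq_transpose h2 hgO]
  obtain ⟨h1, -⟩ := blocks_of_comm (congrArg Units.val hg)
  rw [thM, show g.1ᵀ.toBlocks₁₁ = g.1.toBlocks₁₁ᵀ from rfl, show g.1ᵀ.toBlocks₁₂ = g.1.toBlocks₂₁ᵀ from rfl, h1]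
  ext i j
  simp [sub_eq_add_neg]

theorem th_inj (h2 : (2 : F) ≠ 0) (hu : (u : K) * u = -1) {g g' : GL2} (hg : g * JJ = JJ * g)
    (hg' : g' * JJ = JJ * g') (hgO : g ∈ Og (κ ⊕ κ) F) (hg'O : g' ∈ Og (κ ⊕ κ) F) (h : th φ u g = th φ u g') :
    g = g' := by
  have hi : g'⁻¹ * JJ = JJ * g'⁻¹ := (Commute.inv_left (show Commute g' JJ from hg')).eq
  obtain ⟨x, hx⟩ : ∃ x, x = g'⁻¹ * g := ⟨_, rfl⟩
  have hxJ : x * JJ = JJ * x := hx ▸ Pre.comm_comm hi hg
  have h1 : th φ u x = 1 := by rw [hx, th_mul hu hi hg, th_inv hu hg', h, inv_mul_cancel]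
  have e1 := congrArg Units.val h1
  rw [th_val hu hxJ, Units.val_one, thM] at e1
  have e3 := congrArg Units.val ((th_inv hu hxJ).trans (by rw [h1, inv_one] : (th φ u x)⁻¹ = (1 : GL κ K)))
  rw [th_conj h2 hu hxJ (hx ▸ mul_mem (inv_mem hg'O) hgO), Units.val_one] at e3
  have e4 := congrArg Matrix.transpose e3
  rw [transpose_transpose, transpose_one] at e4
  have h2K : (2 : K) ≠ 0 := by
    intro e
    exact h2 (φ.injective (by rw [map_ofNat, map_zero, e]))
  have hA : x.1.toBlocks₁₁.map φ = 1 := by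
    refine smul_right_injective _ h2K ?_
    show (2 : K) • _ = (2 : K) • _
    rw [two_smul, two_smul]
    linear_combination (norm := module) e1 + e4
  have hB : (u : K) • x.1.toBlocks₁₂.map φ = 0 := by rwa [hA, add_eq_left] at e1
  have hB' := (smul_eq_zero.1 hB).resolve_left u.ne_zero
  obtain ⟨h12, h22⟩ := blocks_of_comm (congrArg Units.val hxJ)
  have hA' : x.1.toBlocks₁₁ = 1 := Matrix.map_injective φ.injective (by
    show x.1.toBlocks₁₁.map φ = (1 : Matrix κ κ F).map φ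
    rw [hA]; simp)
  have hB'' : x.1.toBlocks₁₂ = 0 := Matrix.map_injective φ.injective (by
    show x.1.toBlocks₁₂.map φ = (0 : Matrix κ κ F).map φ
    rw [hB']; simp)
  have hx1 : x = 1 := Units.ext (by
    rw [← fromBlocks_toBlocks x.1, h12, h22, hA', hB'', neg_zero, fromBlocks_one, Units.val_one])
  rw [hx, inv_mul_eq_one] at hx1
  exact hx1.symm

/-- The image is unitary. -/
theorem th_unitary (h2 : (2 : F) ≠ 0) (hu : (u : K) * u = -1) {σ : K →+* K} (hσ : ∀ a, σ (φ a) = φ a)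
    (hσu : σ u = -(u : K)) {g : GL2} (hg : g * JJ = JJ * g) (hgO : g ∈ Og (κ ⊕ κ) F) :
    ((th φ u g).1.map σ)ᵀ * (th φ u g).1 = 1 := by
  have e : ((th φ u g).1.map σ)ᵀ = (th φ u g⁻¹).1 := by
    rw [th_conj h2 hu hg hgO, th_val hu hg, thM]
    congr 1
    ext i j
    simp [hσ, hσu, sub_eq_add_neg]
  rw [e, th_inv hu hg, Units.inv_mul]

/-- The element acting as `J` on one eigenspace goes to the square root of the involution. -/
theorem th_root (h2 : (2 : F) ≠ 0) (h2K : (2 : K) ≠ 0) (hu : (u : K) * u = -1) {r : GL2} (hr : r * r = 1)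
    (hrJ : r * JJ = JJ * r) : (th φ u (root r JJ)).1 = tauM u (th φ u r) := by
  have hrc : root r (JJ : GL2) * JJ = JJ * root r JJ := by
    have e := root_conj h2 hr hrJ.symm (JJ : GL2)
    rw [show JJ * r * JJ⁻¹ = r by rw [← hrJ, mul_inv_cancel_right], mul_inv_cancel_right] at e
    exact (mul_inv_eq_iff_eq_mul.1 e).symm
  rw [th_val hu hrc, root_val h2 hr hrJ.symm, tauM, th_val hu hrJ, rootM, Extra.plus, Extra.minus]
  obtain ⟨h1, h3⟩ := blocks_of_comm (congrArg Units.val hrJ)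
  rw [← fromBlocks_toBlocks r.1, h1, h3, JJ_val, ← fromBlocks_one, sub_eq_add_neg, fromBlocks_neg, fromBlocks_add,
    fromBlocks_add, fromBlocks_multiply, fromBlocks_add, fromBlocks_smul]
  simp only [thM, toBlocks_fromBlocks₁₁, toBlocks_fromBlocks₁₂, Matrix.zero_mul, Matrix.one_mul, zero_add, neg_zero,
    neg_neg]
  have h2' : φ (2 : F)⁻¹ = (2 : K)⁻¹ := by rw [map_inv₀, map_ofNat]
  ext i j
  simp [h2', Matrix.one_apply, map_ofNat]
  split_ifs <;> simp [map_ofNat] <;> field_simp <;>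
    first
    | linear_combination φ (r.1.toBlocks₁₂ i j) * hu
    | linear_combination -φ (r.1.toBlocks₁₂ i j) * hu

/-- The image of the centraliser of `JJ` in the group. -/
noncomputable def RJ (hu : (u : K) * u = -1) (R : Subgroup GL2) : Subgroup (GL κ K) where
  carrier := {x | ∃ r ∈ R, r * JJ = JJ * r ∧ x = th φ u r}
  one_mem' := ⟨1, one_mem R, by simp, (th_one hu).symm⟩
  mul_mem' := by
    rintro _ _ ⟨a, ha, haJ, rfl⟩ ⟨b, hb, hbJ, rfl⟩
    exact ⟨a * b, mul_mem ha hb, Pre.comm_comm haJ hbJ, (th_mul hu haJ hbJ).symm⟩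
  inv_mem' := by
    rintro _ ⟨a, ha, haJ, rfl⟩
    exact ⟨a⁻¹, inv_mem ha, (Commute.inv_left (show Commute a JJ from haJ)).eq, (th_inv hu haJ).symm⟩

theorem mem_RJ {hu : (u : K) * u = -1} {R : Subgroup GL2} {x : GL κ K} :
    x ∈ RJ (φ := φ) hu R ↔ ∃ r ∈ R, r * JJ = JJ * r ∧ x = th φ u r := Iff.rfl

theorem Std.JJ_mem {R : Subgroup GL2} (S : Std R) : (JJ : GL2) ∈ R := mul_mem S.hZ S.hs

theorem Std.cent_JJ {R : Subgroup GL2} (S : Std R) {r : GL2} (hr : r ∈ R) (h : r * JJ = JJ * r) :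
    ∃ e ∈ side R, r = emb (e, e) ∨ r = emb (e, e) * JJ := by
  haveI : Nonempty κ := by
    by_contra hne
    rw [not_nonempty_iff] at hne
    exact S.ncard1 (by simp)
  rcases S.pre.comm r hr Z0 S.hZ with hc | hc
  · obtain ⟨e, he, rfl | rfl⟩ := S.cent_cases hr hc
    · exact ⟨e, he, Or.inl rfl⟩
    · exfalso
      have h' := congrArg Units.val h
      rw [Units.val_mul, Units.val_mul, emb_val, JJ_val, fromBlocks_multiply, fromBlocks_multiply,
        fromBlocks_inj] at h'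
      simp at h'
      exact S.ne_neg1 e (Units.ext (by simpa using h'))
  · obtain ⟨e, he, rfl | rfl⟩ := S.anti_cases hr hc
    · exfalso
      have h' := congrArg Units.val h
      simp only [Units.val_mul, emb_val, swp_val, JJ_val, fromBlocks_multiply, fromBlocks_inj] at h'
      simp at h'
      exact S.ne_neg1 e (Units.ext (by simpa using h'.1.symm))
    · refine ⟨e, he, Or.inr ?_⟩
      rw [JJ, ← mul_assoc, Z0, emb_mul, mul_one, mul_neg_one]

variable {R : Subgroup (GL (κ ⊕ κ) F)}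

theorem RJ_sym (h2K : (2 : K) ≠ 0) (hu : (u : K) * u = -1) (S : Std R) (hκ : Fintype.card κ = 8)
    (hirr : ∀ M : Matrix κ κ K, (∀ s ∈ side R, M * (s : GL1).1.map φ = (s : GL1).1.map φ * M) →
      ∃ c : K, M = c • 1) :
    Sym (RJ (φ := φ) hu R) u ∧ Nat.card (RJ (φ := φ) hu R) = 256 := by
  classical
  have h2 := S.two
  haveI := S.side_finite
  haveI : Nonempty κ := Fintype.card_pos_iff.1 (by rw [hκ]; norm_num)
  let ψ : side R × Bool → RJ (φ := φ) hu R := fun x =>
    ⟨th φ u (emb (x.1.1, x.1.1) * if x.2 then JJ else 1), _,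
      mul_mem (mem_side.1 x.1.2) (by split_ifs; exacts [S.JJ_mem, one_mem R]),
      Pre.comm_comm (emb_comm_JJ _) (by split_ifs <;> simp), rfl⟩
  have hψ : Function.Bijective ψ := by
    constructor
    · rintro ⟨a, i⟩ ⟨b, j⟩ h
      have hm : ∀ (e : side R) (k : Bool), emb ((e : GL1), (e : GL1)) * (if k then JJ else 1) ∈ R ∧
          emb ((e : GL1), (e : GL1)) * (if k then JJ else 1) * JJ =
            JJ * (emb ((e : GL1), (e : GL1)) * (if k then JJ else 1)) := fun e k =>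
        ⟨mul_mem (mem_side.1 e.2) (by split_ifs; exacts [S.JJ_mem, one_mem R]),
          Pre.comm_comm (emb_comm_JJ _) (by split_ifs <;> simp)⟩
      have e := th_inj h2 hu (hm a i).2 (hm b j).2 (S.pre.le (hm a i).1) (S.pre.le (hm b j).1)
        (congrArg Subtype.val h)
      have hv := congrArg Units.val e
      cases i <;> cases j <;> simp [emb_val, JJ_val, fromBlocks_multiply] at hv
      all_goals exact Prod.ext (Subtype.ext (Units.ext hv)) rfl
    · rintro ⟨_, r, hr, hrJ, rfl⟩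
      obtain ⟨e, he, rfl | rfl⟩ := S.cent_JJ hr hrJ
      · exact ⟨(⟨e, he⟩, false), Subtype.ext (by simp [ψ])⟩
      · exact ⟨(⟨e, he⟩, true), Subtype.ext (by simp [ψ])⟩
  have hc : Nat.card (RJ (φ := φ) hu R) = 256 := by
    rw [← Nat.card_congr (Equiv.ofBijective ψ hψ), Nat.card_prod, show Nat.card Bool = 2 by simp]
    have hd := (S.pre.ext S.big).degree (by
      haveI := S.pre.fin
      haveI : Fact (Nat.Prime 2) := ⟨Nat.prime_two⟩
      refine IsPGroup.iff_card.1 fun x => ⟨2, Subtype.ext ?_⟩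
      show (x : GL2) ^ 4 = 1
      rcases S.pre.sq x x.2 with e | e <;> rw [show (4 : ℕ) = 2 + 2 from rfl, pow_add, pow_two, e] <;> simp)
    have := S.side_card
    rw [Fintype.card_sum, hκ] at hd
    omega
  refine ⟨⟨h2K, ?_, Finite.of_equiv _ (Equiv.ofBijective ψ hψ), hu, ⟨JJ, S.JJ_mem, rfl, (th_JJ hu).symm⟩,
    ?_, ?_, fun M hM => hirr M fun s hs => ?_, hc.ge⟩, hc⟩
  · rw [hκ, show ((8 : ℕ) : K) = 2 * 2 * 2 by norm_num]
    exact mul_ne_zero (mul_ne_zero h2K h2K) h2K
  · rintro _ ⟨a, ha, haJ, rfl⟩ _ ⟨b, hb, hbJ, rfl⟩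
    rcases S.pre.comm a ha b hb with e | e
    · left
      show _ = _
      rw [← th_mul hu haJ hbJ, ← th_mul hu hbJ haJ, e]
    · right
      show _ = _
      rw [← th_mul hu haJ hbJ, ← th_mul hu hbJ haJ, ← th_neg hu (Pre.comm_comm hbJ haJ), e]
  · rintro _ ⟨a, ha, haJ, rfl⟩
    rw [← th_mul hu haJ haJ]
    rcases S.pre.sq a ha with e | e <;> rw [e]
    · exact Or.inl (th_one hu)
    · exact Or.inr (by rw [th_neg hu (by simp), th_one hu])
  · have h := hM (th φ u (emb (s, s))) ⟨_, mem_side.1 hs, emb_comm_JJ s, rfl⟩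
    rw [th_diag hu] at h
    exact h

end CfsgLib.MaxSub.Extra.Plus
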